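import Cfsg.Agent.Lib.LocalEven.SThreeGraph

/-! Amalgams of two groups with the symmetric group of degree 3 over the 2-core in which exactly one of the
groups centralizes `Ω₁(Z(T))`: what can be said inside the base edge. -/

set_option autoImplicit false
set_option linter.all false

namespace CfsgLib.Goldschmidt

open Subgroup CfsgLib.LocalEven CfsgLib.SThree
open scoped commutatorElement

universe u

variable {G : Type u} [Group G]

/-- `M₁` moves `Ω₁(Z(T))` and `M₂` centralizes it. -/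
structure GAmal (M₁ M₂ T : Subgroup G) : Prop where
  h₁ : IsSThree M₁ T
  h₂ : IsSThree M₂ T
  inf : M₁ ⊓ M₂ = T
  gen : M₁ ⊔ M₂ = ⊤
  c₁ : M₁ ⊓ centralizer (Q M₁ : Set G) ≤ Q M₁
  c₂ : M₂ ⊓ centralizer (Q M₂ : Set G) ≤ Q M₂
  a₁ : ¬ M₁ ≤ centralizer (Zt T : Set G)
  z₂ : M₂ ≤ centralizer (Zt T : Set G)
  core : ∀ N : Subgroup G, N.Normal → N ≤ T → N = ⊥

/-- A subgroup centralized by `g` is normalized by it. -/
theorem normalizer_of_centralizer {X : Subgroup G} {g : G} (h : g ∈ centralizer (X : Set G)) :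
    g ∈ normalizer (X : Set G) :=
  Subgroup.centralizer_le_normalizer _ h

theorem centralizer_singleton_of {X : Subgroup G} {v : G} (hv : v ∈ X) :
    centralizer (X : Set G) ≤ centralizer ({v} : Set G) :=
  centralizer_le (Set.singleton_subset_iff.mpr hv)

theorem commute_of_le_centralizer {X Y : Subgroup G} (h : X ≤ centralizer (Y : Set G)) {x y : G} (hx : x ∈ X)
    (hy : y ∈ Y) : x * y = y * x :=
  (mem_centralizer_iff.mp (h hx) y hy).symm

/-- Whoever squares into a central element of order two modulo which it acts trivially, squares to the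
centralizer. -/
theorem sq_centralizes {g q ε : G} (h : g * q * g⁻¹ = q * ε) (hgε : g * ε = ε * g) (hε : ε * ε = 1) :
    g * g * q = q * (g * g) := by
  have h1 : g * g * q * (g * g)⁻¹ = q := by
    calc g * g * q * (g * g)⁻¹ = g * (g * q * g⁻¹) * g⁻¹ := by group
      _ = g * (q * ε) * g⁻¹ := by rw [h]
      _ = g * q * g⁻¹ * (g * ε * g⁻¹) := by group
      _ = q * (ε * ε) := by rw [h, hgε]; group
      _ = q := by rw [hε, mul_one]
  exact mul_inv_eq_iff_eq_mul.mp h1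

namespace GAmal

variable {M₁ M₂ T : Subgroup G}

theorem map (h : GAmal M₁ M₂ T) {G' : Type*} [Group G'] (e : G ≃* G') :
    GAmal (M₁.map e.toMonoidHom) (M₂.map e.toMonoidHom) (T.map e.toMonoidHom) := by
  have hc : ∀ P : Subgroup G, P ⊓ centralizer (Q P : Set G) ≤ Q P →
      P.map e.toMonoidHom ⊓ centralizer (Q (P.map e.toMonoidHom) : Set G') ≤ Q (P.map e.toMonoidHom) := by
    intro P hP
    have h1 := map_mono (f := e.toMonoidHom) hP
    rwa [Subgroup.map_inf _ _ e.toMonoidHom e.injective, centralizer_map, pCoreOf_map] at h1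
  refine ⟨h.h₁.map e, h.h₂.map e, ?_, ?_, hc _ h.c₁, hc _ h.c₂, ?_, ?_, fun N hN hNT => ?_⟩
  · rw [← Subgroup.map_inf _ _ e.toMonoidHom e.injective, h.inf]
  · rw [← Subgroup.map_sup, h.gen, map_top_of_surjective _ e.surjective]
  · intro hle
    rw [← Zt_map, ← centralizer_map, map_le_map_iff_of_injective e.injective] at hle
    exact h.a₁ hle
  · rw [← Zt_map, ← centralizer_map]
    exact map_mono h.z₂
  · have h1 := h.core (N.comap e.toMonoidHom) (hN.comap _) ((comap_mono hNT).trans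
      (by rw [comap_map_eq_self_of_injective e.injective]))
    have h2 := Subgroup.map_comap_eq_self_of_surjective (f := e.toMonoidHom) e.surjective N
    rw [← h2, h1, Subgroup.map_bot]

variable (h : GAmal M₁ M₂ T)
include h

theorem eq_bot_of {X : Subgroup G} (hX : X ≤ T) (h1 : M₁ ≤ normalizer (X : Set G))
    (h2 : M₂ ≤ normalizer (X : Set G)) : X = ⊥ :=
  h.core X (normalizer_eq_top_iff.mp (top_le_iff.mp (h.gen ▸ sup_le h1 h2))) hX

/-- Nothing in `T` is central in both groups. -/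
theorem eq_one_of {v : G} (hv : v ∈ T) (h1 : M₁ ≤ centralizer ({v} : Set G))
    (h2 : M₂ ≤ centralizer ({v} : Set G)) : v = 1 := by
  have key : ∀ M : Subgroup G, M ≤ centralizer ({v} : Set G) → M ≤ normalizer ((zpowers v : Subgroup G) : Set G) := by
    intro M hM g hg
    refine Subgroup.centralizer_le_normalizer _ (mem_centralizer_iff.mpr ?_)
    rintro _ ⟨k, rfl⟩
    have hc : Commute g v := mem_centralizer_singleton_iff.mp (hM hg)
    exact (hc.zpow_right k).eq.symm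
  exact zpowers_eq_bot.mp (h.eq_bot_of (zpowers_le.mpr hv) (key _ h1) (key _ h2))

theorem Q_ne : Q M₁ ≠ Q M₂ := fun he => by
  have h1 := h.eq_bot_of h.h₁.Q_le_T h.h₁.Q_normal (he ▸ h.h₂.Q_normal)
  have h2 := h.c₁
  rw [h1] at h2
  have h3 : M₁ ≤ ⊥ := (le_inf le_rfl fun x _ => mem_centralizer_iff.mpr fun y hy => by
    rw [mem_bot.mp hy]; simp).trans h2
  obtain ⟨g, hg, hgT⟩ := h.h₁.exists_out
  exact hgT (by rw [mem_bot.mp (h3 hg)]; exact T.one_mem)

theorem card_Q : Nat.card ↥(Q M₁) = Nat.card ↥(Q M₂) := by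
  have := h.h₁.card_T
  have := h.h₂.card_T
  omega

theorem not_Q₁_le : ¬ Q M₁ ≤ Q M₂ := fun hle => by
  haveI := h.h₂.finQ
  exact h.Q_ne (eq_of_card_le hle h.card_Q.ge)

theorem not_Q₂_le : ¬ Q M₂ ≤ Q M₁ := fun hle => by
  haveI := h.h₁.finQ
  exact h.Q_ne (eq_of_card_le hle h.card_Q.le).symm

/-- `Z₂ = Ω₁(Z(T))`. -/
theorem ZP₂ : ZP M₂ = Zt T :=
  le_antisymm (h.h₂.ZP_le (h.z₂.trans (Subgroup.centralizer_le_normalizer _)) le_rfl) h.h₂.Zt_le_ZP

theorem Zt_ne_bot : Zt T ≠ ⊥ := fun hb =>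
  h.a₁ fun x _ => mem_centralizer_iff.mpr fun y hy => by rw [hb] at hy; rw [mem_bot.mp hy]; simp

theorem fix_eq_one {v : G} (hv : v ∈ Zt T) (h1 : M₁ ≤ centralizer ({v} : Set G)) : v = 1 :=
  h.eq_one_of (Zt_le T hv) h1 (h.z₂.trans (centralizer_singleton_of hv))

/-- The commutator of `Z₁` with an element of `T` is in `Ω₁(Z(T))`. -/
theorem comm_mem {z t : G} (hz : z ∈ ZP M₁) (ht : t ∈ T) : z * (t * z * t⁻¹) ∈ Zt T := by
  by_cases htQ : t ∈ Q M₁
  · rw [commute_of_le_centralizer (h.h₁.Q_le_centralizer_ZP h.c₁) htQ hz, mul_inv_cancel_right,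
      h.h₁.ZP_sq h.c₁ hz]
    exact one_mem _
  have hz' : t * z * t⁻¹ ∈ ZP M₁ := (mem_normalizer_iff.mp (h.h₁.ZP_normal (h.h₁.le ht)) z).mp hz
  refine (h.h₁.ZP_inf_centralizer h.c₁ ht htQ).le (Subgroup.mem_inf.mpr
    ⟨mul_mem hz hz', mem_centralizer_singleton_iff.mpr ?_⟩)
  haveI := h.h₁.finT
  have hq : t * t * z = z * (t * t) :=
    commute_of_le_centralizer (h.h₁.Q_le_centralizer_ZP h.c₁) (sq_mem_of_card_two h.h₁.Q_le_T h.h₁.card_T ht) hz
  have h5 : t * (z * (t * z * t⁻¹)) * t⁻¹ = z * (t * z * t⁻¹) := by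
    calc t * (z * (t * z * t⁻¹)) * t⁻¹ = (t * z * t⁻¹) * (t * t * z * t⁻¹ * t⁻¹) := by group
      _ = (t * z * t⁻¹) * z := by rw [hq]; group
      _ = z * (t * z * t⁻¹) := h.h₁.ZP_comm h.c₁ hz' hz
  exact (mul_inv_eq_iff_eq_mul.mp h5).symm

/-- The two ways to write the commutator. -/
theorem comm_mem' {z t : G} (hz : z ∈ ZP M₁) (ht : t ∈ T) : t * z * t⁻¹ * z ∈ Zt T := by
  rw [h.h₁.ZP_comm h.c₁ ((mem_normalizer_iff.mp (h.h₁.ZP_normal (h.h₁.le ht)) z).mp hz) hz]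
  exact h.comm_mem hz ht

/-- `Z₁` lies in `Q₂`. -/
theorem ZP₁_le_Q₂ : ZP M₁ ≤ Q M₂ := by
  intro z hz
  by_contra hzQ
  haveI := h.h₂.fin
  haveI : Fact (Nat.Prime 2) := ⟨Nat.prime_two⟩
  have hcen : ∀ g ∈ M₂, ∀ v ∈ Zt T, g * v = v * g := fun g hg v hv => commute_of_le_centralizer h.z₂ hg hv
  have hQN := h.h₂.Q_normal
  -- the elements acting trivially on `Q₂` modulo `Ω₁(Z(T))`
  let S : Subgroup G :=
    { carrier := {g | g ∈ M₂ ∧ ∀ q ∈ Q M₂, q⁻¹ * (g * q * g⁻¹) ∈ Zt T}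
      one_mem' := ⟨M₂.one_mem, fun q _ => by simp⟩
      mul_mem' := by
        rintro a b ⟨ha, ha'⟩ ⟨hb, hb'⟩
        refine ⟨M₂.mul_mem ha hb, fun q hq => ?_⟩
        have h1 := ha' q hq
        have h2 := hb' q hq
        have hε := hcen a ha _ h2
        have e : q⁻¹ * (a * b * q * (a * b)⁻¹) = q⁻¹ * (a * q * a⁻¹) * (q⁻¹ * (b * q * b⁻¹)) := by
          calc q⁻¹ * (a * b * q * (a * b)⁻¹) = q⁻¹ * (a * q * (q⁻¹ * (b * q * b⁻¹)) * a⁻¹) := by group
            _ = q⁻¹ * (a * q * a⁻¹) * (a * (q⁻¹ * (b * q * b⁻¹)) * a⁻¹) := by group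
            _ = _ := by rw [hε, mul_inv_cancel_right]
        rw [e]
        exact mul_mem h1 h2
      inv_mem' := by
        rintro a ⟨ha, ha'⟩
        refine ⟨M₂.inv_mem ha, fun q hq => ?_⟩
        have hq' : a⁻¹ * q * a ∈ Q M₂ := (mem_normalizer_iff''.mp (hQN ha) q).mp hq
        have h1 := ha' _ hq'
        have e : q⁻¹ * (a⁻¹ * q * a⁻¹⁻¹) = ((a⁻¹ * q * a)⁻¹ * (a * (a⁻¹ * q * a) * a⁻¹))⁻¹ := by group
        rw [e]
        exact inv_mem h1 }
  have hzS : z ∈ S := by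
    refine ⟨h.h₂.le (h.h₁.Q_le_T (h.h₁.ZP_le_Q h.c₁ hz)), fun q hq => ?_⟩
    have h1 := h.comm_mem' hz (T.inv_mem (h.h₂.Q_le_T hq))
    have hzi : z⁻¹ = z := inv_eq_of_mul_eq_one_right (h.h₁.ZP_sq h.c₁ hz)
    rw [hzi]
    simpa [mul_assoc] using h1
  have hSN : M₂ ≤ normalizer (S : Set G) := by
    refine le_normalizer_iff.mpr fun k hk g hg => ⟨M₂.mul_mem (M₂.mul_mem hk hg.1) (M₂.inv_mem hk), fun q hq => ?_⟩
    have hq' : k⁻¹ * q * k ∈ Q M₂ := (mem_normalizer_iff''.mp (hQN hk) q).mp hq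
    have h1 := hg.2 _ hq'
    have hε := hcen k hk _ h1
    have e : q⁻¹ * (k * g * k⁻¹ * q * (k * g * k⁻¹)⁻¹) =
        k * ((k⁻¹ * q * k)⁻¹ * (g * (k⁻¹ * q * k) * g⁻¹)) * k⁻¹ := by group
    rw [e, hε, mul_inv_cancel_right]
    exact h1
  have hsq : ∀ g ∈ S, g * g ∈ Q M₂ := by
    intro g hg
    refine h.c₂ (Subgroup.mem_inf.mpr ⟨M₂.mul_mem hg.1 hg.1, mem_centralizer_iff.mpr fun q hq => ?_⟩)
    exact (sq_centralizes (mul_inv_cancel_left q (g * q * g⁻¹)).symm (hcen g hg.1 _ (hg.2 q hq))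
      (omegaOne_center_sq (hg.2 q hq))).symm
  have hp : IsPGroup 2 ↥S := by
    intro g
    obtain ⟨k, hk⟩ := (CfsgLib.LocalEvenB.isPGroup_pCoreOf (p := 2) M₂) ⟨g.1 * g.1, hsq g.1 g.2⟩
    refine ⟨k + 1, Subtype.ext ?_⟩
    have hk' : (g.1 * g.1) ^ 2 ^ k = 1 := congrArg Subtype.val hk
    rw [SubgroupClass.coe_pow, pow_succ', pow_mul, pow_two]
    exact hk'
  have hSQ : S ≤ Q M₂ := by
    have hSM : S ≤ M₂ := fun g hg => hg.1
    haveI : (S.subgroupOf M₂).Normal := Subgroup.normal_subgroupOf_of_le_normalizer hSN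
    rw [← map_subgroupOf_eq_of_le hSM]
    exact map_mono (CfsgLib.Core.le_pCore (hp.comap_subtype (K := M₂)))
  exact hzQ (hSQ hzS)

end GAmal

end CfsgLib.Goldschmidt
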