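import Cfsg.Agent.Lib.LocalEven.Goldschmidt.Walk

/-! Facts about critical walks and the depth-one kernel, used for every critical distance. -/

set_option autoImplicit false
set_option linter.all false

namespace CfsgLib.Goldschmidt

open Subgroup CfsgLib.LocalEven CfsgLib.SThree
open scoped commutatorElement

universe u

variable {G : Type u} [Group G] {M₁ M₂ T : Subgroup G}

/-- A nontrivial normal subgroup of a 2-group contains a central involution. -/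
theorem exists_fixed_involution {S K : Subgroup G} [Finite S] (hS : IsPGroup 2 S) (hKS : K ≤ S)
    (hN : S ≤ normalizer (K : Set G)) (hK : K ≠ ⊥) :
    ∃ u ∈ K, u ≠ 1 ∧ u * u = 1 ∧ S ≤ centralizer ({u} : Set G) := by
  haveI : Fact (Nat.Prime 2) := ⟨Nat.prime_two⟩
  haveI : (K.subgroupOf S).Normal := Subgroup.normal_subgroupOf_of_le_normalizer hN
  have hne : K.subgroupOf S ≠ ⊥ := by
    rw [Ne, subgroupOf_eq_bot]
    intro hd
    exact hK (le_bot_iff.mp (hd le_rfl hKS))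
  set C := K.subgroupOf S ⊓ Subgroup.center S
  have hC : C ≠ ⊥ := CfsgLib.PGroups.inf_center_ne_bot hS hne
  have h2 : 2 ∣ Nat.card C := by
    rcases (hS.to_subgroup C).card_eq_or_dvd with e | e
    · exact absurd (Subgroup.card_eq_one.mp e) hC
    · exact e
  obtain ⟨⟨⟨w, hwS⟩, hwC⟩, hw⟩ := exists_prime_orderOf_dvd_card' (G := C) 2 h2
  rw [orderOf_mk, orderOf_mk] at hw
  obtain ⟨h1, h3⟩ := Subgroup.mem_inf.mp hwC
  refine ⟨w, mem_subgroupOf.mp h1, fun e => ?_, ?_, fun t ht => ?_⟩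
  · rw [e, orderOf_one] at hw; omega
  · rw [← pow_two, ← hw, pow_orderOf_eq_one]
  · exact mem_centralizer_singleton_iff.mpr (congrArg Subtype.val (mem_center_iff.mp h3 ⟨t, ht⟩))

theorem cases_of_card_two {X : Subgroup G} (hX : Nat.card X = 2) {u : G} (hu : u ∈ X) (hu1 : u ≠ 1) {y : G}
    (hy : y ∈ X) : y = 1 ∨ y = u := by
  haveI : Finite X := Nat.finite_of_card_ne_zero (by omega)
  have h : Nat.card ↥X = 2 * Nat.card ↥(⊥ : Subgroup G) := by rw [Subgroup.card_bot, hX]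
  by_cases hy1 : y = 1
  · exact Or.inl hy1
  have := (mul_mem_of_card_two (bot_le : ⊥ ≤ X) h (inv_mem hu) hy).mpr (by simp [hu1, hy1])
  exact Or.inr (inv_mul_eq_one.mp (mem_bot.mp this)).symm

theorem eq_of_card_two {X Y : Subgroup G} (hX : Nat.card X = 2) (hY : Nat.card Y = 2) {u : G} (h1 : u ∈ X)
    (h2 : u ∈ Y) (hu : u ≠ 1) : X = Y := by
  ext y
  constructor <;> intro hy
  · rcases cases_of_card_two hX h1 hu hy with rfl | rfl
    exacts [one_mem _, h2]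
  · rcases cases_of_card_two hY h2 hu hy with rfl | rfl
    exacts [one_mem _, h1]

/-- The elements in the cores of a vertex and of all its neighbours. -/
def nbE (x : Vtx M₁ M₂) : Subgroup G := QQ x ⊓ ⨅ (a : Vtx M₁ M₂) (_ : Adj x a), QQ a

theorem mem_nbE {x : Vtx M₁ M₂} {q : G} : q ∈ nbE x ↔ q ∈ QQ x ∧ ∀ a, Adj x a → q ∈ QQ a := by
  simp [nbE, Subgroup.mem_inf, Subgroup.mem_iInf]

theorem nbE_le (x : Vtx M₁ M₂) : nbE x ≤ QQ x := inf_le_left

theorem nbE_le_nbr {x a : Vtx M₁ M₂} (h : Adj x a) : nbE x ≤ QQ a := fun _ hq => (mem_nbE.mp hq).2 a h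

namespace GAmal

variable (h : GAmal M₁ M₂ T)
include h

theorem conj_nbE {g : G} {x : Vtx M₁ M₂} (hg : g • x = x) {q : G} (hq : q ∈ nbE x) : g * q * g⁻¹ ∈ nbE x := by
  obtain ⟨h1, h2⟩ := mem_nbE.mp hq
  refine mem_nbE.mpr ⟨(h.conj_QQ hg).mp h1, fun a ha => ?_⟩
  have h3 : Adj x (g⁻¹ • a) := adj_of_fix (by rw [inv_smul_eq_iff, hg]) ha
  have h4 := (h.mem_QQ_smul g).mp (h2 _ h3)
  rwa [smul_inv_smul] at h4

theorem card_le_nbE {x : Vtx M₁ M₂} {X : Subgroup G} (hX : X ≤ QQ x) : Nat.card X ≤ 8 * Nat.card ↥(X ⊓ nbE x) := by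
  obtain ⟨a, ha⟩ := exists_adj x
  obtain ⟨a', a'', ha', ha'', hne, hne', hne''⟩ := h.exists_two ha
  have s1 := h.card_le_inf_QQ ha.symm (hX.trans (h.QQ_le_Ed' ha))
  have s2 := h.card_le_inf_QQ ha'.symm (X := X ⊓ QQ a) (inf_le_left.trans (hX.trans (h.QQ_le_Ed' ha')))
  have s3 := h.card_le_inf_QQ ha''.symm (X := X ⊓ QQ a ⊓ QQ a')
    ((inf_le_left.trans inf_le_left).trans (hX.trans (h.QQ_le_Ed' ha'')))
  have hle : X ⊓ QQ a ⊓ QQ a' ⊓ QQ a'' ≤ X ⊓ nbE x := by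
    intro q hq
    obtain ⟨⟨⟨h1, h2⟩, h3⟩, h4⟩ := hq
    refine Subgroup.mem_inf.mpr ⟨h1, mem_nbE.mpr ⟨hX h1, fun w hw => ?_⟩⟩
    rcases h.nbr_cases ha ha' ha'' hw hne.symm hne'.symm hne'' with rfl | rfl | rfl
    exacts [h2, h3, h4]
  haveI := h.finQQ x
  haveI := finite_of_le (inf_le_left.trans hX : X ⊓ nbE x ≤ QQ x)
  have s4 := card_le_of_le hle
  omega

theorem card_QQ_nbE (x : Vtx M₁ M₂) : Nat.card ↥(QQ x) ≤ 8 * Nat.card ↥(nbE x) := by
  refine (h.card_le_nbE le_rfl).trans (le_of_eq ?_)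
  rw [inf_eq_right.mpr (nbE_le x)]

theorem card_two_of_le (h2 : Nat.card ↥(Zt T) * Nat.card ↥(Zt T) ≤ 2 * Nat.card ↥(Zt T)) :
    Nat.card ↥(Zt T) = 2 := by
  haveI := h.h₁.finT
  haveI := finite_of_le (Zt_le T)
  have h1 : Nat.card ↥(Zt T) ≠ 1 := fun e => h.Zt_ne_bot (Subgroup.card_eq_one.mp e)
  have h3 : 0 < Nat.card ↥(Zt T) := Nat.card_pos
  have h4 := Nat.le_of_mul_le_mul_right h2 h3
  omega

theorem exists_mem_Z_B {x : Vtx M₁ M₂} (hx : ¬ IsA x) : ∃ c ∈ Z x, c ≠ 1 := by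
  by_contra hc
  push Not at hc
  exact h.Z_B_ne_bot hx (eq_bot_iff.mpr fun c hc' => mem_bot.mpr (hc c hc'))

theorem finZ {a : Vtx M₁ M₂} (ha : IsA a) : Finite ↥(Z a) := by
  haveI := h.finQQ a
  exact finite_of_le (h.Z_le_QQ ha)

theorem eq_one_of_nbr_Z {a x x' : Vtx M₁ M₂} (hax : Adj a x) (hax' : Adj a x') (ha : IsA a) (hne : x ≠ x')
    (hle : Z x ≤ Z x') : False := by
  obtain ⟨c, hc, hc1⟩ := h.exists_mem_Z_B (notA_of_adj hax ha)
  exact hc1 (h.Z_inf_eq_one hax hax' ha hne hc (hle hc))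

end GAmal

namespace GB

variable {b : ℕ} (g : GB M₁ M₂ T b)
include g

theorem crit_mov' {p : ℕ → Vtx M₁ M₂} (hc : Crit p b) : Mov M₁ M₂ (Sum.isLeft (p b)) b := by
  rw [hc.nb.walk.isLeft_eq le_rfl, show Sum.isLeft (p 0) = true from hc.isA]
  exact g.crit_mov hc

/-- An element of a centre fixing a walk and moving what lies beyond. -/
theorem mov_of_Z {q : ℕ → Vtx M₁ M₂} {n : ℕ} (hq : NB q n) {z : G} (hfix : ∀ i, i ≤ n → z • q i = q i)
    (hz : z ∉ QQ (q n)) : Mov M₁ M₂ (Sum.isLeft (q n)) n := ⟨q, hq, rfl, z, hfix, hz⟩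

end GB

end CfsgLib.Goldschmidt
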