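import Cfsg.Agent.Lib.LocalEven.Goldschmidt.Common

/-! Even critical distance. -/

set_option autoImplicit false
set_option linter.all false

namespace CfsgLib.Goldschmidt

open Subgroup CfsgLib.LocalEven CfsgLib.SThree
open scoped commutatorElement

universe u

variable {G : Type u} [Group G] {M₁ M₂ T : Subgroup G}

namespace GB

variable {b : ℕ} (g : GB M₁ M₂ T b)
include g

theorem isA_end {p : ℕ → Vtx M₁ M₂} (hc : Crit p b) (he : b % 2 = 0) : IsA (p b) :=
  hc.nb.walk.isA_even hc.isA le_rfl he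

theorem crit_rev {p : ℕ → Vtx M₁ M₂} (hc : Crit p b) (he : b % 2 = 0) : Crit (fun i => p (b - i)) b := by
  have hb := g.isA_end hc he
  refine ⟨hc.nb.rev, by simpa using hb, ?_⟩
  simp only [Nat.sub_zero, Nat.sub_self]
  intro hle
  refine hc.ne fun z hz => g.h.mem_QQ_of_comm hb
    (g.fix_walk hc.nb.walk (Nat.zero_le b) le_rfl hc.isA (by omega) (by omega) hz) fun w hw => ?_
  exact (g.h.QQ_comm_Z hc.isA (hle hw) hz).symm

theorem ker_even {p : ℕ → Vtx M₁ M₂} (hc : Crit p b) (he : b % 2 = 0) {v : G} (hv : v ∈ Z (p 0))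
    (hvQ : v ∈ QQ (p b)) : v ∈ Z (p 1) := by
  have := g.two_le
  obtain ⟨t, ht, htQ⟩ := SetLike.not_le_iff_exists.mp (g.crit_rev hc he).ne
  simp only [Nat.sub_zero, Nat.sub_self] at ht htQ
  have hb := g.isA_end hc he
  exact g.h.fixed (hc.nb.walk 0 (by omega)) hc.isA
    (g.fix_walk hc.nb.walk le_rfl (Nat.zero_le b) hb (by omega) (by omega) ht)
    (g.fix_walk hc.nb.walk le_rfl (by omega) hb (by omega) (by omega) ht) htQ hv
    (g.h.QQ_comm_Z hb hvQ ht).symm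

theorem card_two_even {p : ℕ → Vtx M₁ M₂} (hc : Crit p b) (he : b % 2 = 0) : Nat.card ↥(Zt T) = 2 := by
  have := g.two_le
  refine g.h.card_two_of_le ?_
  have hle : Z (p 0) ≤ Ed (p b) (p (b - 1)) := fun z hz => mem_Ed.mpr
    ⟨g.fix_walk hc.nb.walk (Nat.zero_le b) le_rfl hc.isA (by omega) (by omega) hz,
      g.fix_walk hc.nb.walk (Nat.zero_le b) (by omega) hc.isA (by omega) (by omega) hz⟩
  have hadj : Adj (p b) (p (b - 1)) := by
    have := (hc.nb.walk (b - 1) (by omega)).symm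
    rwa [show b - 1 + 1 = b by omega] at this
  have h1 := g.h.card_le_inf_QQ hadj hle
  rw [g.h.card_Z_A hc.isA] at h1
  haveI := g.h.finZ hc.isA
  have hadj1 := hc.nb.walk 0 (by omega)
  haveI := finite_of_le (g.h.Z_le_Z hadj1 hc.isA)
  have h2 := card_le_of_le (fun v hv => g.ker_even hc he (Subgroup.mem_inf.mp hv).1 (Subgroup.mem_inf.mp hv).2 :
    Z (p 0) ⊓ QQ (p b) ≤ Z (p (0 + 1)))
  rw [g.h.card_Z_B (notA_of_adj hadj1 hc.isA)] at h2
  omega

theorem ends_eq {p : ℕ → Vtx M₁ M₂} (hc : Crit p b) (he : b % 2 = 0) : Z (p 1) = Z (p (b - 1)) := by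
  have := g.two_le
  have hb := g.isA_end hc he
  have h2 := g.card_two_even hc he
  obtain ⟨z, hz, hzQ⟩ := SetLike.not_le_iff_exists.mp hc.ne
  obtain ⟨t, ht, htQ⟩ := SetLike.not_le_iff_exists.mp (g.crit_rev hc he).ne
  simp only [Nat.sub_zero, Nat.sub_self] at ht htQ
  have hadj1 : Adj (p 0) (p 1) := hc.nb.walk 0 (by omega)
  have hadjb : Adj (p b) (p (b - 1)) := by
    have := (hc.nb.walk (b - 1) (by omega)).symm
    rwa [show b - 1 + 1 = b by omega] at this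
  have ht0 := g.fix_walk hc.nb.walk le_rfl (Nat.zero_le b) hb (by omega) (by omega) ht
  have ht1 := g.fix_walk hc.nb.walk le_rfl (show 1 ≤ b by omega) hb (by omega) (by omega) ht
  have hzb := g.fix_walk hc.nb.walk (Nat.zero_le b) le_rfl hc.isA (by omega) (by omega) hz
  have hzb1 := g.fix_walk hc.nb.walk (Nat.zero_le b) (show b - 1 ≤ b by omega) hc.isA (by omega) (by omega) hz
  have hu1 := g.h.comm_mem_Z hadj1 hc.isA ht0 ht1 hz
  have hub : z * (t * z * t⁻¹) ∈ Z (p (b - 1)) := by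
    have := g.h.comm_mem_Z' hadjb hb hzb hzb1 ht
    rw [g.h.Z_inv hc.isA hz] at this
    rw [g.h.Z_inv hb ht]
    simpa [mul_assoc] using this
  refine eq_of_card_two (by rw [g.h.card_Z_B (notA_of_adj hadj1 hc.isA), h2])
    (by rw [g.h.card_Z_B (notA_of_adj hadjb hb), h2]) hu1 hub fun e => ?_
  have e1 : t * z * t⁻¹ = z := (inv_eq_of_mul_eq_one_right e).symm.trans (g.h.Z_inv hc.isA hz)
  have hz1 := g.h.fixed hadj1 hc.isA ht0 ht1 htQ hz (mul_inv_eq_iff_eq_mul.mp e1)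
  have hA2 : IsA (p 2) := hc.nb.walk.isA_even hc.isA (by omega) rfl
  exact hzQ (g.lt_walk hc.nb.walk (show 2 ≤ b by omega) le_rfl hA2 (by omega) (by omega)
    (g.h.Z_le_Z (hc.nb.walk 1 (by omega)).symm hA2 hz1))

theorem even_two (he : b % 2 = 0) : b = 2 := by
  by_contra hb2
  have := g.two_le
  have hb4 : 4 ≤ b := by omega
  obtain ⟨p, hp⟩ := g.exists_crit
  have hbA := g.isA_end hp he
  have hends := g.ends_eq hp he
  have hadjb : Adj (p b) (p (b - 1)) := by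
    have := (hp.nb.walk (b - 1) (by omega)).symm
    rwa [show b - 1 + 1 = b by omega] at this
  have hadj1 : Adj (p 0) (p 1) := hp.nb.walk 0 (by omega)
  have hA2 : IsA (p 2) := hp.nb.walk.isA_even hp.isA (by omega) rfl
  obtain ⟨v, hv, hvne⟩ := g.h.exists_ne_nbr hadjb
  set q := vsnoc p b v with hqdef
  have hq : NB q (b + 1) := hp.nb.snoc hv (fun _ => hvne)
  have hqle : ∀ i, i ≤ b → q i = p i := fun i hi => vsnoc_le hi
  have hqb : q (b + 1) = v := vsnoc_last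
  -- walks from the neighbours of `v` back to `p 2`
  have hr : ∀ μ, Adj v μ → μ ≠ p b → NB (vcons μ (fun i => q (b + 1 - i))) (b + 1 + 1) := by
    intro μ hμ hne
    refine hq.rev.cons ?_ (fun _ => ?_)
    · show Adj μ (q (b + 1 - 0))
      rw [Nat.sub_zero, hqb]
      exact hμ.symm
    · show μ ≠ q (b + 1 - 1)
      rwa [Nat.add_sub_cancel, hqle b le_rfl]
  have hvB : ¬ IsA v := notA_of_adj hv hbA
  have hd : ∀ μ, Adj v μ → ∀ i, i ≤ b → dst μ (q i) ≤ b + 2 - i := by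
    intro μ hμ i hi
    have h1 := g.h.connected.dist_triangle (u := μ) (v := v) (w := q i)
    have h2 : dst μ v = 1 := SimpleGraph.dist_eq_one_iff_adj.mpr hμ.symm
    have h3 := hq.walk.dst_le' g.h.connected (show i ≤ b + 1 by omega) le_rfl
    rw [hqb] at h3
    unfold dst at *
    omega
  have hp2 : ∀ μ, Adj v μ → Z μ ≤ QQ (p 2) := by
    intro μ hμ
    by_contra hμQ
    have hμA : IsA μ := isA_of_adj hμ.symm hvB
    have hne : μ ≠ p b := fun e => hμQ (e ▸ g.lt_walk hp.nb.walk le_rfl (by omega) hbA (by omega) (by omega))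
    have hcr : Crit (vcons μ (fun i => q (b + 1 - i))) b := by
      refine ⟨(hr μ hμ hne).mono (by omega), hμA, ?_⟩
      obtain ⟨k, hk⟩ : ∃ k, b = k + 1 := ⟨b - 1, by omega⟩
      rw [vcons_zero]
      conv => rhs; rw [hk]
      rw [vcons_succ, show k + 1 + 1 - k = 2 by omega, hqle 2 (by omega)]
      exact hμQ
    obtain ⟨c, hc, hc1⟩ := g.h.exists_mem_Z_B (notA_of_adj hadj1 hp.isA)
    have hrev := g.crit_rev hcr he
    refine hc1 (g.h.Z_inf_eq_one (hp.nb.walk 1 (by omega)).symm (hp.nb.walk 2 (by omega)) hA2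
      (hp.nb.turn 1 (by omega)) hc ?_)
    have e0 : vcons μ (fun i => q (b + 1 - i)) b = p 2 := by
      rw [show b = (b - 1) + 1 by omega, vcons_succ, show b - 1 + 1 + 1 - (b - 1) = 2 by omega, hqle 2 (by omega)]
    have e1 : vcons μ (fun i => q (b + 1 - i)) (b - 1) = p 3 := by
      rw [show b - 1 = (b - 2) + 1 by omega, vcons_succ, show b + 1 - (b - 2) = 3 by omega, hqle 3 (by omega)]
    have := g.ker_even hrev he (v := c)
    simp only [Nat.sub_zero, Nat.sub_self, vcons_zero, e0, e1] at this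
    refine this (g.h.Z_le_Z (hp.nb.walk 1 (by omega)).symm hA2 hc) ?_
    refine g.lt_two hv.symm hμ hbA (by omega) ?_
    exact g.h.Z_le_Z hadjb hbA (hends ▸ hc)
  have hp1 : ∀ μ, Adj v μ → Z μ ≤ QQ (p 1) := by
    intro μ hμ z hz
    by_contra hzQ
    have hμA : IsA μ := isA_of_adj hμ.symm hvB
    have hne : μ ≠ p b := fun e => hzQ (g.lt_walk hp.nb.walk le_rfl (by omega) hbA (by omega) (by omega) (e ▸ hz))
    have hz2 := hp2 μ hμ hz
    have hm : Mov M₁ M₂ false b := by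
      refine ⟨fun i => q (b + 1 - i), hq.rev.mono (by omega), ?_, z, fun i hi => ?_, ?_⟩
      · show Sum.isLeft (q (b + 1 - b)) = false
        rw [show b + 1 - b = 1 by omega, hqle 1 (by omega)]
        simpa [IsA] using notA_of_adj hadj1 hp.isA
      · show z • q (b + 1 - i) = q (b + 1 - i)
        rcases Nat.lt_or_ge i b with hib | hib
        · rcases Nat.eq_zero_or_pos i with rfl | hi0
          · rw [Nat.sub_zero, hqb]
            exact (g.h.QQ_fix (g.h.Z_le_QQ hμA hz)).2 v hμ.symm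
          · exact g.fixes hμA ((hd μ hμ (b + 1 - i) (by omega)).trans (by omega)) hz
        · rw [show b + 1 - i = 1 by omega, hqle 1 (by omega)]
          exact (g.h.QQ_fix hz2).2 _ (hp.nb.walk 1 (by omega)).symm
      · show z ∉ QQ (q (b + 1 - b))
        rw [show b + 1 - b = 1 by omega, hqle 1 (by omega)]
        exact hzQ
    have ht : Mov M₁ M₂ true b := by
      have := g.crit_mov' hp
      rwa [show Sum.isLeft (p b) = true from hbA] at this
    refine (g.crit_of_tr (g.h.tr_of_mov ht hm (by omega) true) (hr μ hμ hne |>.mono (by omega)) hμA).ne ?_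
    obtain ⟨k, hk⟩ : ∃ k, b = k + 1 := ⟨b - 1, by omega⟩
    rw [vcons_zero]
    conv => rhs; rw [hk]
    rw [vcons_succ, show k + 1 + 1 - k = 2 by omega, hqle 2 (by omega)]
    exact hp2 μ hμ
  -- the subgroup generated by the centres around `v`
  set V := ⨆ (μ : Vtx M₁ M₂) (_ : Adj v μ), Z μ with hV
  have hVQ : V ≤ QQ (p 1) := iSup₂_le hp1
  have hVv : V ≤ QQ v := iSup₂_le fun μ hμ => g.h.Z_le_QQ_adj hμ.symm (isA_of_adj hμ.symm hvB)
  obtain ⟨z, hz, hzQ⟩ := SetLike.not_le_iff_exists.mp hp.ne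
  have hzb := g.fix_walk hp.nb.walk (Nat.zero_le b) le_rfl hp.isA (by omega) (by omega) hz
  have hzb1 := g.fix_walk hp.nb.walk (Nat.zero_le b) (show b - 1 ≤ b by omega) hp.isA (by omega) (by omega) hz
  have hzi := g.h.Z_inv hp.isA hz
  have hVz : z ∈ normalizer (V : Set G) := by
    have key : V.map (MulAut.conj z).toMonoidHom ≤ V := by
      simp only [hV, Subgroup.map_iSup]
      refine iSup₂_le fun μ hμ => ?_
      rintro _ ⟨w, hw, rfl⟩
      show z * w * z⁻¹ ∈ _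
      have hw1 := g.h.QQ_fix (hp1 μ hμ hw)
      have h1 := g.h.comm_mem_Z hadj1 hp.isA (hw1.2 _ hadj1.symm) hw1.1 hz
      rw [hends] at h1
      rw [show z * w * z⁻¹ = z * (w * z⁻¹ * w⁻¹) * w by group, hzi]
      exact mul_mem (le_iSup₂ (f := fun (μ : Vtx M₁ M₂) (_ : Adj v μ) => Z μ) (p b) hv.symm
        (g.h.Z_le_Z hadjb hbA h1)) (le_iSup₂ (f := fun (μ : Vtx M₁ M₂) (_ : Adj v μ) => Z μ) μ hμ hw)
    rw [mem_normalizer_conj_iff]
    refine le_antisymm key ?_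
    have h2 := map_mono (f := (MulAut.conj z).toMonoidHom) key
    rwa [conj_conj, show z * z = 1 from g.h.Z_sq hp.isA hz, conj_one] at h2
  have hVN : St v ≤ normalizer (V : Set G) := by
    have key : ∀ k : G, k • v = v → V.map (MulAut.conj k).toMonoidHom ≤ V := by
      intro k hk
      simp only [hV, Subgroup.map_iSup]
      refine iSup₂_le fun μ hμ => ?_
      rw [← g.h.Z_smul]
      exact le_iSup₂ (f := fun (μ : Vtx M₁ M₂) (_ : Adj v μ) => Z μ) (k • μ) (adj_of_fix hk hμ)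
    intro k hk
    have hkv := mem_St.mp hk
    rw [mem_normalizer_conj_iff]
    refine le_antisymm (key k hkv) ?_
    have h2 := map_mono (f := (MulAut.conj k).toMonoidHom) (key k⁻¹ (by rw [inv_smul_eq_iff, hkv]))
    rwa [conj_conj, mul_inv_cancel, conj_one] at h2
  obtain ⟨E, -, -⟩ := g.h.edge hv hbA
  have hzE : z ∉ Ed (p b) v := fun hm =>
    g.h.moves hadjb hv hvne hzb hzb1 hzQ (mem_Ed.mp hm).2
  have hVbot : V = ⊥ := E.eq_bot_of (hVv.trans (g.h.QQ_le_Ed' hv.symm))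
    (E.h₁.le_normalizer_of (inf_le_right.trans hVN) (mem_St.mpr hzb) hzE hVz) hVN
  exact g.h.Z_B_ne_bot (notA_of_adj hv hbA) (le_bot_iff.mp (hVbot ▸
    (g.h.Z_le_Z hv hbA).trans (le_iSup₂ (f := fun (μ : Vtx M₁ M₂) (_ : Adj v μ) => Z μ) (p b) hv.symm)))

/-- Critical distance two. -/
theorem bound_two (he : b = 2) : Nat.card T ≤ 128 := by
  subst he
  obtain ⟨x, hxB⟩ : ∃ x : Vtx M₁ M₂, ¬ IsA x := ⟨Sum.inr ((1 : G) : G ⧸ M₂), by simp [IsA]⟩
  obtain ⟨a, ha⟩ := exists_adj x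
  have haA := isA_of_adj ha.symm hxB
  obtain ⟨x', hx', hne⟩ := g.h.exists_ne_nbr ha.symm
  have key : ∀ y y' : Vtx M₁ M₂, Adj a y → Adj a y' → y ≠ y' → ∃ z : G, z • y = y ∧ z • a = a ∧ z ∉ QQ a ∧
      ∀ q ∈ nbE y, z * q = q * z := by
    intro y y' hy hy' hyy
    obtain ⟨a₁, ha₁, hne₁⟩ := g.h.exists_ne_nbr hy.symm
    have hyB := notA_of_adj hy haA
    have hw : NB (vcons a₁ (vcons y fun _ => a)) 2 :=
      ((NB.const a).cons hy.symm (by omega)).cons ha₁.symm (fun _ => hne₁)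
    obtain ⟨z, hz, hzQ⟩ := SetLike.not_le_iff_exists.mp
      (g.crit_of_tr (g.h.tr_three (by omega) true) hw (isA_of_adj ha₁.symm hyB)).ne
    have hz' : z ∈ Z a₁ := hz
    have hzQ' : z ∉ QQ a := hzQ
    refine ⟨z, ?_, ?_, hzQ', fun q hq => ?_⟩
    · exact (g.h.QQ_fix (g.h.Z_le_QQ_adj ha₁.symm (isA_of_adj ha₁.symm hyB) hz')).1
    · exact (g.h.QQ_fix (g.h.Z_le_QQ_adj ha₁.symm (isA_of_adj ha₁.symm hyB) hz')).2 a hy.symm
    · exact (g.h.QQ_comm_Z (isA_of_adj ha₁.symm hyB) (nbE_le_nbr ha₁ hq) hz').symm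
  obtain ⟨z, hzx, hza, hzQ, hzc⟩ := key x x' ha.symm hx' hne.symm
  obtain ⟨z', hz'x, hz'a, hz'Q, hz'c⟩ := key x' x hx' ha.symm hne
  set K := nbE x ⊓ nbE x' with hK
  have hKQ : K ≤ QQ a := inf_le_left.trans (nbE_le_nbr ha)
  obtain ⟨E, -, -⟩ := g.h.edge ha.symm haA
  haveI := E.h₁.finT
  have hbot : K = ⊥ := by
    by_contra hKne
    have hQN : QQ a ≤ normalizer (K : Set G) := le_normalizer_iff.mpr fun k hk q hq => by
      obtain ⟨hka, hkn⟩ := g.h.QQ_fix hk
      exact Subgroup.mem_inf.mpr ⟨g.h.conj_nbE (hkn x ha.symm) (Subgroup.mem_inf.mp hq).1,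
        g.h.conj_nbE (hkn x' hx') (Subgroup.mem_inf.mp hq).2⟩
    have hcz : z ∈ centralizer (K : Set G) :=
      mem_centralizer_iff.mpr fun q hq => (hzc q (Subgroup.mem_inf.mp hq).1).symm
    have hcz' : z' ∈ centralizer (K : Set G) :=
      mem_centralizer_iff.mpr fun q hq => (hz'c q (Subgroup.mem_inf.mp hq).2).symm
    have hEN : Ed a x ≤ normalizer (K : Set G) := by
      rw [← E.h₁.sup_mem (mem_Ed.mpr ⟨hza, hzx⟩) hzQ]
      exact sup_le hQN (zpowers_le.mpr (normalizer_of_centralizer hcz))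
    have hz'E : z' ∉ Ed a x := fun hm => g.h.moves hx' ha.symm hne.symm hz'a hz'x hz'Q (mem_Ed.mp hm).2
    obtain ⟨u, hu, hu1, hu2, huc⟩ :=
      exists_fixed_involution E.h₁.two (hKQ.trans (g.h.QQ_le_Ed ha.symm)) hEN hKne
    have huZ : u ∈ Zt (Ed a x) := mem_Zt (g.h.QQ_le_Ed ha.symm (hKQ hu)) (mem_centralizer_iff.mpr
      fun t ht => mem_centralizer_singleton_iff.mp (huc ht)) hu2
    exact hu1 (E.fix_eq_one huZ (E.h₁.le_centralizer_of huc (mem_St.mpr hz'a) hz'E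
      (centralizer_singleton_of hu hcz')))
  have hx'B := notA_of_adj hx' haA
  haveI := g.h.finQQ x
  have h1 : Nat.card ↥(nbE x) ≤ 2 * Nat.card ↥(nbE x ⊓ QQ x') :=
    g.h.card_le_inf_QQ hx'.symm ((nbE_le_nbr ha).trans (g.h.QQ_le_Ed' hx'))
  obtain ⟨c, c', hc, hc', hcn, hcn', hcc⟩ := g.h.exists_two hx'.symm
  have h2 := g.h.card_le_inf_QQ hc.symm (X := nbE x ⊓ QQ x') (inf_le_right.trans (g.h.QQ_le_Ed' hc))
  have h3 := g.h.card_le_inf_QQ hc'.symm (X := nbE x ⊓ QQ x' ⊓ QQ c)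
    ((inf_le_left.trans inf_le_right).trans (g.h.QQ_le_Ed' hc'))
  have h4 : nbE x ⊓ QQ x' ⊓ QQ c ⊓ QQ c' ≤ K := by
    intro q hq
    obtain ⟨⟨⟨q1, q2⟩, q3⟩, q4⟩ := hq
    refine Subgroup.mem_inf.mpr ⟨q1, mem_nbE.mpr ⟨q2, fun w hw => ?_⟩⟩
    rcases g.h.nbr_cases hx'.symm hc hc' hw hcn.symm hcn'.symm hcc with rfl | rfl | rfl
    exacts [nbE_le_nbr ha q1, q3, q4]
  rw [hbot] at h4
  rw [le_bot_iff.mp h4, Subgroup.card_bot] at h3
  have h5 := g.h.card_QQ_nbE x
  have h6 := g.h.card_QQ x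
  omega

end GB

end CfsgLib.Goldschmidt
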