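import Cfsg.Agent.Lib.LocalEven.Goldschmidt.Four

/-! Odd critical distance at least five does not occur. -/

set_option autoImplicit false
set_option linter.all false

namespace CfsgLib.Goldschmidt

open Subgroup CfsgLib.LocalEven CfsgLib.SThree
open scoped commutatorElement

universe u

variable {G : Type u} [Group G] {M₁ M₂ T : Subgroup G}

namespace GO

variable {b : ℕ} (o : GO M₁ M₂ T b)
include o

theorem not_QQ {q : ℕ → Vtx M₁ M₂} (hc : Crit q b) {v : G} (hv : Rep (q 1) (q 0) v) : v ∉ QQ (q b) := fun hQ =>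
  hv.2 ((o.ker hc hv.1).mp hQ)

/-- A pair can be moved one step backwards. -/
theorem shift (hb : 5 ≤ b) {p : ℕ → Vtx M₁ M₂} (hp : IsPair p b) {y : Vtx M₁ M₂} (hy : Adj (p 0) y)
    (hne : y ≠ p 1) : ∃ μ, IsPair (vcons μ (vcons y p)) b := by
  have hodd := o.odd
  have hW := hp.nb.walk
  have hyB := notA_of_adj hy hp.isA
  obtain ⟨n, hn⟩ : ∃ n, b = n + 2 := ⟨b - 2, by omega⟩
  have hy1 : NB (vcons y p) (b + 2) := hp.nb.cons hy.symm (fun _ => hne)
  have hμnb : ∀ μ, Adj y μ → μ ≠ p 0 → NB (vcons μ (vcons y p)) (b + 1) := fun μ hμ hμne =>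
    (hy1.mono (by omega : b ≤ b + 2)).cons hμ.symm (fun _ => hμne)
  suffices hex : ∃ μ, Adj y μ ∧ μ ≠ p 0 ∧ ¬ Z μ ≤ QQ (p (b - 2)) by
    obtain ⟨μ, hμ, hμne, hμQ⟩ := hex
    refine ⟨μ, o.g.pair_of hodd (hμnb μ hμ hμne) (isA_of_adj hμ.symm hyB) ?_⟩
    rw [vcons_zero, hn, vcons_succ, vcons_succ, show n = b - 2 by omega]
    exact hμQ
  by_contra hex
  push Not at hex
  have hall : ∀ μ, Adj y μ → Z μ ≤ QQ (p (b - 2)) := fun μ hμ => by
    by_cases e : μ = p 0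
    · rw [e]; exact o.g.lt_walk hW (Nat.zero_le _) (by omega) hp.isA (by omega) (by omega)
    · exact hex μ hμ e
  have hd : ∀ μ, Adj y μ → ∀ i, i ≤ b + 1 → dst μ (p i) ≤ i + 2 := by
    intro μ hμ i hi
    have h1 := o.g.h.connected.dist_triangle (u := μ) (v := y) (w := p i)
    have h2 : dst μ y = 1 := SimpleGraph.dist_eq_one_iff_adj.mpr hμ.symm
    have h3 := o.g.h.connected.dist_triangle (u := y) (v := p 0) (w := p i)
    have h4 : dst y (p 0) = 1 := SimpleGraph.dist_eq_one_iff_adj.mpr hy.symm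
    have h5 := hW.dst_le o.g.h.connected (Nat.zero_le i) hi
    unfold dst at *
    omega
  obtain ⟨μ₁, hμ₁, hμ₁ne⟩ := o.g.h.exists_ne_nbr hy.symm
  have hcontra : Mov M₁ M₂ true b → False := fun hm => by
    refine (o.g.uniform_of_mov hodd hm ((hμnb μ₁ hμ₁ hμ₁ne).mono (Nat.le_succ b)) (isA_of_adj hμ₁.symm hyB)).ne ?_
    rw [vcons_zero, hn, vcons_succ, vcons_succ, show n = b - 2 by omega]
    exact hex μ₁ hμ₁ hμ₁ne
  have hA1 : IsA (p (b - 1)) := hW.isA_even hp.isA (by omega) (by omega)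
  have hadj1 : Adj (p (b - 2)) (p (b - 1)) := by
    have := hW (b - 2) (by omega)
    rwa [show b - 2 + 1 = b - 1 by omega] at this
  have hadjb : Adj (p (b - 1)) (p b) := by
    have := hW (b - 1) (by omega)
    rwa [show b - 1 + 1 = b by omega] at this
  have hfix : ∀ μ, Adj y μ → ∀ f ∈ Z μ, ∀ i, i + 1 ≤ b → f • p i = p i := by
    intro μ hμ f hf i hi
    rcases Nat.lt_or_ge i (b - 1) with h1 | h1
    · exact o.g.fixes (isA_of_adj hμ.symm hyB) ((hd μ hμ i (by omega)).trans (by omega)) hf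
    · rw [show i = b - 1 by omega]
      exact (o.g.h.QQ_fix (hall μ hμ hf)).2 _ hadj1
  have hall1 : ∀ μ, Adj y μ → Z μ ≤ QQ (p (b - 1)) := by
    intro μ hμ f hf
    by_contra hfQ
    apply hcontra
    refine ⟨vcons y p, hy1.mono (by omega), ?_, f, fun i hi => ?_, ?_⟩
    · rw [show b = (b - 1) + 1 by omega, vcons_succ]; exact hA1
    · cases i with
      | zero => exact (o.g.h.QQ_fix (o.g.h.Z_le_QQ (isA_of_adj hμ.symm hyB) hf)).2 y hμ.symm
      | succ j => exact hfix μ hμ f hf j hi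
    · rw [show b = (b - 1) + 1 by omega, vcons_succ]; exact hfQ
  -- an element of `Z μ₁` other than `cel y` in the core of `p b`
  have hμA := isA_of_adj hμ₁.symm hyB
  obtain ⟨x, x', hx, hx', hxy, hxy', hxx⟩ := o.g.h.exists_two hμ₁.symm
  have hcy : cel y ∉ QQ (p b) := o.not_QQ hp.crit (o.rep_cel (hW 0 (by omega)) hy hp.isA hne)
  obtain ⟨w, hw, hwy, hwQ⟩ : ∃ w, Adj μ₁ w ∧ w ≠ y ∧ cel w ∈ QQ (p b) := by
    by_cases h1 : cel x ∈ QQ (p b)
    · exact ⟨x, hx, hxy, h1⟩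
    refine ⟨x', hx', hxy', ?_⟩
    rw [← o.cel_mul hx' hx hμ₁.symm hμA hxx.symm hxy' hxy]
    refine (o.g.h.mul_mem_QQ_iff hadjb.symm ?_ ?_).mpr (iff_of_false h1 hcy)
    · exact o.g.h.QQ_le_Ed' hadjb (hall1 μ₁ hμ₁ (o.cel_mem_Z hx hμA))
    · exact o.g.h.QQ_le_Ed' hadjb (hall1 μ₁ hμ₁ (o.cel_mem_Z hμ₁.symm hμA))
  have hwZ := o.cel_mem_Z hw hμA
  have hAb : IsA (p (b + 1)) := hW.isA_even hp.isA le_rfl (by omega)
  have hwQ1 : cel w ∈ QQ (p (b + 1)) := by
    by_contra hc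
    apply hcontra
    refine Mov.le (n := b + 2) ⟨vcons y p, hy1, ?_, cel w, fun i hi => ?_, ?_⟩ (by omega)
    · rw [vcons_succ]; exact hAb
    · cases i with
      | zero => exact (o.g.h.QQ_fix (o.g.h.Z_le_QQ hμA hwZ)).2 y hμ₁.symm
      | succ j =>
        rw [vcons_succ]
        rcases Nat.lt_or_ge j b with h1 | h1
        · exact hfix μ₁ hμ₁ _ hwZ j h1
        rcases Nat.lt_or_ge j (b + 1) with h2 | h2
        · rw [show j = b by omega]
          exact (o.g.h.QQ_fix (hall1 μ₁ hμ₁ hwZ)).2 _ hadjb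
        · rw [show j = b + 1 by omega]
          exact (o.g.h.QQ_fix hwQ).2 _ (hW b (by omega))
    · rw [vcons_succ]; exact hc
  obtain ⟨e, he, heQ⟩ := SetLike.not_le_iff_exists.mp hp.bw
  obtain ⟨hef, hadje, hne0, -⟩ := o.pair_e hp he heQ
  have hce : e * cel w = cel w * e := (o.g.h.QQ_comm_Z hAb hwQ1 he).symm
  have hmem : cel w ∈ Z (e • μ₁) := by
    have := (o.g.h.mem_Z_smul e).mp hwZ
    rwa [hce, mul_inv_cancel_right] at this
  have h5 : NB (vcons μ₁ (vcons y (vcons (p 0) (vcons (p 1) fun _ => e • p 0)))) 4 :=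
    ((((NB.const (e • p 0)).cons hadje (by omega)).cons (hW 0 (by omega)) (fun _ => hne0.symm)).cons hy.symm
      (fun _ => hne)).cons hμ₁.symm (fun _ => hμ₁ne)
  obtain ⟨r, hr⟩ := o.g.exists_crit
  obtain ⟨k, hk⟩ := o.g.trA_four hodd le_rfl r _ (hr.nb.mono (by omega : 4 ≤ b)) h5 hr.isA hμA
  have hr' := o.g.crit_smul hr (hr.nb.smul k) k (fun i _ => rfl)
  have k0 : k • r 0 = μ₁ := hk 0 (by omega)
  have k1 : k • r 1 = y := hk 1 (by omega)
  have k4 : k • r 4 = e • p 0 := hk 4 le_rfl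
  have hdist : dst (e • μ₁) (k • r b) < b := by
    have d1 := o.g.h.connected.dist_triangle (u := e • μ₁) (v := e • y) (w := k • r b)
    have d2 : dst (e • μ₁) (e • y) = 1 := SimpleGraph.dist_eq_one_iff_adj.mpr (adj_smul e hμ₁.symm)
    have d3 := o.g.h.connected.dist_triangle (u := e • y) (v := k • r 4) (w := k • r b)
    have d4 : dst (e • y) (k • r 4) = 1 := by
      rw [k4]; exact SimpleGraph.dist_eq_one_iff_adj.mpr (adj_smul e hy.symm)
    have d5 : dst (k • r 4) (k • r b) ≤ b - 4 :=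
      (hr.nb.smul k).walk.dst_le o.g.h.connected (show 4 ≤ b by omega) le_rfl
    unfold dst at *
    omega
  have hQ := o.g.lt _ _ ((isA_smul e μ₁).mpr hμA) hdist hmem
  have := (o.ker hr' (show cel w ∈ Z (k • r 0) by rw [k0]; exact hwZ)).mp hQ
  exact o.cel_not_mem hμ₁.symm hw hμA hwy (by simpa [k1] using this)

/-- A pair can be moved one step forwards. -/
theorem shift_up (hb : 5 ≤ b) {p : ℕ → Vtx M₁ M₂} (hp : IsPair p b) :
    ∃ s : ℕ → Vtx M₁ M₂, IsPair s b ∧ ∀ i, i + 1 ≤ b → s i = p (i + 2) := by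
  have hr := o.g.pair_rev o.odd hp
  obtain ⟨y, hy, hyne⟩ := o.g.h.exists_ne_nbr (hr.nb.walk 0 (by omega))
  obtain ⟨μ, hq⟩ := o.shift hb hr hy hyne
  refine ⟨_, o.g.pair_rev o.odd hq, fun i hi => ?_⟩
  show vcons μ (vcons y fun i => p (b + 1 - i)) (b + 1 - i) = p (i + 2)
  rw [show b + 1 - i = (b - 1 - i) + 1 + 1 by omega, vcons_succ, vcons_succ,
    show b + 1 - (b - 1 - i) = i + 2 by omega]

/-- The end of the pair moved forwards. -/
theorem e3_facts (hb : 5 ≤ b) {p s : ℕ → Vtx M₁ M₂} (hp : IsPair p b) (hs : IsPair s b)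
    (hps : ∀ i, i + 1 ≤ b → s i = p (i + 2)) {z e e₃ : G} (hz : z ∈ Z (p 0)) (hzQ : z ∉ QQ (p b))
    (he : e ∈ Z (p (b + 1))) (heQ : e ∉ QQ (p 1)) (h3 : e₃ ∈ Z (s (b + 1))) (h3Q : e₃ ∉ QQ (p 3)) :
    e₃ • p 3 = p 3 ∧ e₃ • p 4 = p 4 ∧ e₃ • p 2 ≠ p 2 ∧ e₃ • p 2 ≠ p 4 ∧
      e₃ * cel (p 1) ≠ cel (p 1) * e₃ ∧ e₃ * (z * (e * z * e⁻¹)) = z * (e * z * e⁻¹) * e₃ := by
  have hodd := o.odd
  have hW := hp.nb.walk
  have s0 : s 0 = p 2 := hps 0 (by omega)
  have s1 : s 1 = p 3 := hps 1 (by omega)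
  have s2 : s 2 = p 4 := hps 2 (by omega)
  obtain ⟨hsf, hsadj, hsne, hsne'⟩ := o.pair_e hs h3 (by rwa [s1])
  have f3 := hsf 1 le_rfl (by omega)
  have f4 := hsf 2 (by omega) (by omega)
  rw [s1] at f3
  rw [s2] at f4
  rw [s0] at hsne hsne'
  rw [s2] at hsne'
  have hA2 : IsA (p 2) := hW.isA_even hp.isA (by omega) rfl
  have h21 : Adj (p 2) (p 1) := (hW 1 (by omega)).symm
  have h23 : Adj (p 2) (p 3) := hW 2 (by omega)
  refine ⟨f3, f4, hsne, hsne', fun hc => ?_, ?_⟩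
  · have h1 := (o.g.h.mem_Z_smul e₃).mp (o.cel_mem_Z h21 hA2)
    rw [hc, mul_inv_cancel_right] at h1
    exact o.cel_not_mem h23 h21 hA2 (hp.nb.turn 1 (by omega))
      (o.Z_inf h23.symm (adj_of_fix f3 h23.symm) hsne.symm (hW.isB_odd hp.isA (by omega) rfl)
        (o.cel_mem_Z h21 hA2) h1)
  · obtain ⟨-, -, hsym, -⟩ := o.pair_j hp hz hzQ he heQ
    rw [← hsym]
    have hAb : IsA (p (b + 1)) := hW.isA_even hp.isA le_rfl (by omega)
    have hAs : IsA (s (b + 1)) := hs.nb.walk.isA_even hs.isA le_rfl (by omega)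
    have hd : dst (s (b + 1)) (p (b + 1)) ≤ 2 := by
      have h1 := o.g.dst_walk hs.nb.walk (show b + 1 ≤ b + 1 by omega) (show b - 1 ≤ b + 1 by omega) (k := 2)
        (by omega) (by omega)
      rwa [hps (b - 1) (by omega), show b - 1 + 2 = b + 1 by omega] at h1
    have hzb : z • p b = p b := o.g.fix_walk hW (Nat.zero_le _) (Nat.le_succ b) hp.isA (by omega) (by omega) hz
    have hz' : z * e * z⁻¹ ∈ Z (z • p (b + 1)) := (o.g.h.mem_Z_smul z).mp he
    have hd' : dst (s (b + 1)) (z • p (b + 1)) < b := by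
      have d1 := o.g.h.connected.dist_triangle (u := s (b + 1)) (v := p (b + 1)) (w := z • p (b + 1))
      have d2 := o.g.h.connected.dist_triangle (u := p (b + 1)) (v := p b) (w := z • p (b + 1))
      have d3 : dst (p (b + 1)) (p b) = 1 := SimpleGraph.dist_eq_one_iff_adj.mpr (hW b (by omega)).symm
      have d4 : dst (p b) (z • p (b + 1)) = 1 :=
        SimpleGraph.dist_eq_one_iff_adj.mpr (adj_of_fix hzb (hW b (by omega)))
      unfold dst at *
      omega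
    have c1 : Commute e₃ e := o.g.comm hAs hAb (lt_of_le_of_lt hd (by omega)) h3 he
    have c2 : Commute e₃ (z * e * z⁻¹) := o.g.comm hAs ((isA_smul z _).mpr hAb) hd' h3 hz'
    exact (c1.mul_right c2).eq

theorem four_five (hb : 5 ≤ b) : FourAll M₁ M₂ := by
  have hodd := o.odd
  obtain ⟨p, hp⟩ := o.g.exists_pair hodd
  obtain ⟨s, hs, hps⟩ := o.shift_up hb hp
  obtain ⟨z, hz, hzQ⟩ := SetLike.not_le_iff_exists.mp hp.fw
  obtain ⟨e, he, heQ⟩ := SetLike.not_le_iff_exists.mp hp.bw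
  obtain ⟨e₃, h3, h3Q⟩ := SetLike.not_le_iff_exists.mp hs.bw
  rw [hps 1 (by omega)] at h3Q
  obtain ⟨f3, f4, w2, w4, hce, hje⟩ := o.e3_facts hb hp hs hps hz hzQ he heQ h3 h3Q
  obtain ⟨tri, hj, hjsym, hj2⟩ := o.pair_j hp hz hzQ he heQ
  set j := z * (e * z * e⁻¹) with hjdef
  have hW := hp.nb.walk
  have hA2 : IsA (p 2) := hW.isA_even hp.isA (by omega) rfl
  have hA4 : IsA (p 4) := hW.isA_even hp.isA (by omega) rfl
  have hB1 : ¬ IsA (p 1) := hW.isB_odd hp.isA (by omega) rfl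
  have hB3 : ¬ IsA (p 3) := hW.isB_odd hp.isA (by omega) rfl
  have h21 : Adj (p 2) (p 1) := (hW 1 (by omega)).symm
  have h23 : Adj (p 2) (p 3) := hW 2 (by omega)
  have h34 : Adj (p 3) (p 4) := hW 3 (by omega)
  have hw : Adj (p 3) (e₃ • p 2) := adj_of_fix f3 h23.symm
  by_contra hF
  have hnf : ∀ {x a a' a'' : Vtx M₁ M₂} {u u' u'' : G}, ¬ IsA x → Tri x a a' a'' u u' u'' →
      u * u' * u'' ∉ Z x := fun hx ht hm => hF (o.four_of hx ht hm)
  have hjQ : j ∈ QQ (p 2) := mul_mem (o.g.lt_walk hW (Nat.zero_le _) (by omega) hp.isA (by omega) (by omega) hz)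
    (o.g.lt_two tri.ha' tri.ha'' (isA_of_adj tri.ha'.symm hB1) o.three_le tri.r'.1)
  obtain ⟨q, hq, hqj⟩ : ∃ q ∈ QQ (p 2), q * j ≠ j * q := by
    by_contra hc
    push Not at hc
    refine hnf hB1 (u'' := j) ⟨tri.ha, tri.ha', tri.ha'', tri.ne₁, tri.ne₂, tri.ne₃, tri.r, tri.r',
      o.omega_center hA2 hjQ hj2 hc, hj⟩ ?_
    rw [← hjdef, hj2]
    exact one_mem _
  have cj : ∀ x, Adj (p 2) x → Commute j (cel x) := fun x hx => by
    have hm := o.cel_mem_Z hx hA2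
    have c1 : Commute z (cel x) := o.Z_nbr_comm tri.ha tri.ha'' hB1 tri.r.1 hm
    exact c1.mul_left (o.Z_nbr_comm tri.ha' tri.ha'' hB1 tri.r'.1 hm)
  have cc : Commute (cel (p 1)) (cel (p 3)) := o.g.h.Z_comm hA2 (o.cel_mem_Z h21 hA2) (o.cel_mem_Z h23 hA2)
  have hqj' : q * j * q⁻¹ = j * cel (p 1) := by
    obtain ⟨hq2, hqn⟩ := o.g.h.QQ_fix hq
    have k3 : Commute q (cel (p 3)) := o.cel_fix hB3 (hqn _ h23)
    have hX : Commute (cel (p 3)) (j⁻¹ * (q * j * q⁻¹)) := ((cj _ h23).symm.inv_right).mul_right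
      ((k3.symm.mul_right (cj _ h23).symm).mul_right k3.symm.inv_right)
    have f1 := o.tri_conj hB1 tri (hqn _ h21)
    rw [← hjdef] at f1
    have e1 : (j * cel (p 3))⁻¹ * (q * (j * cel (p 3)) * q⁻¹) = j⁻¹ * (q * j * q⁻¹) := by
      calc (j * cel (p 3))⁻¹ * (q * (j * cel (p 3)) * q⁻¹)
          = (cel (p 3))⁻¹ * j⁻¹ * q * j * (cel (p 3) * q⁻¹) := by group
        _ = (cel (p 3))⁻¹ * ((j⁻¹ * (q * j * q⁻¹)) * cel (p 3)) := by rw [k3.symm.inv_right.eq]; group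
        _ = _ := by rw [← hX.eq, inv_mul_cancel_left]
    rw [e1] at f1
    rcases o.cel_cases hB1 f1 with h1 | h1
    · exact absurd (mul_inv_eq_iff_eq_mul.mp (inv_mul_eq_one.mp h1).symm) hqj
    · exact eq_mul_of_inv_mul_eq h1
  -- an element swapping the two further neighbours of `p 3` and centralizing what is around `p 1`
  obtain ⟨zz, hz3, hz2, hz1, hzzQ2, hzzQ, hzzc⟩ : ∃ zz : G, zz • p 3 = p 3 ∧ zz • p 2 = p 2 ∧ zz • p 1 = p 1 ∧
      zz ∈ QQ (p 2) ∧ zz ∉ QQ (p 3) ∧ ∀ a, Adj (p 1) a → ∀ v ∈ Z a, zz * v = v * zz := by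
    obtain ⟨r, hr⟩ := o.g.exists_crit
    have hr2 : NB (fun i => r (b - i)) 2 := hr.nb.rev.mono (by omega)
    have hq2 : NB (vcons (p 3) (vcons (p 2) fun _ => p 1)) 2 :=
      ((NB.const (p 1)).cons h21 (by omega)).cons h23.symm (fun _ => (hp.nb.turn 1 (by omega)).symm)
    obtain ⟨k, hk⟩ := o.g.h.tr_three (by omega : 2 ≤ 3) false _ _ hr2 hq2
      (by simpa using isLeft_of_notA (o.g.isB_end hr hodd)) (isLeft_of_notA hB3)
    have k0 : k • r b = p 3 := hk 0 (by omega)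
    have k1 : k • r (b - 1) = p 2 := hk 1 (by omega)
    have k2 : k • r (b - 2) = p 1 := hk 2 le_rfl
    have hr' := o.g.crit_smul hr (hr.nb.smul k) k (fun i _ => rfl)
    obtain ⟨zz, hm, hmQ⟩ := SetLike.not_le_iff_exists.mp hr'.ne
    rw [k0] at hmQ
    have hfix : ∀ i, i ≤ b → zz • (k • r i) = k • r i := fun i hi =>
      o.g.fix_walk hr'.nb.walk (Nat.zero_le b) hi hr'.isA (by omega) (by omega) hm
    have i3 := hfix b le_rfl
    have i2 := hfix (b - 1) (by omega)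
    have i1 := hfix (b - 2) (by omega)
    rw [k0] at i3
    rw [k1] at i2
    rw [k2] at i1
    have hQ2 := o.g.lt_walk hr'.nb.walk (Nat.zero_le b) (show b - 1 ≤ b by omega) hr'.isA (by omega) (by omega) hm
    refine ⟨zz, i3, i2, i1, k1 ▸ hQ2, hmQ, fun a ha v hv => o.g.comm hr'.isA (isA_of_adj ha.symm hB1) ?_ hm hv⟩
    have d1 := o.g.h.connected.dist_triangle (u := k • r 0) (v := p 1) (w := a)
    have d2 : dst (k • r 0) (p 1) ≤ b - 2 := by
      rw [← k2]; exact hr'.nb.walk.dst_le o.g.h.connected (Nat.zero_le _) (by omega)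
    have d3 : dst (p 1) a = 1 := SimpleGraph.dist_eq_one_iff_adj.mpr ha
    unfold dst at *
    omega
  have hzsw : zz • (e₃ • p 2) = p 4 :=
    o.g.h.swap h23.symm hw h34 w2 (hp.nb.turn 2 (by omega)).symm w4 hz3 hz2 hzzQ
  have hzsw' : zz • p 4 = e₃ • p 2 :=
    o.g.h.swap h23.symm h34 hw (hp.nb.turn 2 (by omega)).symm w2 w4.symm hz3 hz2 hzzQ
  have hzj : zz * j = j * zz :=
    ((show Commute zz z from hzzc _ tri.ha z tri.r.1).mul_right (hzzc _ tri.ha' _ tri.r'.1)).eq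
  have hz1c : Commute zz (cel (p 1)) := hzzc _ tri.ha'' _ (o.cel_mem_Z h21 hA2)
  obtain ⟨q, hq3, hq4, hqj⟩ : ∃ q : G, q • p 3 = p 3 ∧ q • p 4 = p 4 ∧ q * j * q⁻¹ = j * cel (p 1) := by
    obtain ⟨hq2, hqn⟩ := o.g.h.QQ_fix hq
    have hqa : Adj (p 3) (q • p 4) := adj_of_fix (hqn _ h23) h34
    rcases o.g.h.nbr_cases h23.symm h34 hw hqa (hp.nb.turn 2 (by omega)) w2.symm w4.symm with e1 | e1 | e1
    · exact absurd (smul_left_cancel q (e1.trans hq2.symm)) (hp.nb.turn 2 (by omega)).symm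
    · exact ⟨q, hqn _ h23, e1, hqj'⟩
    · refine ⟨zz * q, by rw [mul_smul, hqn _ h23, hz3], by rw [mul_smul, e1, hzsw], ?_⟩
      rw [show zz * q * j * (zz * q)⁻¹ = zz * (q * j * q⁻¹) * zz⁻¹ by group, hqj',
        ((show Commute zz j from hzj).mul_right hz1c).eq, mul_inv_cancel_right]
  -- transporting the product around `p 1` to a neighbour of `p 4`
  set gg := zz * e₃ with hgg
  have g3 : gg • p 3 = p 3 := by rw [hgg, mul_smul, f3, hz3]
  have g2 : gg • p 2 = p 4 := by rw [hgg, mul_smul, hzsw]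
  have gj : Commute gg j := (show Commute zz j from hzj).mul_left hje
  have gc3 : Commute gg (cel (p 3)) := o.cel_fix hB3 g3
  have qc3 : Commute q (cel (p 3)) := o.cel_fix hB3 hq3
  have ec3 : Commute e₃ (cel (p 3)) := o.cel_fix hB3 f3
  set y := gg • p 1 with hy
  have hy4 : Adj (p 4) y := g2 ▸ adj_smul gg h21
  have hy3 : y ≠ p 3 := fun e1 => hp.nb.turn 1 (by omega) (smul_left_cancel gg (e1.trans g3.symm))
  have hyB : ¬ IsA y := notA_of_adj hy4 hA4
  have hy'4 : Adj (p 4) (q • y) := hq4 ▸ adj_smul q hy4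
  have hy'3 : q • y ≠ p 3 := fun e1 => hy3 (smul_left_cancel q (e1.trans hq3.symm))
  have prod : ∀ (k : G) {x a a' a'' : Vtx M₁ M₂} {u u' u'' v : G}, Tri x a a' a'' u u' u'' → u * u' * u'' = v →
      ∀ {k' : G}, k * v * k⁻¹ = k' → ∃ c c' c'', Tri (k • x) (k • a) (k • a') (k • a'') c c' c'' ∧
        c * c' * c'' = k' := fun k x a a' a'' u u' u'' v ht hv k' hk => ⟨_, _, _, o.tri_smul k ht, by
      rw [← hk, ← hv]; group⟩
  obtain ⟨u₁, u₁', u₁'', T1, hT1⟩ := prod gg tri (v := j * cel (p 3)) (by rw [hjdef])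
    (k' := j * cel (p 3)) (by rw [(gj.mul_right gc3).eq, mul_inv_cancel_right])
  obtain ⟨u₂, u₂', u₂'', T2, hT2⟩ := prod q T1 hT1 (k' := j * cel (p 1) * cel (p 3)) (by
    rw [show q * (j * cel (p 3)) * q⁻¹ = q * j * q⁻¹ * (q * cel (p 3) * q⁻¹) by group, hqj, qc3.eq,
      mul_inv_cancel_right])
  obtain ⟨u₃, u₃', u₃'', T3, hT3⟩ := prod e₃ T1 hT1 (k' := j * cel (p 3)) (by
    rw [((show Commute e₃ j from hje).mul_right ec3).eq, mul_inv_cancel_right])
  obtain ⟨u₄, u₄', u₄'', T4, hT4⟩ := prod e₃ T2 hT2 (k' := j * (e₃ * cel (p 1) * e₃⁻¹) * cel (p 3)) (by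
    rw [show e₃ * (j * cel (p 1) * cel (p 3)) * e₃⁻¹ =
      e₃ * j * e₃⁻¹ * (e₃ * cel (p 1) * e₃⁻¹) * (e₃ * cel (p 3) * e₃⁻¹) by group, hje, mul_inv_cancel_right,
      ec3.eq, mul_inv_cancel_right])
  have hin4 : ∀ {x : Vtx M₁ M₂} {v : G}, Adj (p 4) x → v ∈ Z x → v ∈ Z (p 4) := fun hx hv =>
    o.g.h.Z_le_Z hx hA4 hv
  have hc4 : cel (p 1) ∉ Z (p 4) := fun hm => hce <| by
    refine o.g.comm (hs.nb.walk.isA_even hs.isA le_rfl (by omega)) hA4 ?_ h3 hm
    have := o.g.dst_walk hs.nb.walk (show b + 1 ≤ b + 1 by omega) (show 2 ≤ b + 1 by omega) (k := b - 1)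
      (by omega) (by omega)
    rw [hps 2 (by omega)] at this
    exact lt_of_le_of_lt this (by omega)
  have hc1i : (cel (p 1))⁻¹ = cel (p 1) := inv_eq_of_mul_eq_one_right (o.cel_sq hB1)
  rw [← hy] at T1
  rw [← hy] at T2
  rw [← hy] at T3
  by_cases hyy : q • y = y
  · rw [hyy] at T2
    have := o.tri_unique hyB T1 T2
    rw [hT1, hT2, show (j * cel (p 3))⁻¹ * (j * cel (p 1) * cel (p 3)) = (cel (p 3))⁻¹ * (cel (p 1) * cel (p 3)) by
      group, cc.eq, inv_mul_cancel_left] at this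
    exact hc4 (hin4 hy4 this)
  have hy'B : ¬ IsA (q • y) := notA_of_adj hy'4 hA4
  have hey : Adj (p 4) (e₃ • y) := f4 ▸ adj_smul e₃ hy4
  have hey3 : e₃ • y ≠ p 3 := fun e1 => hy3 (smul_left_cancel e₃ (e1.trans f3.symm))
  rcases o.g.h.nbr_cases h34.symm hy4 hy'4 hey hy3.symm hy'3.symm (Ne.symm hyy) with e1 | e1 | e1
  · exact hey3 e1
  · have e2 : e₃ • (q • y) = q • y := by
      refine o.g.h.eq_third h34.symm hy4 hy3.symm hy'4 hy'3 hyy (f4 ▸ adj_smul e₃ hy'4)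
        (fun e2 => hy'3 (smul_left_cancel e₃ (e2.trans f3.symm))) (fun e2 => hyy ?_)
      exact smul_left_cancel e₃ (e2.trans e1.symm)
    rw [e2] at T4
    have := o.tri_unique hy'B T2 T4
    rw [hT2, hT4, show (j * cel (p 1) * cel (p 3))⁻¹ * (j * (e₃ * cel (p 1) * e₃⁻¹) * cel (p 3)) =
      (cel (p 3))⁻¹ * ((cel (p 1))⁻¹ * (e₃ * cel (p 1) * e₃⁻¹) * cel (p 3)) by group] at this
    set c'' := e₃ * cel (p 1) * e₃⁻¹ with hc''
    have hr1 : Rep (p 3) (p 2) (cel (p 1)) := o.rep_cel h23 h21 hA2 (hp.nb.turn 1 (by omega))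
    have hr2 : Rep (p 3) (e₃ • p 2) c'' := by
      have := o.rep_smul e₃ hr1
      rwa [f3] at this
    have hcw : Commute (cel (p 3)) c'' := o.g.h.Z_comm (isA_of_adj hw.symm hB3) (o.cel_mem_Z hw.symm
      (isA_of_adj hw.symm hB3)) hr2.1
    rw [hc1i, ((cc.symm.mul_right hcw)).symm.eq, inv_mul_cancel_left] at this
    have hm := hin4 hy'4 this
    have hn := o.rep_pair h23.symm hw w2.symm hB3 hr1 hr2
    refine hnf hB3 ⟨h23.symm, hw, h34, w2.symm, hp.nb.turn 2 (by omega), w4, hr1, hr2, hm, hn⟩ ?_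
    rw [o.g.h.Z_sq hA4 hm]
    exact one_mem _
  · rw [e1] at T3
    have := o.tri_unique hy'B T2 T3
    rw [hT2, hT3, show (j * cel (p 1) * cel (p 3))⁻¹ * (j * cel (p 3)) =
      (cel (p 3))⁻¹ * ((cel (p 1))⁻¹ * cel (p 3)) by group, hc1i, cc.eq, inv_mul_cancel_left] at this
    exact hc4 (hin4 hy'4 this)

/-- The commutator of a pair is the central involution two steps inside. -/
theorem pair_j_eq (hb : 5 ≤ b) {p : ℕ → Vtx M₁ M₂} (hp : IsPair p b) {z e : G} (hz : z ∈ Z (p 0))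
    (hzQ : z ∉ QQ (p b)) (he : e ∈ Z (p (b + 1))) (heQ : e ∉ QQ (p 1)) :
    z * (e * z * e⁻¹) = cel (p 3) := by
  have hodd := o.odd
  obtain ⟨s, hs, hps⟩ := o.shift_up hb hp
  obtain ⟨e₃, h3, h3Q⟩ := SetLike.not_le_iff_exists.mp hs.bw
  rw [hps 1 (by omega)] at h3Q
  obtain ⟨f3, -, w2, -, -, hje⟩ := o.e3_facts hb hp hs hps hz hzQ he heQ h3 h3Q
  have hm := o.pair_j_mem (o.four_five hb) hp hz hzQ he heQ
  obtain ⟨-, hj, -, -⟩ := o.pair_j hp hz hzQ he heQ
  have hm' := (o.g.h.mem_Z_smul e₃).mp hm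
  rw [hje, mul_inv_cancel_right] at hm'
  have hB3 : ¬ IsA (p 3) := hp.nb.walk.isB_odd hp.isA (by omega) rfl
  have h32 : Adj (p 3) (p 2) := (hp.nb.walk 2 (by omega)).symm
  rcases o.cel_cases hB3 (o.Z_inf h32 (adj_of_fix f3 h32) w2.symm hB3 hm hm') with h1 | h1
  · exact absurd (h1 ▸ one_mem _) hj
  · exact h1

theorem pair_cel_eq (hb : 5 ≤ b) {p : ℕ → Vtx M₁ M₂} (hp : IsPair p b) : cel (p 3) = cel (p (b - 2)) := by
  obtain ⟨z, hz, hzQ⟩ := SetLike.not_le_iff_exists.mp hp.fw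
  obtain ⟨e, he, heQ⟩ := SetLike.not_le_iff_exists.mp hp.bw
  have h1 := o.pair_j_eq hb hp hz hzQ he heQ
  have h2 := o.pair_j_eq hb (o.g.pair_rev o.odd hp) (z := e) (e := z) (by simpa using he) (by simpa using heQ)
    (by simpa using hz) (by simpa using hzQ)
  obtain ⟨-, -, hsym, -⟩ := o.pair_j hp hz hzQ he heQ
  rw [hsym, h1] at h2
  have h3 : cel (p 3) = cel (p (b + 1 - 3)) := h2
  rwa [show b + 1 - 3 = b - 2 by omega] at h3

theorem false_seven (hb : 7 ≤ b) : False := by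
  have hodd := o.odd
  obtain ⟨p, hp⟩ := o.g.exists_pair hodd
  obtain ⟨s, hs, hps⟩ := o.shift_up (by omega) hp
  obtain ⟨z, hz, hzQ⟩ := SetLike.not_le_iff_exists.mp hp.fw
  obtain ⟨e, he, heQ⟩ := SetLike.not_le_iff_exists.mp hp.bw
  obtain ⟨e₃, h3, h3Q⟩ := SetLike.not_le_iff_exists.mp hs.bw
  rw [hps 1 (by omega)] at h3Q
  obtain ⟨-, -, -, -, hce, -⟩ := o.e3_facts (by omega) hp hs hps hz hzQ he heQ h3 h3Q
  obtain ⟨y, hy, hyne⟩ := o.g.h.exists_ne_nbr (hp.nb.walk 0 (by omega))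
  obtain ⟨μ, hq⟩ := o.shift (by omega) hp hy hyne
  have h1 := o.pair_cel_eq (by omega) hq
  obtain ⟨n, hn⟩ : ∃ n, b = n + 4 := ⟨b - 4, by omega⟩
  have e1 : vcons μ (vcons y p) (b - 2) = p n := by rw [show b - 2 = n + 1 + 1 by omega, vcons_succ, vcons_succ]
  have e3 : vcons μ (vcons y p) 3 = p 1 := rfl
  rw [e1, e3] at h1
  have hA : IsA (p (n + 1)) := hp.nb.walk.isA_even hp.isA (by omega) (by omega)
  refine hce (o.g.comm (hs.nb.walk.isA_even hs.isA le_rfl (by omega)) hA ?_ h3 ?_)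
  · have := o.g.dst_walk hs.nb.walk (show b + 1 ≤ b + 1 by omega) (show n - 1 ≤ b + 1 by omega) (k := 6)
      (by omega) (by omega)
    rw [hps (n - 1) (by omega), show n - 1 + 2 = n + 1 by omega] at this
    exact lt_of_le_of_lt this (by omega)
  · rw [h1]
    exact o.cel_mem_Z (hp.nb.walk n (by omega)).symm hA

/-- The vertices behind the beginning of a critical walk do not matter. -/
theorem crit_mid {r r' : ℕ → Vtx M₁ M₂} (hr : Crit r b) (hr' : NB r' b)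
    (he : ∀ i, 1 ≤ i → i ≤ b → r' i = r i) : Crit r' b := by
  have h3 := o.three_le
  have hodd := o.odd
  have hend := (hr.nb.walk (b - 1) (by omega)).symm
  rw [show b - 1 + 1 = b by omega] at hend
  obtain ⟨w, hw, hwne⟩ := o.g.h.exists_ne_nbr hend
  have h0 : Adj (r' 0) (r 1) := by
    have := hr'.walk 0 (by omega)
    rwa [he 1 le_rfl (by omega)] at this
  have hsn := hr.nb.snoc hw (fun _ => hwne)
  have hq : Crit (fun i => vsnoc r b w (b + 1 - i)) b := by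
    refine ⟨hsn.rev.mono (Nat.le_succ b), ?_, ?_⟩
    · show IsA (vsnoc r b w (b + 1 - 0))
      rw [Nat.sub_zero, vsnoc_last]
      exact isA_of_adj hw.symm (o.g.isB_end hr hodd)
    · show ¬ Z (vsnoc r b w (b + 1 - 0)) ≤ QQ (vsnoc r b w (b + 1 - b))
      rw [Nat.sub_zero, vsnoc_last, show b + 1 - b = 1 by omega, vsnoc_le (by omega)]
      exact o.g.rule hodd hr hw hwne
  have h1 := o.g.rule hodd hq (w := r' 0) (by
    show Adj (vsnoc r b w (b + 1 - b)) (r' 0)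
    rw [show b + 1 - b = 1 by omega, vsnoc_le (by omega)]
    exact h0.symm) (by
    show r' 0 ≠ vsnoc r b w (b + 1 - (b - 1))
    rw [show b + 1 - (b - 1) = 2 by omega, vsnoc_le (by omega), ← he 2 (by omega) (by omega)]
    exact hr'.turn 0 (by omega))
  simp only [show b + 1 - 1 = b by omega, vsnoc_le (le_refl b)] at h1
  refine ⟨hr', isA_of_adj h0 (hr.nb.walk.isB_odd hr.isA (by omega) rfl), ?_⟩
  rwa [he b (by omega) le_rfl]

theorem false_five (hb : b = 5) : False := by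
  subst hb
  obtain ⟨p, hp⟩ := o.g.exists_pair o.odd
  have hW := hp.nb.walk
  have hF := o.four_five le_rfl
  have huni : ∀ r : ℕ → Vtx M₁ M₂, NB r 5 → IsA (r 0) → Crit r 5 := by
    intro r hr hrA
    have hB3 : ¬ IsA (p 3) := hW.isB_odd hp.isA (by omega) rfl
    obtain ⟨q, hq3, hq2, hq4⟩ := o.exists_bits hF (hW 2 (by omega)).symm (hW 3 (by omega))
      (hp.nb.turn 2 (by omega)) hB3
    obtain ⟨-, hn3⟩ := o.g.h.QQ_fix hq3
    obtain ⟨hq22, hn2⟩ := o.g.h.QQ_fix hq2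
    have hq44 : q • p 4 = p 4 := hn3 _ (hW 3 (by omega))
    have hq33 : q • p 3 = p 3 := hn2 _ (hW 2 (by omega))
    have hq5 : q • p 5 ≠ p 5 := o.g.h.moves (hW 3 (by omega)).symm (hW 4 (by omega))
      (hp.nb.turn 3 (by omega)).symm hq44 hq33 hq4
    have hq53 : q • p 5 ≠ p 3 := fun e => hp.nb.turn 3 (by omega) (smul_left_cancel q (e.trans hq33.symm)).symm
    have hu : Adj (p 4) (q • p 5) := adj_of_fix hq44 (hW 4 (by omega))
    have hnb : NB (vsnoc p 4 (q • p 5)) 5 := (hp.nb.mono (by omega : 4 ≤ 5 + 1)).snoc hu (fun _ => hq53)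
    have hcu : Crit (vsnoc p 4 (q • p 5)) 5 := by
      refine o.crit_mid (o.g.crit_smul hp.crit (hp.crit.nb.smul q) q (fun i _ => rfl)) hnb fun i h1 hi => ?_
      interval_cases i
      · rw [vsnoc_le (by omega)]; exact (hn2 _ (hW 1 (by omega)).symm).symm
      · rw [vsnoc_le (by omega)]; exact hq22.symm
      · rw [vsnoc_le (by omega)]; exact hq33.symm
      · rw [vsnoc_le (by omega)]; exact hq44.symm
      · exact vsnoc_last
    obtain ⟨k, hk⟩ := o.g.trA_four o.odd le_rfl p r (hp.nb.mono (by omega)) (hr.mono (by omega)) hp.isA hrA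
    have h43 : Adj (r 4) (r 3) := (hr.walk 3 (by omega)).symm
    have e4 := hk 4 le_rfl
    have e3 := hk 3 (by omega)
    rcases o.g.h.nbr_cases h43 (e4 ▸ adj_smul k (hW 4 (by omega))) (e4 ▸ adj_smul k hu) (hr.walk 4 (by omega))
      (fun e => hp.nb.turn 3 (by omega) (smul_left_cancel k (e3.trans e)))
      (fun e => hq53 (smul_left_cancel k (e3.trans e)).symm) (fun e => hq5 (smul_left_cancel k e).symm)
      with e | e | e
    · exact absurd e (hr.turn 3 (by omega)).symm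
    · refine o.g.crit_smul hp.crit hr k fun i hi => ?_
      rcases Nat.lt_or_ge i 5 with h5 | h5
      · exact hk i (by omega)
      · rw [show i = 5 by omega]; exact e.symm
    · refine o.g.crit_smul hcu hr k fun i hi => ?_
      rcases Nat.lt_or_ge i 5 with h5 | h5
      · rw [vsnoc_le (by omega)]; exact hk i (by omega)
      · rw [show i = 4 + 1 by omega, vsnoc_last]; exact e.symm
  -- walking around a turn at the middle
  have loop : ∀ (P : ℕ → Vtx M₁ M₂), NB P 3 → IsA (P 0) → ∀ k : G, k • P 3 = P 3 → k • P 2 ≠ P 2 → k * k = 1 →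
      ∀ v : G, Rep (P 1) (P 0) v → v * (k * v * k) * v * (k * v * k) = cel (P 3) := by
    intro P hP hA k h3 h2 hk2 v hv
    set R := vcons (P 0) (vcons (P 1) (vcons (P 2) (vcons (P 3) (vcons (k • P 2) (vcons (k • P 1) fun _ => k • P 0)))))
      with hR
    have hRnb : NB R (5 + 1) := by
      refine (((((((NB.const (k • P 0)).cons (adj_smul k (hP.walk 0 (by omega))).symm (by omega)).cons
        (adj_smul k (hP.walk 1 (by omega))).symm (fun _ => smul_ne_smul (hP.turn 0 (by omega)).symm)).cons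
        ?_ (fun _ => ?_)).cons (hP.walk 2 (by omega)) (fun _ => h2.symm)).cons (hP.walk 1 (by omega))
        (fun _ => hP.turn 1 (by omega))).cons (hP.walk 0 (by omega)) (fun _ => hP.turn 0 (by omega)))
      · exact adj_of_fix h3 (hP.walk 2 (by omega)).symm
      · intro e
        exact hP.turn 1 (by omega) (smul_left_cancel k (e.symm.trans h3.symm))
    have hc := huni R (hRnb.mono (by omega)) hA
    have hpair := o.g.pair_of o.odd hRnb hA hc.ne
    have hvQ : v ∉ QQ (k • P 1) := o.not_QQ hc hv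
    have hki : k⁻¹ = k := inv_eq_of_mul_eq_one_right hk2
    have hvi : v⁻¹ = v := o.g.h.Z_inv hA hv.1
    have he' : k * v * k ∈ Z (k • P 0) := by
      have := (o.g.h.mem_Z_smul k).mp hv.1
      rwa [hki] at this
    have heQ : k * v * k ∉ QQ (P 1) := fun hm => hvQ ((o.g.h.mem_QQ_smul k).mpr (by
      rw [hki, smul_smul, hk2, one_smul]; exact hm))
    have := o.pair_j_eq le_rfl hpair (z := v) (e := k * v * k) hv.1 hvQ he' heQ
    rw [show v * (k * v * k * v * (k * v * k)⁻¹) = v * (k * v * k) * v * (k⁻¹ * v⁻¹ * k⁻¹) by group, hki, hvi] at this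
    exact this
  obtain ⟨s, hs, hps⟩ := o.shift_up le_rfl hp
  obtain ⟨z, hz, hzQ⟩ := SetLike.not_le_iff_exists.mp hp.fw
  obtain ⟨e, he, heQ⟩ := SetLike.not_le_iff_exists.mp hp.bw
  obtain ⟨e₃, h3, h3Q⟩ := SetLike.not_le_iff_exists.mp hs.bw
  rw [hps 1 (by omega)] at h3Q
  obtain ⟨f3, -, w2, -, -, -⟩ := o.e3_facts le_rfl hp hs hps hz hzQ he heQ h3 h3Q
  have hAs : IsA (s 6) := hs.nb.walk.isA_even hs.isA le_rfl rfl
  have h1 := loop p (hp.nb.mono (by omega)) hp.isA e₃ f3 w2 (o.g.h.Z_sq hAs h3) z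
    (o.rep_of_not_mem hp.crit hz hzQ)
  have hrs := o.g.pair_rev o.odd hs
  have hrp := o.g.pair_rev o.odd hp
  have hrep : Rep (s 5) (s 6) e₃ := by
    have := o.rep_of_not_mem hrs.crit (v := e₃) h3 (by show e₃ ∉ QQ (s 1); rwa [hps 1 (by omega)])
    simpa using this
  obtain ⟨hzf, -, hzne, -⟩ := o.pair_e hrp (e := z) (by simpa using hz) (by simpa using hzQ)
  have z5 : z • p 5 = p 5 := by simpa using hzf 1 le_rfl (by omega)
  have z6 : z • p 6 ≠ p 6 := by simpa using hzne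
  have h2 := loop (fun i => s (6 - i)) (hs.nb.rev.mono (by omega)) hAs z
    (by show z • s 3 = s 3; rw [hps 3 (by omega)]; exact z5)
    (by show z • s 4 ≠ s 4; rw [hps 4 (by omega)]; exact z6)
    (o.g.h.Z_sq hp.isA hz) e₃ hrep
  have h2' : e₃ * (z * e₃ * z) * e₃ * (z * e₃ * z) = cel (p 5) := by
    rw [h2]; show cel (s 3) = _; rw [hps 3 (by omega)]
  have hB3 : ¬ IsA (p 3) := hW.isB_odd hp.isA (by omega) rfl
  have hinv : (cel (p 3))⁻¹ = cel (p 5) := by
    rw [← h1, ← h2']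
    simp [mul_assoc, o.g.h.Z_inv hp.isA hz, o.g.h.Z_inv hAs h3]
  rw [inv_eq_of_mul_eq_one_right (o.cel_sq hB3)] at hinv
  have hA4 : IsA (p 4) := hW.isA_even hp.isA (by omega) rfl
  exact o.cel_not_mem (hW 4 (by omega)) (hW 3 (by omega)).symm hA4 (hp.nb.turn 3 (by omega))
    (hinv ▸ o.cel_mem (notA_of_adj (hW 4 (by omega)) hA4))

theorem eq_three : b = 3 := by
  have := o.three_le
  have := o.odd
  by_contra hb
  by_cases h5 : b = 5
  · exact o.false_five h5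
  · exact o.false_seven (by omega)

end GO

end CfsgLib.Goldschmidt
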