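import Cfsg.Agent.Lib.LocalEven.Goldschmidt.Odd

/-! Odd critical distance: the fours group around a vertex of the second kind and the commutator of a pair. -/

set_option autoImplicit false
set_option linter.all false

namespace CfsgLib.Goldschmidt

open Subgroup CfsgLib.LocalEven CfsgLib.SThree
open scoped commutatorElement

universe u

variable {G : Type u} [Group G] {M₁ M₂ T : Subgroup G}

open Classical in
/-- The involution of the centre of a vertex of the second kind. -/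
noncomputable def cel (x : Vtx M₁ M₂) : G := if h : ∃ c ∈ Z x, c ≠ 1 then h.choose else 1

/-- A representative of the centre of `a` modulo the centre of its neighbour `x`. -/
def Rep (x a : Vtx M₁ M₂) (u : G) : Prop := u ∈ Z a ∧ u ∉ Z x

/-- Three different neighbours with representatives. -/
structure Tri (x a a' a'' : Vtx M₁ M₂) (u u' u'' : G) : Prop where
  ha : Adj x a
  ha' : Adj x a'
  ha'' : Adj x a''
  ne₁ : a ≠ a'
  ne₂ : a ≠ a''
  ne₃ : a' ≠ a''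
  r : Rep x a u
  r' : Rep x a' u'
  r'' : Rep x a'' u''

/-- Every three representatives multiply into the centre. -/
def FourAll (M₁ M₂ : Subgroup G) : Prop :=
  ∀ (x a a' a'' : Vtx M₁ M₂) (u u' u'' : G), ¬ IsA x → Tri x a a' a'' u u' u'' → u * u' * u'' ∈ Z x

/-- An odd critical distance, with centres of order two. -/
structure GO (M₁ M₂ T : Subgroup G) (b : ℕ) : Prop where
  g : GB M₁ M₂ T b
  odd : b % 2 = 1
  three_le : 3 ≤ b
  two : Nat.card ↥(Zt T) = 2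

theorem GB.toGO {b : ℕ} (g : GB M₁ M₂ T b) (ho : b % 2 = 1) : GO M₁ M₂ T b :=
  ⟨g, ho, by have := g.two_le; omega, g.card_two_odd ho⟩

theorem mul_left_comm_of {a b c : G} (h : a * b = b * a) : a * (b * c) = b * (a * c) := by
  rw [← mul_assoc, h, mul_assoc]

namespace GAmal

variable (h : GAmal M₁ M₂ T)
include h

/-- The core of an end of an edge has index two in the stabilizer of the edge. -/
theorem mul_mem_QQ_iff {v u : Vtx M₁ M₂} (hu : Adj v u) {g k : G} (hg : g ∈ Ed v u) (hk : k ∈ Ed v u) :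
    g * k ∈ QQ v ↔ (g ∈ QQ v ↔ k ∈ QQ v) := by
  obtain ⟨E, -⟩ := h.edge3 hu
  haveI := E.finT
  exact mul_mem_of_card_two E.Q_le_T E.card_T hg hk

end GAmal

namespace GO

variable {b : ℕ} (o : GO M₁ M₂ T b)
include o

theorem card_cen {x : Vtx M₁ M₂} (hx : ¬ IsA x) : Nat.card ↥(Z x) = 2 := by rw [o.g.h.card_Z_B hx, o.two]

theorem card_Z {a : Vtx M₁ M₂} (ha : IsA a) : Nat.card ↥(Z a) = 4 := by rw [o.g.h.card_Z_A ha, o.two]

theorem cel_mem {x : Vtx M₁ M₂} (hx : ¬ IsA x) : cel x ∈ Z x := by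
  unfold cel
  rw [dif_pos (o.g.h.exists_mem_Z_B hx)]
  exact (o.g.h.exists_mem_Z_B hx).choose_spec.1

theorem cel_ne {x : Vtx M₁ M₂} (hx : ¬ IsA x) : cel x ≠ 1 := by
  unfold cel
  rw [dif_pos (o.g.h.exists_mem_Z_B hx)]
  exact (o.g.h.exists_mem_Z_B hx).choose_spec.2

theorem cel_cases {x : Vtx M₁ M₂} (hx : ¬ IsA x) {v : G} (hv : v ∈ Z x) : v = 1 ∨ v = cel x :=
  cases_of_card_two (o.card_cen hx) (o.cel_mem hx) (o.cel_ne hx) hv

theorem cel_sq {x : Vtx M₁ M₂} (hx : ¬ IsA x) : cel x * cel x = 1 := o.g.h.Z_sq_B hx (o.cel_mem hx)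

theorem cel_smul (k : G) {x : Vtx M₁ M₂} (hx : ¬ IsA x) : cel (k • x) = k * cel x * k⁻¹ := by
  have hkx : ¬ IsA (k • x) := by rwa [isA_smul]
  rcases o.cel_cases hkx ((o.g.h.mem_Z_smul k).mp (o.cel_mem hx)) with e | e
  · exact absurd (conj_eq_one_iff.mp e) (o.cel_ne hx)
  · exact e.symm

theorem cel_fix {x : Vtx M₁ M₂} (hx : ¬ IsA x) {k : G} (hk : k • x = x) : k * cel x = cel x * k :=
  commute_of_le_centralizer (o.g.h.St_le_centralizer_Z hx) (mem_St.mpr hk) (o.cel_mem hx)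

theorem cel_mem_Z {a x : Vtx M₁ M₂} (hax : Adj a x) (ha : IsA a) : cel x ∈ Z a :=
  o.g.h.Z_le_Z hax ha (o.cel_mem (notA_of_adj hax ha))

theorem cel_not_mem {a x y : Vtx M₁ M₂} (hax : Adj a x) (hay : Adj a y) (ha : IsA a) (hne : y ≠ x) :
    cel y ∉ Z x := fun hm =>
  o.cel_ne (notA_of_adj hay ha) (o.g.h.Z_inf_eq_one hay hax ha hne (o.cel_mem (notA_of_adj hay ha)) hm)

theorem rep_cel {a x y : Vtx M₁ M₂} (hax : Adj a x) (hay : Adj a y) (ha : IsA a) (hne : y ≠ x) :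
    Rep x a (cel y) := ⟨o.cel_mem_Z hay ha, o.cel_not_mem hax hay ha hne⟩

theorem exists_rep {x a : Vtx M₁ M₂} (hxa : Adj x a) (hx : ¬ IsA x) : ∃ u, Rep x a u := by
  obtain ⟨y, hy, hne⟩ := o.g.h.exists_ne_nbr hxa.symm
  exact ⟨cel y, o.rep_cel hxa.symm hy (isA_of_adj hxa.symm hx) hne⟩

theorem Z_cases {a x y y' : Vtx M₁ M₂} (hax : Adj a x) (hay : Adj a y) (hay' : Adj a y') (ha : IsA a)
    (h1 : x ≠ y) (h2 : x ≠ y') (h3 : y ≠ y') {v : G} (hv : v ∈ Z a) :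
    v = 1 ∨ v = cel x ∨ v = cel y ∨ v = cel y' := by
  have key : ∀ w ∈ Z a, ∃ c ∈ Z x, ∃ d ∈ Z y, w = c * d := fun w hw => o.g.h.exists_mul hax hay ha h1 hw
  have hxy : cel y' = cel x * cel y := by
    obtain ⟨c, hc, d, hd, e⟩ := key _ (o.cel_mem_Z hay' ha)
    rcases o.cel_cases (notA_of_adj hax ha) hc with rfl | rfl <;>
      rcases o.cel_cases (notA_of_adj hay ha) hd with rfl | rfl
    · exact absurd (by simpa using e) (o.cel_ne (notA_of_adj hay' ha))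
    · exact absurd ((by simpa using e : cel y' = cel y) ▸ o.cel_mem (notA_of_adj hay ha))
        (o.cel_not_mem hay hay' ha h3.symm)
    · exact absurd ((by simpa using e : cel y' = cel x) ▸ o.cel_mem (notA_of_adj hax ha))
        (o.cel_not_mem hax hay' ha h2.symm)
    · exact e
  obtain ⟨c, hc, d, hd, rfl⟩ := key v hv
  rcases o.cel_cases (notA_of_adj hax ha) hc with rfl | rfl <;>
    rcases o.cel_cases (notA_of_adj hay ha) hd with rfl | rfl <;> simp [hxy]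

theorem cel_mul {a x y y' : Vtx M₁ M₂} (hax : Adj a x) (hay : Adj a y) (hay' : Adj a y') (ha : IsA a)
    (h1 : x ≠ y) (h2 : x ≠ y') (h3 : y ≠ y') : cel y * cel y' = cel x := by
  have hy := notA_of_adj hay ha
  have hy' := notA_of_adj hay' ha
  rcases o.Z_cases hax hay hay' ha h1 h2 h3
    (mul_mem (o.cel_mem_Z hay ha) (o.cel_mem_Z hay' ha)) with e | e | e | e
  · exfalso
    have e' : cel y' = cel y :=
      (inv_eq_of_mul_eq_one_right e).symm.trans (inv_eq_of_mul_eq_one_right (o.cel_sq hy))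
    exact o.cel_not_mem hay hay' ha h3.symm (e' ▸ o.cel_mem hy)
  · exact e
  · exact absurd (mul_eq_left.mp e) (o.cel_ne hy')
  · exact absurd (mul_eq_right.mp e) (o.cel_ne hy)

/-- The centres of two neighbours of `x` meet in the centre of `x`. -/
theorem Z_inf {x a a' : Vtx M₁ M₂} (ha : Adj x a) (ha' : Adj x a') (hne : a ≠ a') (hx : ¬ IsA x) {v : G}
    (hv : v ∈ Z a) (hv' : v ∈ Z a') : v ∈ Z x := by
  have hA := isA_of_adj ha.symm hx
  have hA' := isA_of_adj ha'.symm hx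
  haveI := o.g.h.finZ hA
  haveI : Finite ↥(Z a ⊓ Z a') := finite_of_le inf_le_left
  have h1 := two_mul_card_le (H := Z a ⊓ Z a') (K := Z a) inf_le_left
    fun hc => o.g.h.Z_not_le ha ha' hne hx (hc.trans inf_le_right)
  rw [o.card_Z hA] at h1
  have h2 : Z x = Z a ⊓ Z a' := eq_of_card_le (le_inf (o.g.h.Z_le_Z ha.symm hA) (o.g.h.Z_le_Z ha'.symm hA'))
    (by rw [o.card_cen hx]; omega)
  rw [h2]
  exact ⟨hv, hv'⟩

theorem rep_mul {x a : Vtx M₁ M₂} (hxa : Adj x a) (hx : ¬ IsA x) {u v : G} (hu : Rep x a u) (hv : Rep x a v) :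
    u⁻¹ * v ∈ Z x := by
  have hA := isA_of_adj hxa.symm hx
  haveI := o.g.h.finZ hA
  rw [mul_mem_of_card_two (o.g.h.Z_le_Z hxa.symm hA) (by rw [o.card_Z hA, o.card_cen hx]) (inv_mem hu.1) hv.1,
    inv_mem_iff]
  exact iff_of_false hu.2 hv.2

theorem rep_smul {x a : Vtx M₁ M₂} {u : G} (k : G) (hu : Rep x a u) : Rep (k • x) (k • a) (k * u * k⁻¹) :=
  ⟨(o.g.h.mem_Z_smul k).mp hu.1, fun hm => hu.2 ((o.g.h.mem_Z_smul k).mpr hm)⟩

/-- Representatives at neighbours of one vertex commute. -/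
theorem Z_nbr_comm {x a a' : Vtx M₁ M₂} (ha : Adj x a) (ha' : Adj x a') (hx : ¬ IsA x) {u u' : G}
    (hu : u ∈ Z a) (hu' : u' ∈ Z a') : u * u' = u' * u :=
  o.g.h.QQ_comm_Z (isA_of_adj ha'.symm hx) (o.g.lt_two ha ha' (isA_of_adj ha.symm hx) o.three_le hu) hu'

theorem rep_pair {x a a' : Vtx M₁ M₂} (ha : Adj x a) (ha' : Adj x a') (hne : a ≠ a') (hx : ¬ IsA x) {u u' : G}
    (hu : Rep x a u) (hu' : Rep x a' u') : u * u' ∉ Z x := fun hm => hu'.2 <| by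
  refine o.Z_inf ha ha' hne hx ?_ hu'.1
  rw [show u' = u⁻¹ * (u * u') by group]
  exact mul_mem (inv_mem hu.1) (o.g.h.Z_le_Z ha.symm (isA_of_adj ha.symm hx) hm)

/-- The product of three representatives does not depend on them modulo the centre. -/
theorem tri_unique {x a a' a'' c c' c'' : Vtx M₁ M₂} {u u' u'' v v' v'' : G} (hx : ¬ IsA x)
    (hu : Tri x a a' a'' u u' u'') (hv : Tri x c c' c'' v v' v'') :
    (u * u' * u'')⁻¹ * (v * v' * v'') ∈ Z x := by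
  have same : ∀ {w w' w'' : G}, Rep x a w → Rep x a' w' → Rep x a'' w'' →
      (u * u' * u'')⁻¹ * (w * w' * w'') ∈ Z x := by
    intro w w' w'' h1 h2 h3
    have m1 := o.rep_mul hu.ha hx hu.r h1
    have m2 := o.rep_mul hu.ha' hx hu.r' h2
    have m3 := o.rep_mul hu.ha'' hx hu.r'' h3
    have c2 : u' * (u⁻¹ * w) = (u⁻¹ * w) * u' := o.Z_nbr_comm hu.ha' hu.ha hx hu.r'.1
      (mul_mem (inv_mem hu.r.1) h1.1)
    have c3 : u'' * ((u⁻¹ * w) * (u'⁻¹ * w')) = ((u⁻¹ * w) * (u'⁻¹ * w')) * u'' :=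
      o.Z_nbr_comm hu.ha'' hu.ha'' hx hu.r''.1
        (o.g.h.Z_le_Z hu.ha''.symm (isA_of_adj hu.ha''.symm hx) (mul_mem m1 m2))
    have e : w * w' * w'' = u * u' * u'' * ((u⁻¹ * w) * (u'⁻¹ * w') * (u''⁻¹ * w'')) := by
      symm
      calc u * u' * u'' * ((u⁻¹ * w) * (u'⁻¹ * w') * (u''⁻¹ * w''))
          = u * u' * (u'' * ((u⁻¹ * w) * (u'⁻¹ * w'))) * (u''⁻¹ * w'') := by group
        _ = u * (u' * (u⁻¹ * w)) * (u'⁻¹ * w') * u'' * (u''⁻¹ * w'') := by rw [c3]; group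
        _ = w * w' * w'' := by rw [c2]; group
    rw [e, inv_mul_cancel_left]
    exact mul_mem (mul_mem m1 m2) m3
  have e12 : v * v' = v' * v := o.Z_nbr_comm hv.ha hv.ha' hx hv.r.1 hv.r'.1
  have e13 : v * v'' = v'' * v := o.Z_nbr_comm hv.ha hv.ha'' hx hv.r.1 hv.r''.1
  have e23 : v' * v'' = v'' * v' := o.Z_nbr_comm hv.ha' hv.ha'' hx hv.r'.1 hv.r''.1
  rcases o.g.h.nbr_cases hu.ha hu.ha' hu.ha'' hv.ha hu.ne₁ hu.ne₂ hu.ne₃ with h1 | h1 | h1 <;> subst h1 <;>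
    rcases o.g.h.nbr_cases hu.ha hu.ha' hu.ha'' hv.ha' hu.ne₁ hu.ne₂ hu.ne₃ with h2 | h2 | h2 <;> subst h2 <;>
    rcases o.g.h.nbr_cases hu.ha hu.ha' hu.ha'' hv.ha'' hu.ne₁ hu.ne₂ hu.ne₃ with h3 | h3 | h3 <;> subst h3 <;>
    first
      | exact absurd rfl hv.ne₁
      | exact absurd rfl hv.ne₂
      | exact absurd rfl hv.ne₃
      | exact same hv.r hv.r' hv.r''
      | (rw [show v * v' * v'' = v * v'' * v' by rw [mul_assoc, e23, mul_assoc]]
         exact same hv.r hv.r'' hv.r')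
      | (rw [show v * v' * v'' = v' * v * v'' by rw [e12]]
         exact same hv.r' hv.r hv.r'')
      | (rw [show v * v' * v'' = v' * v'' * v by
          rw [mul_assoc, mul_left_comm_of e12, e13, ← mul_assoc]]
         exact same hv.r' hv.r'' hv.r)
      | (rw [show v * v' * v'' = v'' * v * v' by
          rw [mul_assoc, e23, ← mul_assoc, e13]]
         exact same hv.r'' hv.r hv.r')
      | (rw [show v * v' * v'' = v'' * v' * v by
          rw [mul_assoc, e23, mul_left_comm_of e13, e12, ← mul_assoc]]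
         exact same hv.r'' hv.r' hv.r)

theorem tri_smul {x a a' a'' : Vtx M₁ M₂} {u u' u'' : G} (k : G) (hu : Tri x a a' a'' u u' u'') :
    Tri (k • x) (k • a) (k • a') (k • a'') (k * u * k⁻¹) (k * u' * k⁻¹) (k * u'' * k⁻¹) :=
  ⟨adj_smul k hu.ha, adj_smul k hu.ha', adj_smul k hu.ha'', smul_ne_smul hu.ne₁, smul_ne_smul hu.ne₂,
    smul_ne_smul hu.ne₃, o.rep_smul k hu.r, o.rep_smul k hu.r', o.rep_smul k hu.r''⟩

/-- The product of three representatives is fixed modulo the centre. -/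
theorem tri_conj {x a a' a'' : Vtx M₁ M₂} {u u' u'' : G} {k : G} (hx : ¬ IsA x)
    (hu : Tri x a a' a'' u u' u'') (hk : k • x = x) :
    (u * u' * u'')⁻¹ * (k * (u * u' * u'') * k⁻¹) ∈ Z x := by
  have h1 := o.tri_smul k hu
  rw [hk] at h1
  have := o.tri_unique hx hu h1
  rwa [show k * u * k⁻¹ * (k * u' * k⁻¹) * (k * u'' * k⁻¹) = k * (u * u' * u'') * k⁻¹ by group] at this

theorem four_of {x a a' a'' : Vtx M₁ M₂} {u u' u'' : G} (hx : ¬ IsA x) (hu : Tri x a a' a'' u u' u'')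
    (hm : u * u' * u'' ∈ Z x) : FourAll M₁ M₂ := by
  intro y c c' c'' v v' v'' hy hv
  have hp : ∀ {z : Vtx M₁ M₂}, ¬ IsA z → Sum.isLeft z = false := fun hz => isLeft_of_notA hz
  obtain ⟨k, hk⟩ := o.g.h.tr_zero false (fun _ => x) (fun _ => y) (NB.const x) (NB.const y) (hp hx) (hp hy)
  have hk0 : k • x = y := hk 0 le_rfl
  have h1 := o.tri_smul k hu
  rw [hk0] at h1
  have h2 := o.tri_unique hy h1 hv
  have h3 : k * u * k⁻¹ * (k * u' * k⁻¹) * (k * u'' * k⁻¹) ∈ Z y := by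
    rw [show k * u * k⁻¹ * (k * u' * k⁻¹) * (k * u'' * k⁻¹) = k * (u * u' * u'') * k⁻¹ by group, ← hk0]
    exact (o.g.h.mem_Z_smul k).mp hm
  have := mul_mem h3 h2
  rwa [mul_inv_cancel_left] at this

/-- In the fours case two representatives give the third. -/
theorem four_mul (hF : FourAll M₁ M₂) {x a a' a'' : Vtx M₁ M₂} (ha : Adj x a) (ha' : Adj x a') (ha'' : Adj x a'')
    (h1 : a ≠ a') (h2 : a ≠ a'') (h3 : a' ≠ a'') (hx : ¬ IsA x) {u u' : G} (hu : Rep x a u) (hu' : Rep x a' u') :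
    u * u' ∈ Z a'' ∧ u * u' ∉ Z x := by
  refine ⟨?_, o.rep_pair ha ha' h1 hx hu hu'⟩
  obtain ⟨w, hw⟩ := o.exists_rep ha'' hx
  have := hF x a a' a'' u u' w hx ⟨ha, ha', ha'', h1, h2, h3, hu, hu', hw⟩
  rw [show u * u' = u * u' * w * w⁻¹ by group]
  exact mul_mem (o.g.h.Z_le_Z ha''.symm (isA_of_adj ha''.symm hx) this) (inv_mem hw.1)

/-- In the fours case an element of `Q_x` is outside an even number of the neighbouring cores. -/
theorem even_bits (hF : FourAll M₁ M₂) {x a a' a'' : Vtx M₁ M₂} (ha : Adj x a) (ha' : Adj x a') (ha'' : Adj x a'')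
    (h1 : a ≠ a') (h2 : a ≠ a'') (h3 : a' ≠ a'') (hx : ¬ IsA x) {q : G} (hq : q ∈ QQ x) (hqa : q ∈ QQ a)
    (hqa' : q ∈ QQ a') : q ∈ QQ a'' := by
  by_contra hc
  obtain ⟨u, hu⟩ := o.exists_rep ha hx
  obtain ⟨u', hu'⟩ := o.exists_rep ha' hx
  obtain ⟨hm, hn⟩ := o.four_mul hF ha ha' ha'' h1 h2 h3 hx hu hu'
  obtain ⟨hqx, hqn⟩ := o.g.h.QQ_fix hq
  refine hn (o.g.h.fixed ha''.symm (isA_of_adj ha''.symm hx) (hqn _ ha'') hqx hc hm ?_)
  have c1 := o.g.h.QQ_comm_Z (isA_of_adj ha.symm hx) hqa hu.1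
  have c2 := o.g.h.QQ_comm_Z (isA_of_adj ha'.symm hx) hqa' hu'.1
  rw [← mul_assoc, c1, mul_assoc, c2, mul_assoc]

theorem card_le_four_nbE (hF : FourAll M₁ M₂) {x : Vtx M₁ M₂} (hx : ¬ IsA x) {X : Subgroup G} (hX : X ≤ QQ x) :
    Nat.card X ≤ 4 * Nat.card ↥(X ⊓ nbE x) := by
  obtain ⟨a, ha⟩ := exists_adj x
  obtain ⟨a', a'', ha', ha'', hne, hne', hne''⟩ := o.g.h.exists_two ha
  have s1 := o.g.h.card_le_inf_QQ ha.symm (hX.trans (o.g.h.QQ_le_Ed' ha))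
  have s2 := o.g.h.card_le_inf_QQ ha'.symm (X := X ⊓ QQ a) (inf_le_left.trans (hX.trans (o.g.h.QQ_le_Ed' ha')))
  have hle : X ⊓ QQ a ⊓ QQ a' ≤ X ⊓ nbE x := by
    intro q hq
    obtain ⟨⟨h1, h2⟩, h3⟩ := hq
    refine Subgroup.mem_inf.mpr ⟨h1, mem_nbE.mpr ⟨hX h1, fun w hw => ?_⟩⟩
    rcases o.g.h.nbr_cases ha ha' ha'' hw hne.symm hne'.symm hne'' with rfl | rfl | rfl
    exacts [h2, h3, o.even_bits hF ha ha' ha'' hne.symm hne'.symm hne'' hx (hX h1) h2 h3]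
  haveI := o.g.h.finQQ x
  haveI := finite_of_le (inf_le_left.trans hX : X ⊓ nbE x ≤ QQ x)
  have s3 := card_le_of_le hle
  omega

/-- In the fours case some element of `Q_x` is outside a prescribed pair of neighbouring cores. -/
theorem exists_bits (hF : FourAll M₁ M₂) {x a a' : Vtx M₁ M₂} (ha : Adj x a) (ha' : Adj x a') (hne : a ≠ a')
    (hx : ¬ IsA x) : ∃ q ∈ QQ x, q ∈ QQ a ∧ q ∉ QQ a' := by
  obtain ⟨a'', ha'', hn, hn'⟩ := o.g.h.exists_third ha ha' hne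
  obtain ⟨q, hq, hqa⟩ := o.g.h.exists_QQ_not ha
  obtain ⟨c, d, hc, hd, hcd, hqc, hqd⟩ : ∃ c d, Adj x c ∧ Adj x d ∧ c ≠ d ∧ q ∈ QQ c ∧ q ∉ QQ d := by
    by_cases h1 : q ∈ QQ a'
    · exact ⟨a', a, ha', ha, hne.symm, h1, hqa⟩
    by_cases h2 : q ∈ QQ a''
    · exact ⟨a'', a, ha'', ha, hn, h2, hqa⟩
    exfalso
    -- an element outside all three cores
    obtain ⟨u, hu⟩ := o.exists_rep ha hx
    obtain ⟨u', hu'⟩ := o.exists_rep ha' hx
    obtain ⟨hm, hm'⟩ := o.four_mul hF ha ha' ha'' hne hn.symm hn'.symm hx hu hu'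
    obtain ⟨hqx, hqn⟩ := o.g.h.QQ_fix hq
    have key : ∀ {v : G} {e : Vtx M₁ M₂}, Adj x e → q ∉ QQ e → v ∈ Z e → v ∉ Z x →
        q * v * q⁻¹ = cel x * v := by
      intro v e he hqe hv hvx
      have hA := isA_of_adj he.symm hx
      have h0 := o.g.h.comm_mem_Z' he.symm hA (hqn _ he) hqx hv
      rcases o.cel_cases hx h0 with e1 | e1
      · have e2 : q * v * q⁻¹ = v := (eq_inv_of_mul_eq_one_left e1).trans (o.g.h.Z_inv hA hv)
        exact absurd (o.g.h.fixed he.symm hA (hqn _ he) hqx hqe hv (mul_inv_eq_iff_eq_mul.mp e2)) hvx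
      · exact (eq_mul_inv_of_mul_eq e1).trans (by rw [o.g.h.Z_inv hA hv])
    have k1 := key ha hqa hu.1 hu.2
    have k2 := key ha' h1 hu'.1 hu'.2
    have k3 := key ha'' h2 hm hm'
    have e : q * (u * u') * q⁻¹ = u * u' := by
      rw [show q * (u * u') * q⁻¹ = q * u * q⁻¹ * (q * u' * q⁻¹) by group, k1, k2]
      have cu : u * cel x = cel x * u :=
        o.Z_nbr_comm ha ha hx hu.1 (o.cel_mem_Z ha.symm (isA_of_adj ha.symm hx))
      calc cel x * u * (cel x * u') = cel x * (u * cel x) * u' := by group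
        _ = (cel x * cel x) * (u * u') := by rw [cu]; group
        _ = u * u' := by rw [o.cel_sq hx, one_mul]
    rw [e] at k3
    exact o.cel_ne hx (mul_eq_right.mp k3.symm)
  have hxL : IsA c := isA_of_adj hc.symm hx
  have hw1 : NB (vcons c (vcons x fun _ => d)) 2 :=
    ((NB.const d).cons hd (by omega)).cons hc.symm (fun _ => hcd)
  have hw2 : NB (vcons a (vcons x fun _ => a')) 2 :=
    ((NB.const a').cons ha' (by omega)).cons ha.symm (fun _ => hne)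
  obtain ⟨k, hk⟩ := o.g.h.tr_three (by omega : 2 ≤ 3) true _ _ hw1 hw2 hxL (isA_of_adj ha.symm hx)
  have k0 := hk 0 (by omega)
  have k1 := hk 1 (by omega)
  have k2 := hk 2 le_rfl
  simp only [vcons_zero, vcons_succ] at k0 k1 k2
  refine ⟨k * q * k⁻¹, ?_, ?_, ?_⟩
  · rw [← k1, ← o.g.h.mem_QQ_smul k]; exact hq
  · rw [← k0, ← o.g.h.mem_QQ_smul k]; exact hqc
  · rw [← k2, ← o.g.h.mem_QQ_smul k]; exact hqd

theorem omega_center {a : Vtx M₁ M₂} (ha : IsA a) {v : G} (hv : v ∈ QQ a) (hv2 : v * v = 1)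
    (hc : ∀ q ∈ QQ a, q * v = v * q) : v ∈ Z a := by
  obtain ⟨x, hx⟩ := exists_adj a
  obtain ⟨y, hy, hne⟩ := o.g.h.exists_ne_nbr hx
  obtain ⟨E, -, -⟩ := o.g.h.edge hx ha
  obtain ⟨t, ht, htQ⟩ := E.h₁.exists_out_Q
  obtain ⟨hta, htx⟩ := mem_Ed.mp ht
  have hB := notA_of_adj hx ha
  have mem : ∀ w : G, w ∈ QQ a → (∀ q ∈ QQ a, q * w = w * q) → w * w = 1 → t * w = w * t → w ∈ Z x := by
    intro w hw hwc hw2 htw
    rw [o.g.h.Z_B hx ha]
    refine mem_Zt (E.h₁.Q_le_T hw) ?_ hw2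
    have h1 : Ed a x ≤ centralizer ({w} : Set G) := by
      rw [← E.h₁.sup_mem ht htQ]
      exact sup_le (fun q hq => mem_centralizer_singleton_iff.mpr (hwc q hq))
        (zpowers_le.mpr (mem_centralizer_singleton_iff.mpr htw))
    exact mem_centralizer_iff.mpr fun s hs => mem_centralizer_singleton_iff.mp (h1 hs)
  have conjc : ∀ w : G, w ∈ QQ a → (∀ q ∈ QQ a, q * w = w * q) → t * w * t⁻¹ ∈ QQ a ∧
      ∀ q ∈ QQ a, q * (t * w * t⁻¹) = t * w * t⁻¹ * q := by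
    intro w hw hwc
    refine ⟨(o.g.h.conj_QQ hta).mp hw, fun q hq => ?_⟩
    have hq' : t⁻¹ * q * t ∈ QQ a := by
      have := (o.g.h.conj_QQ (g := t⁻¹) (by rw [inv_smul_eq_iff, hta])).mp hq
      rwa [inv_inv] at this
    calc q * (t * w * t⁻¹) = t * ((t⁻¹ * q * t) * w) * t⁻¹ := by group
      _ = t * (w * (t⁻¹ * q * t)) * t⁻¹ := by rw [hwc _ hq']
      _ = _ := by group
  have prod : ∀ w : G, w ∈ QQ a → (∀ q ∈ QQ a, q * w = w * q) → w * w = 1 → w * (t * w * t⁻¹) ∈ Z x := by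
    intro w hw hwc hw2
    obtain ⟨h1, h2⟩ := conjc w hw hwc
    refine mem _ (mul_mem hw h1) (fun q hq => ?_) ?_ ?_
    · rw [← mul_assoc, hwc q hq, mul_assoc, h2 q hq, ← mul_assoc]
    · rw [show w * (t * w * t⁻¹) * (w * (t * w * t⁻¹)) = w * ((t * w * t⁻¹) * w) * (t * w * t⁻¹) by group,
        ← h2 w hw, show w * (w * (t * w * t⁻¹)) * (t * w * t⁻¹) = w * w * (t * (w * w) * t⁻¹) by group, hw2]
      group
    · have hq : t * t * w = w * (t * t) := hwc _ (o.g.h.sq_mem_QQ hx hta htx)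
      have h5 : t * (w * (t * w * t⁻¹)) * t⁻¹ = w * (t * w * t⁻¹) := by
        calc t * (w * (t * w * t⁻¹)) * t⁻¹ = (t * w * t⁻¹) * (t * t * w * t⁻¹ * t⁻¹) := by group
          _ = (t * w * t⁻¹) * w := by rw [hq]; group
          _ = w * (t * w * t⁻¹) := (h2 w hw).symm
      exact mul_inv_eq_iff_eq_mul.mp h5
  have hle : Z x ≤ Z a := o.g.h.Z_le_Z hx ha
  have hfixed : ∀ w : G, w * w = 1 → w * (t * w * t⁻¹) = 1 → t * w = w * t := fun w hw2 hp =>
    mul_inv_eq_iff_eq_mul.mp ((inv_eq_of_mul_eq_one_right hp).symm.trans (inv_eq_of_mul_eq_one_right hw2))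
  rcases o.cel_cases hB (prod v hv hc hv2) with e | e
  · exact hle (mem v hv hc hv2 (hfixed v hv2 e))
  obtain ⟨hy1, hy2⟩ := o.rep_cel hx hy ha hne
  have hyQ := o.g.h.Z_le_QQ ha hy1
  have hyc : ∀ q ∈ QQ a, q * cel y = cel y * q := fun q hq => o.g.h.QQ_comm_Z ha hq hy1
  have hy3 := o.g.h.Z_sq ha hy1
  rcases o.cel_cases hB (prod _ hyQ hyc hy3) with e' | e'
  · exact absurd (mem _ hyQ hyc hy3 (hfixed _ hy3 e')) hy2
  have hprod : v * cel y * (t * (v * cel y) * t⁻¹) = 1 := by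
    rw [show v * cel y * (t * (v * cel y) * t⁻¹) = v * (cel y * (t * v * t⁻¹)) * (t * cel y * t⁻¹) by group,
      (conjc v hv hc).2 _ hyQ,
      show v * (t * v * t⁻¹ * cel y) * (t * cel y * t⁻¹) = v * (t * v * t⁻¹) * (cel y * (t * cel y * t⁻¹)) by group,
      e, e', o.cel_sq hB]
  have hs : v * cel y * (v * cel y) = 1 := by
    rw [show v * cel y * (v * cel y) = v * (cel y * v) * cel y by group, hc _ hyQ, ← mul_assoc, hv2, one_mul, hy3]
  have hmem := mem _ (mul_mem hv hyQ) (fun q hq => by rw [← mul_assoc, hc q hq, mul_assoc, hyc q hq, ← mul_assoc]) hs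
    (hfixed _ hs hprod)
  rw [show v = v * cel y * (cel y)⁻¹ by group]
  exact mul_mem (hle hmem) (inv_mem hy1)

/-! ### Critical walks -/

theorem ker {q : ℕ → Vtx M₁ M₂} (hc : Crit q b) {v : G} (hv : v ∈ Z (q 0)) :
    v ∈ QQ (q b) ↔ v ∈ Z (q 1) := by
  have := o.three_le
  have hW := hc.nb.walk
  have h01 : Adj (q 0) (q 1) := hW 0 (by omega)
  have hA2 : IsA (q 2) := hW.isA_even hc.isA (by omega) rfl
  have hle : Z (q 1) ≤ Z (q 0) ⊓ QQ (q b) := le_inf (o.g.h.Z_le_Z h01 hc.isA)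
    ((o.g.h.Z_le_Z (hW 1 (by omega)).symm hA2).trans
      (o.g.lt_walk hW (show 2 ≤ b by omega) le_rfl hA2 (by omega) (by omega)))
  haveI := o.g.h.finZ hc.isA
  haveI : Finite ↥(Z (q 0) ⊓ QQ (q b)) := finite_of_le inf_le_left
  have h2 := two_mul_card_le (H := Z (q 0) ⊓ QQ (q b)) (K := Z (q 0)) inf_le_left
    fun hle' => hc.ne (hle'.trans inf_le_right)
  rw [o.card_Z hc.isA] at h2
  have he : Z (q 1) = Z (q 0) ⊓ QQ (q b) := eq_of_card_le hle
    (by rw [o.card_cen (notA_of_adj h01 hc.isA)]; omega)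
  rw [he]
  exact ⟨fun h => ⟨hv, h⟩, fun h => h.2⟩

theorem rep_of_not_mem {q : ℕ → Vtx M₁ M₂} (hc : Crit q b) {v : G} (hv : v ∈ Z (q 0)) (hvQ : v ∉ QQ (q b)) :
    Rep (q 1) (q 0) v := ⟨hv, fun hm => hvQ ((o.ker hc hv).mpr hm)⟩

/-- What the end of a pair does to its beginning. -/
theorem pair_e {p : ℕ → Vtx M₁ M₂} (hp : IsPair p b) {e : G} (he : e ∈ Z (p (b + 1))) (heQ : e ∉ QQ (p 1)) :
    (∀ i, 1 ≤ i → i ≤ b + 1 → e • p i = p i) ∧ Adj (p 1) (e • p 0) ∧ e • p 0 ≠ p 0 ∧ e • p 0 ≠ p 2 := by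
  have := o.three_le
  have hW := hp.nb.walk
  have hodd := o.odd
  have hA1 : IsA (p (b + 1)) := hW.isA_even hp.isA le_rfl (by omega)
  have hef : ∀ i, 1 ≤ i → i ≤ b + 1 → e • p i = p i := fun i h1 hi =>
    o.g.fix_walk hW le_rfl hi hA1 (by omega) (by omega) he
  refine ⟨hef, adj_of_fix (hef 1 le_rfl (by omega)) (hW 0 (by omega)).symm,
    o.g.h.moves (hW 1 (by omega)) (hW 0 (by omega)).symm (hp.nb.turn 0 (by omega)) (hef 1 le_rfl (by omega))
      (hef 2 (by omega) (by omega)) heQ, fun e1 => ?_⟩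
  exact hp.nb.turn 0 (by omega) (smul_left_cancel e (e1.trans (hef 2 (by omega) (by omega)).symm))

/-- The commutator of a pair, in its two forms. -/
theorem pair_j {p : ℕ → Vtx M₁ M₂} (hp : IsPair p b) {z e : G} (hz : z ∈ Z (p 0)) (hzQ : z ∉ QQ (p b))
    (he : e ∈ Z (p (b + 1))) (heQ : e ∉ QQ (p 1)) :
    Tri (p 1) (p 0) (e • p 0) (p 2) z (e * z * e⁻¹) (cel (p 3)) ∧ z * (e * z * e⁻¹) ∉ Z (p 1) ∧
      e * (z * e * z⁻¹) = z * (e * z * e⁻¹) ∧
      z * (e * z * e⁻¹) * (z * (e * z * e⁻¹)) = 1 := by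
  have := o.three_le
  have hodd := o.odd
  have hW := hp.nb.walk
  have hA1 : IsA (p (b + 1)) := hW.isA_even hp.isA le_rfl (by omega)
  have hB1 : ¬ IsA (p 1) := hW.isB_odd hp.isA (by omega) rfl
  have hA2 : IsA (p 2) := hW.isA_even hp.isA (by omega) rfl
  obtain ⟨hef, hadje, hne0, hne2⟩ := o.pair_e hp he heQ
  have hr := o.rep_of_not_mem hp.crit hz hzQ
  have hr' : Rep (p 1) (e • p 0) (e * z * e⁻¹) := by
    have := o.rep_smul e hr
    rwa [hef 1 le_rfl (by omega)] at this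
  have htri : Tri (p 1) (p 0) (e • p 0) (p 2) z (e * z * e⁻¹) (cel (p 3)) :=
    ⟨(hW 0 (by omega)).symm, hadje, hW 1 (by omega), hne0.symm, hp.nb.turn 0 (by omega), hne2, hr, hr',
      o.rep_cel (hW 1 (by omega)).symm (hW 2 (by omega)) hA2 (hp.nb.turn 1 (by omega)).symm⟩
  have hz2 := o.g.h.Z_inv hp.isA hz
  have he2 := o.g.h.Z_inv hA1 he
  have hc : z * (e * z * e⁻¹) = e * z * e⁻¹ * z := o.Z_nbr_comm (hW 0 (by omega)).symm hadje hB1 hz hr'.1
  have hsq' : e * z * e⁻¹ * (e * z * e⁻¹) = 1 := o.g.h.Z_sq (isA_of_adj hadje.symm hB1) hr'.1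
  refine ⟨htri, o.rep_pair htri.ha htri.ha' htri.ne₁ hB1 hr hr', ?_, ?_⟩
  · rw [hc]
    rw [hz2, he2]
    group
  · calc z * (e * z * e⁻¹) * (z * (e * z * e⁻¹))
        = z * (e * z * e⁻¹ * z) * (e * z * e⁻¹) := by group
      _ = z * (z * (e * z * e⁻¹)) * (e * z * e⁻¹) := by rw [hc]
      _ = (z * z) * (e * z * e⁻¹ * (e * z * e⁻¹)) := by group
      _ = 1 := by rw [o.g.h.Z_sq hp.isA hz, hsq', one_mul]

/-- In the fours case the commutator of a pair lies in the next centre. -/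
theorem pair_j_mem (hF : FourAll M₁ M₂) {p : ℕ → Vtx M₁ M₂} (hp : IsPair p b) {z e : G} (hz : z ∈ Z (p 0))
    (hzQ : z ∉ QQ (p b)) (he : e ∈ Z (p (b + 1))) (heQ : e ∉ QQ (p 1)) : z * (e * z * e⁻¹) ∈ Z (p 2) := by
  have := o.three_le
  obtain ⟨htri, -, -, -⟩ := o.pair_j hp hz hzQ he heQ
  exact (o.four_mul hF htri.ha htri.ha' htri.ha'' htri.ne₁ htri.ne₂ htri.ne₃
    (hp.nb.walk.isB_odd hp.isA (by omega) rfl) htri.r htri.r').1

end GO

end CfsgLib.Goldschmidt
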