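import Cfsg.Agent.Lib.LocalEven.Goldschmidt.ThreeBase

/-! Critical distance three: the bound. -/

set_option autoImplicit false
set_option linter.all false

namespace CfsgLib.Goldschmidt

open Subgroup CfsgLib.LocalEven CfsgLib.SThree
open scoped commutatorElement

universe u

variable {G : Type u} [Group G] {M₁ M₂ T : Subgroup G}

/-- What `q` does to every representative beyond the neighbour `x` of `a`. -/
def PhiIs (a x : Vtx M₁ M₂) (q w : G) : Prop :=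
  ∀ t z, Adj x t → t ≠ a → Rep x t z → q * z * q⁻¹ * z = w

/-- An element with prescribed effect at the middle one of three neighbours and none at the others. -/
def SlotIs (a x₁ x₂ x₃ : Vtx M₁ M₂) (w : G) : Prop :=
  ∃ q ∈ QQ a, PhiIs a x₁ q 1 ∧ PhiIs a x₂ q w ∧ PhiIs a x₃ q 1

namespace GO

variable (o : GO M₁ M₂ T 3)
include o

theorem phi_indep {a x t : Vtx M₁ M₂} (hax : Adj a x) (hxt : Adj x t) (hta : t ≠ a) (ha : IsA a) {q z : G}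
    (hq : q ∈ QQ a) (hz : Rep x t z) : PhiIs a x q (q * z * q⁻¹ * z) := by
  intro t' z' ht' hta' hz'
  have hx := notA_of_adj hax ha
  have htA := isA_of_adj hxt.symm hx
  have hw : z⁻¹ * z' ∈ Z a := by
    by_cases e : t' = t
    · subst e
      exact o.g.h.Z_le_Z hax ha (o.rep_mul hxt hx hz hz')
    · rw [o.g.h.Z_inv htA hz.1]
      exact (o.four_mul o.four_three hxt ht' hax.symm (Ne.symm e) hta hta' hx hz hz').1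
  set w := z⁻¹ * z' with hwdef
  have hz'' : z' = z * w := (mul_inv_cancel_left z z').symm
  have c1 : q * w = w * q := o.g.h.QQ_comm_Z ha hq hw
  have c2 : w * z = z * w := o.Z_nbr_comm hax.symm hxt hx hw hz.1
  rw [hz'']
  calc q * (z * w) * q⁻¹ * (z * w) = q * z * (w * q⁻¹) * (z * w) := by group
    _ = q * z * (q⁻¹ * w) * (z * w) := by rw [(show Commute q w from c1).inv_left.eq]
    _ = q * z * q⁻¹ * (w * z) * w := by group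
    _ = q * z * q⁻¹ * z * (w * w) := by rw [c2]; group
    _ = q * z * q⁻¹ * z := by rw [o.g.h.Z_sq ha hw, mul_one]

theorem phi_mul {a x : Vtx M₁ M₂} (hax : Adj a x) (ha : IsA a) {q r w v : G} (hq : q ∈ QQ a) (hw : w ∈ Z a)
    (hv : v ∈ Z a) (h1 : PhiIs a x q w) (h2 : PhiIs a x r v) : PhiIs a x (q * r) (w * v) := by
  intro t z ht hta hz
  have htA := isA_of_adj ht.symm (notA_of_adj hax ha)
  have e1 : r * z * r⁻¹ = v * z :=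
    (eq_mul_inv_of_mul_eq (h2 t z ht hta hz)).trans (by rw [o.g.h.Z_inv htA hz.1])
  have c : q * v = v * q := o.g.h.QQ_comm_Z ha hq hv
  calc q * r * z * (q * r)⁻¹ * z = q * (r * z * r⁻¹) * q⁻¹ * z := by group
    _ = (q * v) * (z * q⁻¹ * z) := by rw [e1]; group
    _ = v * (q * z * q⁻¹ * z) := by rw [c]; group
    _ = w * v := by rw [h1 t z ht hta hz, o.g.h.Z_comm ha hv hw]

theorem phi_one {a x : Vtx M₁ M₂} (hax : Adj a x) (ha : IsA a) : PhiIs a x (1 : G) 1 := fun t z ht hta hz => by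
  rw [inv_one, one_mul, mul_one, o.g.h.Z_sq (isA_of_adj ht.symm (notA_of_adj hax ha)) hz.1]

/-- The commutator along a walk of length four is the involution at the third neighbour of its middle. -/
theorem pair_c {t x a y s u : Vtx M₁ M₂} (htx : Adj x t) (hax : Adj a x) (hay : Adj a y) (hys : Adj y s)
    (hau : Adj a u) (hxy : x ≠ y) (hta : t ≠ a) (hsa : s ≠ a) (hux : u ≠ x) (huy : u ≠ y) (ha : IsA a)
    {z e : G} (hz : Rep x t z) (he : Rep y s e) : z * e * z⁻¹ * e = cel u := by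
  have htA : IsA t := isA_of_adj htx.symm (notA_of_adj hax ha)
  have hsA : IsA s := isA_of_adj hys.symm (notA_of_adj hay ha)
  have hnb : NB (vcons t (vcons x (vcons a (vcons y fun _ => s)))) (3 + 1) :=
    ((((NB.const s).cons hys (by omega)).cons hay (fun _ => hsa.symm)).cons hax.symm (fun _ => hxy)).cons
      htx.symm (fun _ => hta)
  have c1 := o.g.crit_of_tr (o.g.h.tr_three le_rfl true) (hnb.mono (Nat.le_succ 3)) htA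
  have hp : IsPair (vcons t (vcons x (vcons a (vcons y fun _ => s)))) 3 := o.g.pair_of o.odd hnb htA c1.ne
  have hzQ : z ∉ QQ y := fun hq => hz.2 ((o.ker c1 hz.1).mp hq)
  have heQ : e ∉ QQ x := fun hq =>
    he.2 ((o.ker_three hys.symm hay.symm hax hsa hxy.symm hsA he.1).mp hq)
  obtain ⟨-, hn1, hsym, -⟩ := o.pair_j hp hz.1 hzQ he.1 heQ
  obtain ⟨-, hn3, -, -⟩ := o.pair_j (o.g.pair_rev o.odd hp) (z := e) (e := z) he.1 heQ hz.1 hzQ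
  have hm := o.pair_j_mem o.four_three hp hz.1 hzQ he.1 heQ
  simp only [show 3 + 1 - 1 = 3 by rfl, vcons_zero, vcons_succ] at hn3 hn1 hm
  rw [hsym] at hn3
  have hje : z * (e * z * e⁻¹) = cel u := by
    rcases o.Z_cases hax hay hau ha hxy hux.symm huy.symm hm with e1 | e1 | e1 | e1
    · exact absurd (e1 ▸ one_mem _) hn1
    · exact absurd (e1 ▸ o.cel_mem (notA_of_adj hax ha)) hn1
    · exact absurd (e1 ▸ o.cel_mem (notA_of_adj hay ha)) hn3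
    · exact e1
  rw [← hje, ← hsym]
  have hz' : Rep (z • y) (z • s) (z * e * z⁻¹) := o.rep_smul z he
  obtain ⟨hzy, hzn⟩ : z • y = y ∧ z • a = a := ⟨o.g.fix_walk c1.nb.walk (Nat.zero_le 3) (le_refl 3) htA
    (by omega) (by omega) hz.1, o.g.fix_walk c1.nb.walk (Nat.zero_le 3) (show 2 ≤ 3 by omega) htA
    (by omega) (by omega) hz.1⟩
  rw [hzy] at hz'
  exact o.Z_nbr_comm (adj_of_fix hzy hys) hys (notA_of_adj hay ha) hz'.1 he.1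

theorem child_mem_QQ {a x t : Vtx M₁ M₂} (hax : Adj a x) (hxt : Adj x t) (ha : IsA a) {z : G} (hz : z ∈ Z t) :
    z ∈ QQ a :=
  o.g.lt_two hxt hax.symm (isA_of_adj hxt.symm (notA_of_adj hax ha)) le_rfl hz

/-- The product over the three branches. -/
theorem exists_diag {a x₁ x₂ x₃ : Vtx M₁ M₂} (h₁ : Adj a x₁) (h₂ : Adj a x₂) (h₃ : Adj a x₃) (n12 : x₁ ≠ x₂)
    (n13 : x₁ ≠ x₃) (n23 : x₂ ≠ x₃) (ha : IsA a) :
    ∃ q ∈ QQ a, PhiIs a x₁ q (cel x₁) ∧ PhiIs a x₂ q (cel x₂) ∧ PhiIs a x₃ q (cel x₃) := by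
  obtain ⟨t₁, ht₁, n₁⟩ := o.g.h.exists_ne_nbr h₁.symm
  obtain ⟨t₂, ht₂, n₂⟩ := o.g.h.exists_ne_nbr h₂.symm
  obtain ⟨t₃, ht₃, n₃⟩ := o.g.h.exists_ne_nbr h₃.symm
  obtain ⟨r₁, hr₁⟩ := o.exists_rep ht₁ (notA_of_adj h₁ ha)
  obtain ⟨r₂, hr₂⟩ := o.exists_rep ht₂ (notA_of_adj h₂ ha)
  obtain ⟨r₃, hr₃⟩ := o.exists_rep ht₃ (notA_of_adj h₃ ha)
  have q₁ := o.child_mem_QQ h₁ ht₁ ha hr₁.1
  have q₂ := o.child_mem_QQ h₂ ht₂ ha hr₂.1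
  have q₃ := o.child_mem_QQ h₃ ht₃ ha hr₃.1
  have own : ∀ {x t : Vtx M₁ M₂} {r : G}, Adj a x → Adj x t → Rep x t r → PhiIs a x r 1 := by
    intro x t r hx ht hr t' z' ht' _ hz'
    rw [o.Z_nbr_comm ht ht' (notA_of_adj hx ha) hr.1 hz'.1, mul_inv_cancel_right,
      o.g.h.Z_sq (isA_of_adj ht'.symm (notA_of_adj hx ha)) hz'.1]
  have cross : ∀ {x y u t : Vtx M₁ M₂} {r : G}, Adj a x → Adj a y → Adj a u → x ≠ y → u ≠ x → u ≠ y →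
      Adj x t → t ≠ a → Rep x t r → PhiIs a y r (cel u) := fun hx hy hu nxy nux nuy ht hta hr s e hs hsa he =>
    o.pair_c ht hx hy hs hu nxy hta hsa nux nuy ha hr he
  have hc : ∀ {x : Vtx M₁ M₂}, Adj a x → cel x ∈ Z a := fun hx => o.cel_mem_Z hx ha
  refine ⟨r₁ * r₂ * r₃, mul_mem (mul_mem q₁ q₂) q₃, ?_, ?_, ?_⟩
  · have := o.phi_mul h₁ ha (mul_mem q₁ q₂) (mul_mem (one_mem _) (hc h₃)) (hc h₂)
      (o.phi_mul h₁ ha q₁ (one_mem _) (hc h₃) (own h₁ ht₁ hr₁) (cross h₂ h₁ h₃ n12.symm n23.symm n13.symm ht₂ n₂ hr₂))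
      (cross h₃ h₁ h₂ n13.symm n23 n12.symm ht₃ n₃ hr₃)
    rwa [one_mul, o.cel_mul h₁ h₃ h₂ ha n13 n12 n23.symm] at this
  · have := o.phi_mul h₂ ha (mul_mem q₁ q₂) (mul_mem (hc h₃) (one_mem _)) (hc h₁)
      (o.phi_mul h₂ ha q₁ (hc h₃) (one_mem _) (cross h₁ h₂ h₃ n12 n13.symm n23.symm ht₁ n₁ hr₁) (own h₂ ht₂ hr₂))
      (cross h₃ h₂ h₁ n23.symm n13 n12 ht₃ n₃ hr₃)
    rwa [mul_one, o.cel_mul h₂ h₃ h₁ ha n23 n12.symm n13.symm] at this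
  · have := o.phi_mul h₃ ha (mul_mem q₁ q₂) (mul_mem (hc h₂) (hc h₁)) (one_mem _)
      (o.phi_mul h₃ ha q₁ (hc h₂) (hc h₁) (cross h₁ h₃ h₂ n13 n12.symm n23 ht₁ n₁ hr₁)
        (cross h₂ h₃ h₁ n23 n12 n13 ht₂ n₂ hr₂))
      (own h₃ ht₃ hr₃)
    rwa [mul_one, o.cel_mul h₃ h₂ h₁ ha n23.symm n13.symm n12.symm] at this

/-- Four halvings from `nbE x` to `farE x`, with strict steps if the kernel is large. -/
theorem nbE_chain {x a₁ a₂ a₃ y₁ y₁' y₂ y₃ : Vtx M₁ M₂} (hx : ¬ IsA x) (h₁ : Adj x a₁) (h₂ : Adj x a₂)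
    (h₃ : Adj x a₃) (n12 : a₁ ≠ a₂) (n13 : a₁ ≠ a₃) (n23 : a₂ ≠ a₃) (hy₁ : Adj a₁ y₁) (hy₁' : Adj a₁ y₁')
    (hy₂ : Adj a₂ y₂) (hy₃ : Adj a₃ y₃) (x₁ : y₁ ≠ x) (x₁' : y₁' ≠ x) (x₂ : y₂ ≠ x) (x₃ : y₃ ≠ x)
    (m₁ : y₁ ≠ y₁') :
    Nat.card ↥(nbE x) ≤ 32 ∧ (32 ≤ Nat.card ↥(nbE x) →
      (∃ q ∈ nbE x, q ∈ QQ y₁ ∧ q ∉ QQ y₁') ∧
      ∃ q ∈ nbE x, q ∈ QQ y₁ ∧ q ∈ QQ y₁' ∧ q ∈ QQ y₃ ∧ q ∉ QQ y₂) := by
  haveI := o.g.h.finNbE x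
  haveI : Finite ↥(farE x) := finite_of_le (farE_le x)
  have s1 := o.g.h.card_le_inf_QQ hy₁.symm ((nbE_le_nbr h₁).trans (o.g.h.QQ_le_Ed' hy₁))
  have s2 := o.g.h.card_le_inf_QQ hy₁'.symm (X := nbE x ⊓ QQ y₁)
    (inf_le_left.trans ((nbE_le_nbr h₁).trans (o.g.h.QQ_le_Ed' hy₁')))
  have s3 := o.g.h.card_le_inf_QQ hy₃.symm (X := nbE x ⊓ QQ y₁ ⊓ QQ y₁')
    ((inf_le_left.trans inf_le_left).trans ((nbE_le_nbr h₃).trans (o.g.h.QQ_le_Ed' hy₃)))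
  have s4 := o.g.h.card_le_inf_QQ hy₂.symm (X := nbE x ⊓ QQ y₁ ⊓ QQ y₁' ⊓ QQ y₃)
    (((inf_le_left.trans inf_le_left).trans inf_le_left).trans ((nbE_le_nbr h₂).trans (o.g.h.QQ_le_Ed' hy₂)))
  have s5 : Nat.card ↥(nbE x ⊓ QQ y₁ ⊓ QQ y₁' ⊓ QQ y₃ ⊓ QQ y₂) ≤ Nat.card ↥(farE x) := by
    refine card_le_of_le fun q hq => ?_
    obtain ⟨⟨⟨⟨h0, q1⟩, q1'⟩, q3⟩, q2⟩ := hq
    exact o.mem_farE_of hx h₁ h₂ h₃ n12 n13 n23 hy₁ hy₁' hy₂ hy₃ x₁ x₁' x₂ x₃ m₁ h0 q1 q1' q2 q3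
  have s6 := o.card_farE hx
  refine ⟨by omega, fun h32 => ⟨?_, ?_⟩⟩
  · by_contra hc
    push Not at hc
    have : nbE x ⊓ QQ y₁ ⊓ QQ y₁' = nbE x ⊓ QQ y₁ :=
      inf_eq_left.mpr fun q hq => hc q (Subgroup.mem_inf.mp hq).1 (Subgroup.mem_inf.mp hq).2
    rw [this] at s3 s4 s5 s2
    omega
  · by_contra hc
    push Not at hc
    have : nbE x ⊓ QQ y₁ ⊓ QQ y₁' ⊓ QQ y₃ ⊓ QQ y₂ = nbE x ⊓ QQ y₁ ⊓ QQ y₁' ⊓ QQ y₃ :=
      inf_eq_left.mpr fun q hq => by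
        obtain ⟨⟨⟨h0, q1⟩, q1'⟩, q3⟩ := hq
        exact hc q h0 q1 q1' q3
    rw [this] at s4 s5
    omega

theorem large_nbE (hbig : 128 < Nat.card T) {x : Vtx M₁ M₂} (hx : ¬ IsA x) : 32 ≤ Nat.card ↥(nbE x) := by
  haveI : Fact (Nat.Prime 2) := ⟨Nat.prime_two⟩
  haveI := o.g.h.h₁.finT
  obtain ⟨k, hk⟩ := o.g.h.h₁.two.exists_card_eq
  have hk8 : 8 ≤ k := by
    by_contra hlt
    have : 2 ^ k ≤ 2 ^ 7 := Nat.pow_le_pow_right (by omega) (by omega)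
    rw [hk] at hbig
    omega
  have h256 : 256 ≤ Nat.card T := by
    rw [hk]
    exact le_trans (by norm_num) (Nat.pow_le_pow_right (by omega : 0 < 2) hk8)
  have h1 := o.g.h.card_QQ x
  have h2 := o.card_le_four_nbE o.four_three hx (le_refl (QQ x))
  rw [inf_eq_right.mpr (nbE_le x)] at h2
  omega

/-- The element with effect only at the third neighbour. -/
theorem slot_cel (hbig : 128 < Nat.card T) {a x₁ x₂ x₃ : Vtx M₁ M₂} (h₁ : Adj a x₁) (h₂ : Adj a x₂)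
    (h₃ : Adj a x₃) (n12 : x₁ ≠ x₂) (n13 : x₁ ≠ x₃) (n23 : x₂ ≠ x₃) (ha : IsA a) :
    ∃ q ∈ QQ a, PhiIs a x₁ q 1 ∧ PhiIs a x₂ q 1 ∧ PhiIs a x₃ q (cel x₃) := by
  have hx := notA_of_adj h₃ ha
  obtain ⟨b₂, b₃, hb₂, hb₃, nb₂, nb₃, nb⟩ := o.g.h.exists_two h₃.symm
  obtain ⟨y₂, hy₂, m₂⟩ := o.g.h.exists_ne_nbr hb₂.symm
  obtain ⟨y₃, y₃', hy₃, hy₃', m₃, m₃', m33⟩ := o.g.h.exists_two hb₃.symm
  obtain ⟨-, q, hqE, q1, q2, q3, q4⟩ := (o.nbE_chain hx h₃.symm hb₂ hb₃ nb₂.symm nb₃.symm nb h₁ h₂ hy₂ hy₃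
    n13 n23 m₂ m₃ n12).2 (o.large_nbE hbig hx)
  have hqa : q ∈ QQ a := nbE_le_nbr h₃.symm hqE
  have hq3 : PhiIs a x₃ q 1 := fun t z ht hta hz => by
    rw [o.g.h.QQ_comm_Z (isA_of_adj ht.symm hx) (nbE_le_nbr ht hqE) hz.1, mul_inv_cancel_right,
      o.g.h.Z_sq (isA_of_adj ht.symm hx) hz.1]
  have hq33 : q ∈ QQ y₃' :=
    (o.pair_eq h₃.symm hb₃ nb₃.symm h₁ h₂ n13 n23 n12 hy₃ hy₃' m₃ m₃' m33 hx hqE (iff_of_true q1 q2)).mp q3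
  have side : ∀ {y : Vtx M₁ M₂}, Adj a y → y ≠ x₃ → q ∈ QQ y → PhiIs a y q (cel y) := by
    intro y hy hyx hqy t z ht hta hz
    have hyB := notA_of_adj hy ha
    obtain ⟨hqy', hqn⟩ := o.g.h.QQ_fix hqy
    rcases o.cel_cases hyB (o.g.h.comm_mem_Z' ht.symm (isA_of_adj ht.symm hyB) (hqn t ht) hqy' hz.1) with e | e
    · exfalso
      obtain ⟨hzx, hza, -, hzQ⟩ := o.swapper h₃.symm hy ht hyx hta hx hz
      have hsw : z • b₂ = b₃ := o.g.h.swap h₃.symm hb₂ hb₃ nb₂ nb₃ nb hzx hza hzQ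
      have hzq : z * q * z⁻¹ = q := by
        rw [← mul_inv_eq_iff_eq_mul.mp ((eq_inv_of_mul_eq_one_left e).trans
          (o.g.h.Z_inv (isA_of_adj ht.symm hyB) hz.1)), mul_inv_cancel_right]
      refine q4 ((o.g.h.mem_QQ_smul z).mpr ?_)
      rw [hzq]
      have hw : Adj b₃ (z • y₂) := hsw ▸ adj_smul z hy₂
      have hwx : z • y₂ ≠ x₃ := fun e' => m₂ (smul_left_cancel z (e'.trans hzx.symm))
      rcases o.g.h.nbr_cases hb₃.symm hy₃ hy₃' hw m₃.symm m₃'.symm m33 with e' | e' | e'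
      · exact absurd e' hwx
      · rw [e']; exact q3
      · rw [e']; exact hq33
    · exact e
  obtain ⟨r, hr, r1, r2, r3⟩ := o.exists_diag h₁ h₂ h₃ n12 n13 n23 ha
  refine ⟨q * r, mul_mem hqa hr, ?_, ?_, ?_⟩
  · have := o.phi_mul h₁ ha hqa (o.cel_mem_Z h₁ ha) (o.cel_mem_Z h₁ ha) (side h₁ n13 q1) r1
    rwa [o.cel_sq (notA_of_adj h₁ ha)] at this
  · have := o.phi_mul h₂ ha hqa (o.cel_mem_Z h₂ ha) (o.cel_mem_Z h₂ ha) (side h₂ n23 q2) r2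
    rwa [o.cel_sq (notA_of_adj h₂ ha)] at this
  · have := o.phi_mul h₃ ha hqa (one_mem _) (o.cel_mem_Z h₃ ha) hq3 r3
    rwa [one_mul] at this

theorem slot_all (hbig : 128 < Nat.card T) {a x₁ x₂ x₃ : Vtx M₁ M₂} (h₁ : Adj a x₁) (h₂ : Adj a x₂)
    (h₃ : Adj a x₃) (n12 : x₁ ≠ x₂) (n13 : x₁ ≠ x₃) (n23 : x₂ ≠ x₃) (ha : IsA a) {w : G} (hw : w ∈ Z a) :
    SlotIs a x₁ x₂ x₃ w := by
  have hx := notA_of_adj h₃ ha
  have hx₂ := notA_of_adj h₂ ha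
  have hmul : ∀ {w v : G}, w ∈ Z a → v ∈ Z a → SlotIs a x₁ x₂ x₃ w → SlotIs a x₁ x₂ x₃ v →
      SlotIs a x₁ x₂ x₃ (w * v) := by
    rintro w v hw hv ⟨q, hq, a1, a2, a3⟩ ⟨r, hr, b1, b2, b3⟩
    refine ⟨q * r, mul_mem hq hr, ?_, o.phi_mul h₂ ha hq hw hv a2 b2, ?_⟩
    · have := o.phi_mul h₁ ha hq (one_mem _) (one_mem _) a1 b1
      rwa [mul_one] at this
    · have := o.phi_mul h₃ ha hq (one_mem _) (one_mem _) a3 b3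
      rwa [mul_one] at this
  have hone : SlotIs a x₁ x₂ x₃ 1 := ⟨1, one_mem _, o.phi_one h₁ ha, o.phi_one h₂ ha, o.phi_one h₃ ha⟩
  have hc : SlotIs a x₁ x₂ x₃ (cel x₂) := by
    obtain ⟨q, hq, a1, a2, a3⟩ := o.slot_cel hbig h₁ h₃ h₂ n13 n12 n23.symm ha
    exact ⟨q, hq, a1, a3, a2⟩
  obtain ⟨b₂, b₃, hb₂, hb₃, nb₂, nb₃, nb⟩ := o.g.h.exists_two h₃.symm
  obtain ⟨y₂, hy₂, m₂⟩ := o.g.h.exists_ne_nbr hb₂.symm
  obtain ⟨y₃, hy₃, m₃⟩ := o.g.h.exists_ne_nbr hb₃.symm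
  obtain ⟨⟨q, hqE, q1, q2⟩, -⟩ := (o.nbE_chain hx h₃.symm hb₂ hb₃ nb₂.symm nb₃.symm nb h₁ h₂ hy₂ hy₃
    n13 n23 m₂ m₃ n12).2 (o.large_nbE hbig hx)
  have hqa : q ∈ QQ a := nbE_le_nbr h₃.symm hqE
  have hq3 : PhiIs a x₃ q 1 := fun t z ht hta hz => by
    rw [o.g.h.QQ_comm_Z (isA_of_adj ht.symm hx) (nbE_le_nbr ht hqE) hz.1, mul_inv_cancel_right,
      o.g.h.Z_sq (isA_of_adj ht.symm hx) hz.1]
  obtain ⟨hqa', hqn⟩ := o.g.h.QQ_fix hqa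
  obtain ⟨t, ht, hta⟩ := o.g.h.exists_ne_nbr h₂.symm
  obtain ⟨z, hz⟩ := o.exists_rep ht hx₂
  have hqt : q • t ≠ t := o.g.h.moves h₂.symm ht hta (hqn _ h₂) hqa' q2
  have hr : Rep x₂ (q • t) (q * z * q⁻¹) := by
    have := o.rep_smul q hz
    rwa [hqn _ h₂] at this
  set v := q * z * q⁻¹ * z with hvdef
  obtain ⟨hv, hv'⟩ := o.four_mul o.four_three (adj_of_fix (hqn _ h₂) ht) ht h₂.symm hqt
    (fun e => hta (smul_left_cancel q (e.trans hqa'.symm))) hta hx₂ hr hz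
  obtain ⟨t₁, ht₁, hta₁⟩ := o.g.h.exists_ne_nbr h₁.symm
  obtain ⟨z₁, hz₁⟩ := o.exists_rep ht₁ (notA_of_adj h₁ ha)
  obtain ⟨hq1x, hq1n⟩ := o.g.h.QQ_fix q1
  have hsv : SlotIs a x₁ x₂ x₃ v := by
    have p2 := o.phi_indep h₂ ht hta ha hqa hz
    have p1 := o.phi_indep h₁ ht₁ hta₁ ha hqa hz₁
    rcases o.cel_cases (notA_of_adj h₁ ha) (o.g.h.comm_mem_Z' ht₁.symm
      (isA_of_adj ht₁.symm (notA_of_adj h₁ ha)) (hq1n _ ht₁) hq1x hz₁.1) with e | e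
    · rw [e] at p1
      exact ⟨q, hqa, p1, p2, hq3⟩
    · rw [e] at p1
      obtain ⟨r, hr, a3, a2, a1⟩ := o.slot_cel hbig h₃ h₂ h₁ n23.symm n13.symm n12.symm ha
      refine ⟨q * r, mul_mem hqa hr, ?_, ?_, ?_⟩
      · have := o.phi_mul h₁ ha hqa (o.cel_mem_Z h₁ ha) (o.cel_mem_Z h₁ ha) p1 a1
        rwa [o.cel_sq (notA_of_adj h₁ ha)] at this
      · have := o.phi_mul h₂ ha hqa hv (one_mem _) p2 a2
        rwa [mul_one] at this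
      · have := o.phi_mul h₃ ha hqa (one_mem _) (one_mem _) hq3 a3
        rwa [mul_one] at this
  have hZ2 : ∀ u ∈ Z x₂, SlotIs a x₁ x₂ x₃ u := by
    intro u hu
    rcases o.cel_cases hx₂ hu with rfl | rfl
    exacts [hone, hc]
  by_cases hwx : w ∈ Z x₂
  · exact hZ2 w hwx
  · haveI := o.g.h.finZ ha
    have h1 : v⁻¹ * w ∈ Z x₂ := o.rep_mul h₂.symm hx₂ ⟨hv, hv'⟩ ⟨hw, hwx⟩
    have := hmul hv (o.g.h.Z_le_Z h₂ ha h1) hsv (hZ2 _ h1)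
    rwa [mul_inv_cancel_left] at this

theorem bound_three : Nat.card T ≤ 128 := by
  by_contra hbig
  push Not at hbig
  obtain ⟨x, hxB⟩ : ∃ x : Vtx M₁ M₂, ¬ IsA x := ⟨Sum.inr ((1 : G) : G ⧸ M₂), by simp [IsA]⟩
  obtain ⟨a, hxa⟩ := exists_adj x
  have ha := isA_of_adj hxa.symm hxB
  obtain ⟨x₁, x₂, h₁, h₂, n1, n2, n12⟩ := o.g.h.exists_two hxa.symm
  -- the bound on the order of `T`
  obtain ⟨b₂, b₃, hb₂, hb₃, nb₂, nb₃, nb⟩ := o.g.h.exists_two hxa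
  obtain ⟨y₂, hy₂, m₂⟩ := o.g.h.exists_ne_nbr hb₂.symm
  obtain ⟨y₃, hy₃, m₃⟩ := o.g.h.exists_ne_nbr hb₃.symm
  have hE := (o.nbE_chain hxB hxa hb₂ hb₃ nb₂.symm nb₃.symm nb h₁ h₂ hy₂ hy₃ n1 n2 m₂ m₃ n12).1
  have hQx := o.card_le_four_nbE o.four_three hxB (le_refl (QQ x))
  rw [inf_eq_right.mpr (nbE_le x)] at hQx
  have hTx := o.g.h.card_QQ x
  have hTa := o.g.h.card_QQ a
  -- the homomorphism given by the three branches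
  have hax : Adj a x := hxa.symm
  obtain ⟨t₁, ht₁, k₁⟩ := o.g.h.exists_ne_nbr h₁.symm
  obtain ⟨t₂, ht₂, k₂⟩ := o.g.h.exists_ne_nbr h₂.symm
  obtain ⟨t₃, ht₃, k₃⟩ := o.g.h.exists_ne_nbr hxa
  obtain ⟨z₁, hz₁⟩ := o.exists_rep ht₁ (notA_of_adj h₁ ha)
  obtain ⟨z₂, hz₂⟩ := o.exists_rep ht₂ (notA_of_adj h₂ ha)
  obtain ⟨z₃, hz₃⟩ := o.exists_rep ht₃ hxB
  have hphi : ∀ {y t : Vtx M₁ M₂} {z : G}, Adj a y → Adj y t → t ≠ a → Rep y t z →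
      ∀ q r : ↥(QQ a), (q * r : G) * z * (q * r : G)⁻¹ * z = ((q : G) * z * (q : G)⁻¹ * z) * ((r : G) * z * (r : G)⁻¹ * z) := by
    intro y t z hy ht hta hz q r
    obtain ⟨hq1, hq2⟩ := o.g.h.QQ_fix q.2
    obtain ⟨hr1, hr2⟩ := o.g.h.QQ_fix r.2
    exact o.phi_mul hy ha q.2 (o.phi_mem hy ht hta ha (hq2 _ hy) hq1 hz) (o.phi_mem hy ht hta ha (hr2 _ hy) hr1 hz)
      (o.phi_indep hy ht hta ha q.2 hz) (o.phi_indep hy ht hta ha r.2 hz) t z ht hta hz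
  let Φ : ↥(QQ a) →* G × G × G := MonoidHom.mk'
    (fun q => ((q : G) * z₁ * (q : G)⁻¹ * z₁, (q : G) * z₂ * (q : G)⁻¹ * z₂, (q : G) * z₃ * (q : G)⁻¹ * z₃))
    fun q r => Prod.ext (hphi h₁ ht₁ k₁ hz₁ q r) (Prod.ext (hphi h₂ ht₂ k₂ hz₂ q r) (hphi hax ht₃ k₃ hz₃ q r))
  haveI := o.g.h.finQQ a
  haveI : Finite ↥Φ.range := Finite.of_surjective Φ.rangeRestrict Φ.rangeRestrict_surjective
  have hR : Subgroup.prod (Z a) (Subgroup.prod (Z a) (Z a)) ≤ Φ.range := by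
    rintro ⟨u, v, w⟩ ⟨hu, hv, hw⟩
    obtain ⟨q₁, m1, a1, b1, c1⟩ := o.slot_all hbig h₂ h₁ hax n12.symm n2 n1 ha hu
    obtain ⟨q₂, m2, a2, b2, c2⟩ := o.slot_all hbig h₁ h₂ hax n12 n1 n2 ha hv
    obtain ⟨q₃, m3, a3, b3, c3⟩ := o.slot_all hbig h₁ hax h₂ n1 n12 n2.symm ha hw
    refine ⟨⟨q₁, m1⟩ * ⟨q₂, m2⟩ * ⟨q₃, m3⟩, ?_⟩
    rw [map_mul, map_mul]
    show ((q₁ * z₁ * q₁⁻¹ * z₁, q₁ * z₂ * q₁⁻¹ * z₂, q₁ * z₃ * q₁⁻¹ * z₃) *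
      (q₂ * z₁ * q₂⁻¹ * z₁, q₂ * z₂ * q₂⁻¹ * z₂, q₂ * z₃ * q₂⁻¹ * z₃) *
      (q₃ * z₁ * q₃⁻¹ * z₁, q₃ * z₂ * q₃⁻¹ * z₂, q₃ * z₃ * q₃⁻¹ * z₃) : G × G × G) = (u, v, w)
    rw [b1 t₁ z₁ ht₁ k₁ hz₁, a1 t₂ z₂ ht₂ k₂ hz₂, c1 t₃ z₃ ht₃ k₃ hz₃, a2 t₁ z₁ ht₁ k₁ hz₁,
      b2 t₂ z₂ ht₂ k₂ hz₂, c2 t₃ z₃ ht₃ k₃ hz₃, a3 t₁ z₁ ht₁ k₁ hz₁, c3 t₂ z₂ ht₂ k₂ hz₂, b3 t₃ z₃ ht₃ k₃ hz₃]
    simp [Prod.mk_mul_mk]
  have hK : (Z a).subgroupOf (QQ a) ≤ Φ.ker := by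
    intro q hq
    have hq' : (q : G) ∈ Z a := mem_subgroupOf.mp hq
    have key : ∀ {y t : Vtx M₁ M₂} {z : G}, Adj a y → Adj y t → Rep y t z →
        (q : G) * z * (q : G)⁻¹ * z = 1 := fun hy ht hz => by
      rw [o.Z_nbr_comm hy.symm ht (notA_of_adj hy ha) hq' hz.1, mul_inv_cancel_right,
        o.g.h.Z_sq (isA_of_adj ht.symm (notA_of_adj hy ha)) hz.1]
    exact MonoidHom.mem_ker.mpr (Prod.ext (key h₁ ht₁ hz₁) (Prod.ext (key h₂ ht₂ hz₂) (key hax ht₃ hz₃)))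
  have h64 := card_le_of_le hR
  rw [Nat.card_congr (Subgroup.prodEquiv _ _).toEquiv, Nat.card_prod,
    Nat.card_congr (Subgroup.prodEquiv _ _).toEquiv, Nat.card_prod, o.card_Z ha] at h64
  have h4 := card_le_of_le hK
  rw [Nat.card_congr (subgroupOfEquivOfLe (o.g.h.Z_le_QQ ha)).toEquiv, o.card_Z ha] at h4
  have hcard := Φ.ker.index_mul_card
  rw [Subgroup.index_ker] at hcard
  have := Nat.mul_le_mul h64 h4
  omega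

end GO

end CfsgLib.Goldschmidt
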