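import Cfsg.Agent.Lib.LocalEven.Goldschmidt.Even
import Cfsg.Agent.Lib.LocalEven.Goldschmidt.Three
import Cfsg.Agent.Lib.LocalEven.Goldschmidt.Five
import Cfsg.Agent.Lib.LocalEven.SThreeIso

/-! Goldschmidt's bound for amalgams of index (3, 3). -/

set_option autoImplicit false
set_option linter.all false

namespace CfsgLib.Goldschmidt

open Subgroup CfsgLib.LocalEven CfsgLib.SThree
open scoped commutatorElement

universe u

variable {G : Type u} [Group G]

theorem GAmal.bound {M₁ M₂ T : Subgroup G} (h : GAmal M₁ M₂ T) : Nat.card T ≤ 128 := by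
  obtain ⟨b, g⟩ := h.exists_GB
  rcases Nat.even_or_odd b with hb | hb
  · exact g.bound_two (g.even_two (Nat.even_iff.mp hb))
  · have o := g.toGO (Nat.odd_iff.mp hb)
    obtain rfl := o.eq_three
    exact o.bound_three

/-- When one group is not of characteristic 2. -/
theorem card_le_of_not_charTwo {P R T : Subgroup G} (hP : IsSThree P T) (hR : IsSThree R T)
    (core : ∀ N : Subgroup G, N ≤ T → P ≤ normalizer (N : Set G) → R ≤ normalizer (N : Set G) → N = ⊥)
    (hc : ¬ P ⊓ centralizer (Q P : Set G) ≤ Q P) : Nat.card T ≤ 16 := by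
  haveI := hP.fin
  haveI := hP.finT
  haveI := hR.finQ
  have hPX : P ≤ normalizer ((P ⊓ centralizer (Q P : Set G) : Subgroup G) : Set G) := by
    refine le_normalizer_iff.mpr fun g hg x hx => Subgroup.mem_inf.mpr
      ⟨P.mul_mem (P.mul_mem hg hx.1) (P.inv_mem hg), mem_centralizer_iff.mpr fun v hv => ?_⟩
    have h1 : g⁻¹ * v * g ∈ Q P := (mem_normalizer_iff''.mp (hP.Q_normal hg) v).mp hv
    have h2 := mem_centralizer_iff.mp hx.2 _ h1
    calc v * (g * x * g⁻¹) = g * ((g⁻¹ * v * g) * x) * g⁻¹ := by group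
      _ = g * (x * (g⁻¹ * v * g)) * g⁻¹ := by rw [h2]
      _ = _ := by group
  obtain ⟨x, hx, hxT⟩ : ∃ x ∈ P ⊓ centralizer (Q P : Set G), x ∉ T := by
    by_contra hcon
    push Not at hcon
    refine hc ?_
    haveI : ((P ⊓ centralizer (Q P : Set G)).subgroupOf P).Normal := Subgroup.normal_subgroupOf_of_le_normalizer hPX
    rw [← map_subgroupOf_eq_of_le (inf_le_left : P ⊓ centralizer (Q P : Set G) ≤ P)]
    exact map_mono (CfsgLib.Core.le_pCore ((hP.two.to_le (fun x hx => hcon x hx)).comap_subtype (K := P)))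
  -- whatever `T` normalizes inside `Q P` is normal in `P`
  have hnorm : ∀ N : Subgroup G, N ≤ Q P → T ≤ normalizer (N : Set G) → P ≤ normalizer (N : Set G) :=
    fun N hN hT => hP.le_normalizer_of hT (Subgroup.mem_inf.mp hx).1 hxT
      (normalizer_of_centralizer (centralizer_le (SetLike.coe_subset_coe.mpr hN) (Subgroup.mem_inf.mp hx).2))
  set D := Q P ⊓ Q R with hD
  have hDT : T ≤ normalizer (D : Set G) :=
    le_trans (le_inf (hP.le.trans hP.Q_normal) (hR.le.trans hR.Q_normal))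
      CfsgLib.Transfer.normalizer_le_normalizer_inf
  obtain ⟨y, hy, hyT⟩ := hR.exists_out
  obtain ⟨t, ht, htQ⟩ := hR.exists_out_Q
  have hN := hR.le_normalizer_conjInf hDT hy hyT ht htQ
  have hN0 : D ⊓ D.map (MulAut.conj y).toMonoidHom ⊓ D.map (MulAut.conj (t * y)).toMonoidHom = ⊥ :=
    core _ ((inf_le_left.trans inf_le_left).trans (inf_le_left.trans hP.Q_le_T))
      (hnorm _ ((inf_le_left.trans inf_le_left).trans inf_le_left) (hR.le.trans hN)) hN
  have hidx : Nat.card ↥(Q R) ≤ 2 * Nat.card ↥D := by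
    rw [hD, inf_comm]
    by_cases hle : Q R ≤ Q P
    · rw [inf_eq_left.mpr hle]; omega
    · exact (hP.card_inf_Q hR.Q_le_T hle).le
  have hconj : ∀ a ∈ R, ∀ X : Subgroup G, X ≤ Q R →
      Nat.card X ≤ 2 * Nat.card ↥(X ⊓ D.map (MulAut.conj a).toMonoidHom) := by
    intro a ha X hX
    set C := D.map (MulAut.conj a).toMonoidHom
    have hCQ : C ≤ Q R := (map_mono inf_le_right).trans (mem_normalizer_conj_iff.mp (hR.Q_normal ha)).le
    have hC : Nat.card C = Nat.card ↥D := card_map_of_injective (MulAut.conj a).injective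
    haveI := finite_of_le hCQ
    rcases Nat.lt_or_ge (Nat.card C) (Nat.card ↥(Q R)) with h1 | h1
    · have h2 : Nat.card ↥(Q R) = 2 * Nat.card C := by
        obtain ⟨k, hk⟩ := card_dvd_of_le hCQ
        have h0 : 0 < Nat.card C := Nat.card_pos
        have : k ≤ 2 := Nat.le_of_mul_le_mul_left (by rw [← hk, mul_comm, hC]; exact hidx) h0
        have : k ≠ 1 := fun e => by rw [e, mul_one] at hk; omega
        have : k ≠ 0 := fun e => by rw [e, mul_zero] at hk; exact Nat.card_pos.ne' hk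
        rw [hk, mul_comm, show k = 2 by omega]
      have h3 := CfsgLib.Core.card_sup_mul_card_inf X C (hX.trans (le_normalizer_of_card_two hCQ h2))
      have h4 := card_le_of_le (sup_le hX hCQ)
      have h5 : 0 < Nat.card C := Nat.card_pos
      refine Nat.le_of_mul_le_mul_right ?_ h5
      rw [← h3]
      calc Nat.card ↥(X ⊔ C) * Nat.card ↥(X ⊓ C) ≤ 2 * Nat.card C * Nat.card ↥(X ⊓ C) :=
            Nat.mul_le_mul_right _ (h4.trans h2.le)
        _ = _ := by ring
    · rw [eq_of_card_le hCQ h1, inf_eq_left.mpr hX]; omega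
  have s1 := hconj y hy D inf_le_right
  have s2 := hconj (t * y) (R.mul_mem (hR.le ht) hy) (D ⊓ D.map (MulAut.conj y).toMonoidHom)
    (inf_le_left.trans inf_le_right)
  rw [hN0, Subgroup.card_bot] at s2
  have := hR.card_T
  omega

/-- The bound when the two groups generate. -/
theorem card_le_of_gen {M₁ M₂ T : Subgroup G} (h₁ : IsSThree M₁ T) (h₂ : IsSThree M₂ T) (hinf : M₁ ⊓ M₂ = T)
    (hgen : M₁ ⊔ M₂ = ⊤) (c₁ : M₁ ⊓ centralizer (Q M₁ : Set G) ≤ Q M₁)
    (c₂ : M₂ ⊓ centralizer (Q M₂ : Set G) ≤ Q M₂) (core : ∀ N : Subgroup G, N.Normal → N ≤ T → N = ⊥) :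
    Nat.card T ≤ 128 := by
  by_cases a₁ : M₁ ≤ centralizer (Zt T : Set G) <;> by_cases a₂ : M₂ ≤ centralizer (Zt T : Set G)
  · haveI := h₁.finT
    have hN : (Zt T).Normal := normalizer_eq_top_iff.mp (top_le_iff.mp (hgen ▸
      sup_le (a₁.trans (Subgroup.centralizer_le_normalizer _)) (a₂.trans (Subgroup.centralizer_le_normalizer _))))
    have hbot := core _ hN (Zt_le T)
    by_cases hT : T = ⊥
    · rw [hT, Subgroup.card_bot]; omega
    · exact absurd hbot (Zt_ne_bot h₁.two hT)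
  · exact GAmal.bound (⟨h₂, h₁, by rw [inf_comm, hinf], by rw [sup_comm, hgen], c₂, c₁, a₂, a₁, core⟩ :
      GAmal M₂ M₁ T)
  · exact GAmal.bound (⟨h₁, h₂, hinf, hgen, c₁, c₂, a₁, a₂, core⟩ : GAmal M₁ M₂ T)
  · have hc := h₁.card
    rcases Amal.sfour (⟨h₁, h₂, hinf, hgen, c₁, c₂, a₁, a₂, core⟩ : Amal M₁ M₂ T) with
      ⟨⟨e⟩, -⟩ | ⟨⟨e⟩, -⟩
    · rw [Nat.card_congr e.toEquiv, Nat.card_perm, Nat.card_fin] at hc
      norm_num [Nat.factorial] at hc
      omega
    · rw [Nat.card_congr e.toEquiv, Nat.card_prod, Nat.card_perm, Nat.card_fin,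
        Nat.card_congr Multiplicative.toAdd, Nat.card_zmod] at hc
      norm_num [Nat.factorial] at hc
      omega

theorem pCoreOf_map_injective {G' : Type*} [Group G'] {f : G →* G'} (hf : Function.Injective f) (H : Subgroup G) :
    (Q H).map f = Q (H.map f) := by
  rw [Q, Q, Cfsg.pCoreOf, Cfsg.pCoreOf, ← CfsgLib.Core.map_equiv_pCore (H.equivMapOfInjective f hf),
    map_map, map_map]
  rfl

/-- Goldschmidt's bound. -/
theorem card_inter_le {M₁ M₂ T : Subgroup G} (h₁ : IsSThree M₁ T) (h₂ : IsSThree M₂ T) (hinf : M₁ ⊓ M₂ = T)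
    (core : ∀ N : Subgroup G, N ≤ T → M₁ ≤ normalizer (N : Set G) → M₂ ≤ normalizer (N : Set G) → N = ⊥) :
    Nat.card T ≤ 128 := by
  by_cases c₁ : M₁ ⊓ centralizer (Q M₁ : Set G) ≤ Q M₁
  swap
  · exact (card_le_of_not_charTwo h₁ h₂ core c₁).trans (by norm_num)
  by_cases c₂ : M₂ ⊓ centralizer (Q M₂ : Set G) ≤ Q M₂
  swap
  · exact (card_le_of_not_charTwo h₂ h₁ (fun N hN a b => core N hN b a) c₂).trans (by norm_num)
  set H := M₁ ⊔ M₂ with hH
  have hf := H.subtype_injective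
  have l₁ : M₁ ≤ H := le_sup_left
  have l₂ : M₂ ≤ H := le_sup_right
  have lT : T ≤ H := h₁.le.trans l₁
  have hs : ∀ P : Subgroup G, P ≤ H → IsSThree P T → IsSThree (P.subgroupOf H) (T.subgroupOf H) := by
    intro P hP h
    haveI := h.fin
    refine ⟨Finite.of_equiv P (subgroupOfEquivOfLe hP).symm.toEquiv, fun x hx => mem_subgroupOf.mpr
      (h.le (mem_subgroupOf.mp hx)), h.two.comap_of_injective H.subtype hf, ?_, fun hn => h.nn ?_⟩
    · rw [Nat.card_congr (subgroupOfEquivOfLe hP).toEquiv, Nat.card_congr (subgroupOfEquivOfLe lT).toEquiv, h.card]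
    · refine le_normalizer_iff.mpr fun k hk x hx => ?_
      have := (mem_normalizer_iff.mp (hn (x := ⟨k, hP hk⟩) (mem_subgroupOf.mpr hk)) ⟨x, lT hx⟩).mp
        (mem_subgroupOf.mpr hx)
      exact mem_subgroupOf.mp this
  have hcs : ∀ P : Subgroup G, P ≤ H → P ⊓ centralizer (Q P : Set G) ≤ Q P →
      P.subgroupOf H ⊓ centralizer (Q (P.subgroupOf H) : Set ↥H) ≤ Q (P.subgroupOf H) := by
    intro P hP hc x hx
    have hmap : (Q (P.subgroupOf H)).map H.subtype = Q P := by
      rw [pCoreOf_map_injective hf, map_subgroupOf_eq_of_le hP]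
    have h1 : (x : G) ∈ Q P := hc (Subgroup.mem_inf.mpr ⟨mem_subgroupOf.mp hx.1,
      mem_centralizer_iff.mpr fun v hv => by
        rw [SetLike.mem_coe, ← hmap] at hv
        obtain ⟨w, hw, rfl⟩ := hv
        exact congrArg Subtype.val (mem_centralizer_iff.mp hx.2 w hw)⟩)
    rw [← hmap] at h1
    exact (Subgroup.mem_map_iff_mem (f := H.subtype) hf).mp h1
  have hb := card_le_of_gen (hs M₁ l₁ h₁) (hs M₂ l₂ h₂) (by rw [← hinf]; rfl) ?_ (hcs M₁ l₁ c₁) (hcs M₂ l₂ c₂) ?_
  · rwa [Nat.card_congr (subgroupOfEquivOfLe lT).toEquiv] at hb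
  · rw [← Subgroup.map_injective hf |>.eq_iff, Subgroup.map_sup, map_subgroupOf_eq_of_le l₁,
      map_subgroupOf_eq_of_le l₂, ← MonoidHom.range_eq_map, Subgroup.range_subtype]
  · intro N hN hNT
    rw [← Subgroup.map_injective hf |>.eq_iff, Subgroup.map_bot]
    have key : ∀ P : Subgroup G, P ≤ H → P ≤ normalizer ((N.map H.subtype : Subgroup G) : Set G) := by
      intro P hP
      refine le_normalizer_iff.mpr fun k hk x hx => ?_
      obtain ⟨w, hw, rfl⟩ := hx
      exact ⟨⟨k, hP hk⟩ * w * ⟨k, hP hk⟩⁻¹, hN.conj_mem w hw _, rfl⟩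
    refine core _ ?_ (key _ l₁) (key _ l₂)
    rintro _ ⟨w, hw, rfl⟩
    exact mem_subgroupOf.mp (hNT hw)

end CfsgLib.Goldschmidt
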