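import Cfsg.Agent.Lib.LocalEven.Goldschmidt.Amal

/-! The coset graph of a Goldschmidt amalgam: neighbours, cores and centres of vertices. -/

set_option autoImplicit false
set_option linter.all false

namespace CfsgLib.Goldschmidt

open Subgroup CfsgLib.LocalEven CfsgLib.SThree
open scoped commutatorElement

universe u

variable {G : Type u} [Group G] {M₁ M₂ T : Subgroup G}

/-- The adjacency of the coset graph. -/
abbrev Adj (v u : Vtx M₁ M₂) : Prop := (Cfsg.cosetGraph M₁ M₂).Adj v u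

/-- A vertex of the first kind. -/
abbrev IsA (v : Vtx M₁ M₂) : Prop := Sum.isLeft v = true

/-- The centre of a vertex. -/
abbrev Z (v : Vtx M₁ M₂) : Subgroup G := ZP (St v)

/-- The core of a vertex. -/
abbrev QQ (v : Vtx M₁ M₂) : Subgroup G := Q (St v)

theorem adjA {v u : Vtx M₁ M₂} (h : Adj v u) : IsA v ↔ ¬ IsA u := by
  have := isLeft_ne h
  revert this
  unfold IsA
  cases Sum.isLeft v <;> cases Sum.isLeft u <;> simp

theorem notA_of_adj {a x : Vtx M₁ M₂} (h : Adj a x) (ha : IsA a) : ¬ IsA x := (adjA h).mp ha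

theorem isA_of_adj {a x : Vtx M₁ M₂} (h : Adj a x) (hx : ¬ IsA x) : IsA a := (adjA h).mpr hx

theorem isA_smul (g : G) (v : Vtx M₁ M₂) : IsA (g • v) ↔ IsA v := by unfold IsA; rw [isLeft_smul]

theorem adj_smul (g : G) {v u : Vtx M₁ M₂} (h : Adj v u) : Adj (g • v) (g • u) := cosetGraph_adj_smul g h

theorem adj_of_fix {g : G} {v u : Vtx M₁ M₂} (hg : g • v = v) (h : Adj v u) : Adj v (g • u) := by
  have := adj_smul g h
  rwa [hg] at this

theorem nbr_same {v u w : Vtx M₁ M₂} (hu : Adj v u) (hw : Adj v w) : IsA u ↔ IsA w := by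
  have h1 := adjA hu
  have h2 := adjA hw
  tauto

theorem smul_ne_smul {g : G} {v u : Vtx M₁ M₂} (h : v ≠ u) : g • v ≠ g • u := fun e => h (smul_left_cancel g e)

theorem mem_St {g : G} {v : Vtx M₁ M₂} : g ∈ St v ↔ g • v = v := MulAction.mem_stabilizer_iff

theorem mem_Ed {g : G} {v u : Vtx M₁ M₂} : g ∈ Ed v u ↔ g • v = v ∧ g • u = u := by
  rw [Subgroup.mem_inf, mem_St, mem_St]

theorem Ed_comm (v u : Vtx M₁ M₂) : Ed v u = Ed u v := inf_comm _ _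

namespace GAmal

variable (h : GAmal M₁ M₂ T)
include h

/-- Every edge gives an amalgam of the same kind. -/
theorem edge {a x : Vtx M₁ M₂} (hax : Adj a x) (ha : IsA a) :
    GAmal (St a) (St x) (Ed a x) ∧ Nat.card ↥(Ed a x) = Nat.card T ∧
      Nat.card ↥(Zt (Ed a x)) = Nat.card ↥(Zt T) := by
  obtain ⟨g, ⟨rfl, rfl⟩ | ⟨rfl, rfl⟩⟩ := cosetGraph_adj.mp hax
  · have e1 := stabilizer_inl (M₁ := M₁) (M₂ := M₂) g
    have e2 := stabilizer_inr (M₁ := M₁) (M₂ := M₂) g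
    have e : Ed (Sum.inl (g : G ⧸ M₁) : Vtx M₁ M₂) (Sum.inr (g : G ⧸ M₂)) = T.map (MulAut.conj g).toMonoidHom := by
      rw [Ed, St, St, e1, e2, ← Subgroup.map_inf _ _ _ (MulAut.conj g).injective, h.inf]
    rw [e, St, St, e1, e2, ← Zt_map, card_map_of_injective (MulAut.conj g).injective,
      card_map_of_injective (MulAut.conj g).injective]
    exact ⟨h.map _, rfl, rfl⟩
  · exact absurd ha (by simp [IsA])

theorem edge3 {v u : Vtx M₁ M₂} (hvu : Adj v u) :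
    IsSThree (St v) (Ed v u) ∧ Nat.card ↥(Ed v u) = Nat.card T := by
  by_cases hv : IsA v
  · obtain ⟨E, e, -⟩ := h.edge hvu hv
    exact ⟨E.h₁, e⟩
  · obtain ⟨E, e, -⟩ := h.edge hvu.symm (isA_of_adj hvu.symm hv)
    rw [Ed_comm v u]
    exact ⟨E.h₂, e⟩

theorem finSt (v : Vtx M₁ M₂) : Finite ↥(St v) := by
  obtain ⟨u, hu⟩ := exists_adj v
  exact (h.edge3 hu).1.fin

theorem finQQ (v : Vtx M₁ M₂) : Finite ↥(QQ v) := by
  obtain ⟨u, hu⟩ := exists_adj v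
  exact (h.edge3 hu).1.finQ

theorem card_QQ (v : Vtx M₁ M₂) : Nat.card T = 2 * Nat.card ↥(QQ v) := by
  obtain ⟨u, hu⟩ := exists_adj v
  obtain ⟨E, e⟩ := h.edge3 hu
  rw [← e]
  exact E.card_T

theorem Z_smul (g : G) (v : Vtx M₁ M₂) : Z (g • v) = (Z v).map (MulAut.conj g).toMonoidHom := by
  haveI := h.finSt v
  rw [Z, ZP, St_smul, sylowCenterClosure_conj]

theorem mem_Z_smul (g : G) {v : Vtx M₁ M₂} {x : G} : x ∈ Z v ↔ g * x * g⁻¹ ∈ Z (g • v) := by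
  rw [h.Z_smul g v, mem_conj]
  simp [mul_assoc]

theorem QQ_smul (g : G) (v : Vtx M₁ M₂) : QQ (g • v) = (QQ v).map (MulAut.conj g).toMonoidHom := by
  rw [QQ, Q, St_smul, pCoreOf_map]

theorem mem_QQ_smul (g : G) {v : Vtx M₁ M₂} {x : G} : x ∈ QQ v ↔ g * x * g⁻¹ ∈ QQ (g • v) := by
  rw [h.QQ_smul g v, mem_conj]
  simp [mul_assoc]

theorem Z_normal (v : Vtx M₁ M₂) : St v ≤ normalizer (Z v : Set G) := by
  obtain ⟨u, hu⟩ := exists_adj v
  exact (h.edge3 hu).1.ZP_normal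

theorem conj_Z {g : G} {v : Vtx M₁ M₂} (hg : g • v = v) {x : G} : x ∈ Z v ↔ g * x * g⁻¹ ∈ Z v := by
  conv_rhs => rw [← hg]
  exact h.mem_Z_smul g

theorem conj_QQ {g : G} {v : Vtx M₁ M₂} (hg : g • v = v) {x : G} : x ∈ QQ v ↔ g * x * g⁻¹ ∈ QQ v := by
  conv_rhs => rw [← hg]
  exact h.mem_QQ_smul g

/-! ### Neighbours -/

theorem Ed_inf {v u u' : Vtx M₁ M₂} (hu : Adj v u) (hu' : Adj v u') (hne : u ≠ u') :
    Ed v u ⊓ Ed v u' = QQ v := by
  obtain ⟨g, hg, rfl⟩ := exists_stabilizer_smul hu hu'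
  have e : Ed v (g • u) = (Ed v u).map (MulAut.conj g).toMonoidHom := by
    rw [← Ed_smul, MulAction.mem_stabilizer_iff.mp hg]
  rw [e]
  exact (h.edge3 hu).1.inf_conj hg fun hc => hne (MulAction.mem_stabilizer_iff.mp (Subgroup.mem_inf.mp hc).2).symm

theorem exists_ne_nbr {v u : Vtx M₁ M₂} (hu : Adj v u) : ∃ w, Adj v w ∧ w ≠ u := by
  obtain ⟨g, hg, hgE⟩ := (h.edge3 hu).1.exists_out
  exact ⟨g • u, adj_of_fix (MulAction.mem_stabilizer_iff.mp hg) hu,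
    fun he => hgE (mem_Ed.mpr ⟨MulAction.mem_stabilizer_iff.mp hg, he⟩)⟩

theorem nbr_cases {v a b c u : Vtx M₁ M₂} (ha : Adj v a) (hb : Adj v b) (hc : Adj v c) (hu : Adj v u)
    (hab : a ≠ b) (hac : a ≠ c) (hbc : b ≠ c) : u = a ∨ u = b ∨ u = c := by
  obtain ⟨gb, hgb, rfl⟩ := exists_stabilizer_smul ha hb
  obtain ⟨gc, hgc, rfl⟩ := exists_stabilizer_smul ha hc
  obtain ⟨gu, hgu, rfl⟩ := exists_stabilizer_smul ha hu
  have key : ∀ g k : G, g ∈ St v → k ∈ St v → (g⁻¹ * k ∈ Ed v a ↔ g • a = k • a) := by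
    intro g k hg hk
    constructor
    · intro hm
      have h2 := (mem_Ed.mp hm).2
      rw [mul_smul, inv_smul_eq_iff] at h2
      exact h2.symm
    · intro he
      exact mem_Ed.mpr ⟨mem_St.mp (mul_mem (inv_mem hg) hk), by rw [mul_smul, ← he, inv_smul_smul]⟩
  have key1 : ∀ g : G, g ∈ St v → (g ∈ Ed v a ↔ a = g • a) := fun g hg => by
    have := key 1 g (one_mem _) hg
    rwa [inv_one, one_mul, one_smul] at this
  by_cases h0 : gu ∈ Ed v a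
  · exact Or.inl ((key1 gu hgu).mp h0).symm
  · right
    rcases (h.edge3 ha).1.cosets hgb hgc hgu (fun hm => hab ((key1 gb hgb).mp hm))
      (fun hm => hac ((key1 gc hgc).mp hm)) (fun hm => hbc ((key gb gc hgb hgc).mp hm)) h0 with e | e
    · exact Or.inl ((key gb gu hgb hgu).mp e).symm
    · exact Or.inr ((key gc gu hgc hgu).mp e).symm

theorem exists_third {v u u' : Vtx M₁ M₂} (hu : Adj v u) (hu' : Adj v u') (hne : u ≠ u') :
    ∃ w, Adj v w ∧ w ≠ u ∧ w ≠ u' := by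
  obtain ⟨g, hg, hgE⟩ := (h.edge3 hu).1.exists_out_Q
  obtain ⟨hgv, hgu⟩ := mem_Ed.mp hg
  refine ⟨g • u', adj_of_fix hgv hu', fun e => hne ?_, fun e => hgE ?_⟩
  · have : g • u' = g • u := by rw [hgu, e]
    exact (smul_left_cancel g this).symm
  · exact (h.Ed_inf hu hu' hne).le <| Subgroup.mem_inf.mpr ⟨hg, mem_Ed.mpr ⟨hgv, e⟩⟩

theorem exists_two {v u : Vtx M₁ M₂} (hu : Adj v u) :
    ∃ w w', Adj v w ∧ Adj v w' ∧ w ≠ u ∧ w' ≠ u ∧ w ≠ w' := by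
  obtain ⟨w, hw, hne⟩ := h.exists_ne_nbr hu
  obtain ⟨w', hw', hne', hne''⟩ := h.exists_third hu hw hne.symm
  exact ⟨w, w', hw, hw', hne, hne', hne''.symm⟩

theorem eq_third {v u u' w w' : Vtx M₁ M₂} (hu : Adj v u) (hu' : Adj v u') (hne : u ≠ u') (hw : Adj v w)
    (hwu : w ≠ u) (hwu' : w ≠ u') (hw' : Adj v w') (hw'u : w' ≠ u) (hw'u' : w' ≠ u') : w' = w := by
  rcases h.nbr_cases hu hu' hw hw' hne hwu.symm hwu'.symm with e | e | e
  exacts [absurd e hw'u, absurd e hw'u', e]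

/-- The core of a vertex fixes exactly its neighbours. -/
theorem QQ_fix {v : Vtx M₁ M₂} {g : G} (hg : g ∈ QQ v) : g • v = v ∧ ∀ u, Adj v u → g • u = u := by
  obtain ⟨u₀, hu₀⟩ := exists_adj v
  refine ⟨(mem_Ed.mp ((h.edge3 hu₀).1.Q_le_T hg)).1, fun u hu => (mem_Ed.mp ((h.edge3 hu).1.Q_le_T hg)).2⟩

theorem QQ_le_Ed {v u : Vtx M₁ M₂} (hu : Adj v u) : QQ v ≤ Ed v u := (h.edge3 hu).1.Q_le_T

theorem QQ_le_Ed' {v u : Vtx M₁ M₂} (hu : Adj v u) : QQ v ≤ Ed u v := by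
  rw [Ed_comm]; exact h.QQ_le_Ed hu

theorem mem_QQ_of {v u u' : Vtx M₁ M₂} (hu : Adj v u) (hu' : Adj v u') (hne : u ≠ u') {g : G} (hv : g • v = v)
    (e : g • u = u) (e' : g • u' = u') : g ∈ QQ v := by
  exact (h.Ed_inf hu hu' hne).le <| Subgroup.mem_inf.mpr ⟨mem_Ed.mpr ⟨hv, e⟩, mem_Ed.mpr ⟨hv, e'⟩⟩

/-- An element fixing an edge outside the core moves every other neighbour. -/
theorem moves {v u w : Vtx M₁ M₂} (hu : Adj v u) (hw : Adj v w) (hne : w ≠ u) {g : G} (hv : g • v = v)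
    (hgu : g • u = u) (hgQ : g ∉ QQ v) : g • w ≠ w := fun e => hgQ (h.mem_QQ_of hu hw hne.symm hv hgu e)

/-- An element fixing an edge outside the core swaps the two other neighbours. -/
theorem swap {v u w w' : Vtx M₁ M₂} (hu : Adj v u) (hw : Adj v w) (hw' : Adj v w') (hne : w ≠ u) (hne' : w' ≠ u)
    (hww : w ≠ w') {g : G} (hv : g • v = v) (hgu : g • u = u) (hgQ : g ∉ QQ v) : g • w = w' := by
  refine h.eq_third hu hw hne.symm hw' hne' hww.symm (adj_of_fix hv hw) ?_ (h.moves hu hw hne hv hgu hgQ)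
  intro e
  exact hne (smul_left_cancel g (e.trans hgu.symm))

theorem sq_mem_QQ {v u : Vtx M₁ M₂} (hu : Adj v u) {g : G} (hv : g • v = v) (hgu : g • u = u) :
    g * g ∈ QQ v := by
  obtain ⟨E, -⟩ := h.edge3 hu
  haveI := E.finT
  exact sq_mem_of_card_two E.Q_le_T E.card_T (mem_Ed.mpr ⟨hv, hgu⟩)

/-- A group fixing an edge has index at most two over the core. -/
theorem card_le_inf_QQ {v u : Vtx M₁ M₂} (hu : Adj v u) {X : Subgroup G} (hX : X ≤ Ed v u) :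
    Nat.card X ≤ 2 * Nat.card ↥(X ⊓ QQ v) := by
  obtain ⟨E, -⟩ := h.edge3 hu
  by_cases hle : X ≤ QQ v
  · rw [inf_eq_left.mpr hle]; omega
  · exact (E.card_inf_Q hX hle).le

theorem exists_QQ_not {v u : Vtx M₁ M₂} (hu : Adj v u) : ∃ g ∈ QQ v, g ∉ QQ u := by
  refine SetLike.not_le_iff_exists.mp ?_
  by_cases hv : IsA v
  · exact (h.edge hu hv).1.not_Q₁_le
  · exact (h.edge hu.symm (isA_of_adj hu.symm hv)).1.not_Q₂_le

theorem isPGroup_QQ (v : Vtx M₁ M₂) : IsPGroup 2 ↥(QQ v) := CfsgLib.LocalEvenB.isPGroup_pCoreOf (St v)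

/-! ### Centres -/

theorem Z_B {a x : Vtx M₁ M₂} (hax : Adj a x) (ha : IsA a) : Z x = Zt (Ed a x) := (h.edge hax ha).1.ZP₂

theorem Z_le_Z {a x : Vtx M₁ M₂} (hax : Adj a x) (ha : IsA a) : Z x ≤ Z a := by
  rw [h.Z_B hax ha]
  exact (h.edge hax ha).1.h₁.Zt_le_ZP

theorem St_le_centralizer_Z {x : Vtx M₁ M₂} (hx : ¬ IsA x) : St x ≤ centralizer (Z x : Set G) := by
  obtain ⟨a, ha⟩ := exists_adj x
  rw [h.Z_B ha.symm (isA_of_adj ha.symm hx)]
  exact (h.edge ha.symm (isA_of_adj ha.symm hx)).1.z₂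

theorem Z_sq {a : Vtx M₁ M₂} (ha : IsA a) {z : G} (hz : z ∈ Z a) : z * z = 1 := by
  obtain ⟨x, hx⟩ := exists_adj a
  obtain ⟨E, -, -⟩ := h.edge hx ha
  exact E.h₁.ZP_sq E.c₁ hz

theorem Z_inv {a : Vtx M₁ M₂} (ha : IsA a) {z : G} (hz : z ∈ Z a) : z⁻¹ = z :=
  inv_eq_of_mul_eq_one_right (h.Z_sq ha hz)

theorem Z_sq_B {x : Vtx M₁ M₂} (hx : ¬ IsA x) {z : G} (hz : z ∈ Z x) : z * z = 1 := by
  obtain ⟨a, ha⟩ := exists_adj x
  exact h.Z_sq (isA_of_adj ha.symm hx) (h.Z_le_Z ha.symm (isA_of_adj ha.symm hx) hz)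

theorem Z_inv_B {x : Vtx M₁ M₂} (hx : ¬ IsA x) {z : G} (hz : z ∈ Z x) : z⁻¹ = z :=
  inv_eq_of_mul_eq_one_right (h.Z_sq_B hx hz)

theorem Z_comm {a : Vtx M₁ M₂} (ha : IsA a) {z z' : G} (hz : z ∈ Z a) (hz' : z' ∈ Z a) : z * z' = z' * z := by
  obtain ⟨x, hx⟩ := exists_adj a
  obtain ⟨E, -, -⟩ := h.edge hx ha
  exact E.h₁.ZP_comm E.c₁ hz hz'

theorem Z_le_QQ {a : Vtx M₁ M₂} (ha : IsA a) : Z a ≤ QQ a := by
  obtain ⟨x, hx⟩ := exists_adj a
  obtain ⟨E, -, -⟩ := h.edge hx ha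
  exact E.h₁.ZP_le_Q E.c₁

theorem Z_le_QQ_adj {a x : Vtx M₁ M₂} (hax : Adj a x) (ha : IsA a) : Z a ≤ QQ x := (h.edge hax ha).1.ZP₁_le_Q₂

theorem QQ_comm_Z {a : Vtx M₁ M₂} (ha : IsA a) {g z : G} (hg : g ∈ QQ a) (hz : z ∈ Z a) : g * z = z * g := by
  obtain ⟨x, hx⟩ := exists_adj a
  obtain ⟨E, -, -⟩ := h.edge hx ha
  exact commute_of_le_centralizer (E.h₁.Q_le_centralizer_ZP E.c₁) hg hz

theorem mem_QQ_of_comm {a : Vtx M₁ M₂} (ha : IsA a) {g : G} (hga : g • a = a)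
    (hc : ∀ z ∈ Z a, g * z = z * g) : g ∈ QQ a := by
  obtain ⟨x, hx⟩ := exists_adj a
  obtain ⟨E, -, -⟩ := h.edge hx ha
  exact (E.h₁.inf_centralizer_ZP E.c₁ E.a₁).le (Subgroup.mem_inf.mpr
    ⟨mem_St.mpr hga, mem_centralizer_iff.mpr fun z hz => (hc z hz).symm⟩)

/-- The fixed points in `Z_a` of an element of an edge outside the core. -/
theorem fixed {a x : Vtx M₁ M₂} (hax : Adj a x) (ha : IsA a) {g z : G} (hga : g • a = a) (hgx : g • x = x)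
    (hgQ : g ∉ QQ a) (hz : z ∈ Z a) (hc : g * z = z * g) : z ∈ Z x := by
  rw [h.Z_B hax ha]
  obtain ⟨E, -, -⟩ := h.edge hax ha
  exact (E.h₁.ZP_inf_centralizer E.c₁ (mem_Ed.mpr ⟨hga, hgx⟩) hgQ).le
    (Subgroup.mem_inf.mpr ⟨hz, mem_centralizer_singleton_iff.mpr hc.symm⟩)

theorem comm_mem_Z {a x : Vtx M₁ M₂} (hax : Adj a x) (ha : IsA a) {g z : G} (hga : g • a = a) (hgx : g • x = x)
    (hz : z ∈ Z a) : z * (g * z * g⁻¹) ∈ Z x := by
  rw [h.Z_B hax ha]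
  exact (h.edge hax ha).1.comm_mem hz (mem_Ed.mpr ⟨hga, hgx⟩)

theorem comm_mem_Z' {a x : Vtx M₁ M₂} (hax : Adj a x) (ha : IsA a) {g z : G} (hga : g • a = a) (hgx : g • x = x)
    (hz : z ∈ Z a) : g * z * g⁻¹ * z ∈ Z x := by
  rw [h.Z_B hax ha]
  exact (h.edge hax ha).1.comm_mem' hz (mem_Ed.mpr ⟨hga, hgx⟩)

/-- The centres of two neighbours of a vertex of the first kind meet trivially. -/
theorem Z_inf_eq_one {a x x' : Vtx M₁ M₂} (hax : Adj a x) (hax' : Adj a x') (ha : IsA a) (hne : x ≠ x') {v : G}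
    (h1 : v ∈ Z x) (h2 : v ∈ Z x') : v = 1 := by
  obtain ⟨E, -, -⟩ := h.edge hax ha
  have hB := notA_of_adj hax ha
  have hB' := notA_of_adj hax' ha
  refine E.eq_one_of (by rw [h.Z_B hax ha] at h1; exact Zt_le _ h1) ?_
    ((h.St_le_centralizer_Z hB).trans (centralizer_singleton_of h1))
  obtain ⟨g, hg, hgE⟩ : ∃ g ∈ Ed a x', g ∉ Ed a x := by
    refine SetLike.not_le_iff_exists.mp fun hle => ?_
    obtain ⟨g, hg, hgQ⟩ := (h.edge3 hax').1.exists_out_Q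
    exact hgQ <| (h.Ed_inf hax hax' hne).le <| Subgroup.mem_inf.mpr ⟨hle hg, hg⟩
  refine E.h₁.le_centralizer_of ?_ (Subgroup.mem_inf.mp hg).1 hgE ?_
  · exact inf_le_right.trans ((h.St_le_centralizer_Z hB).trans (centralizer_singleton_of h1))
  · exact centralizer_singleton_of h2 (h.St_le_centralizer_Z hB' (Subgroup.mem_inf.mp hg).2)

theorem Z_B_ne_bot {x : Vtx M₁ M₂} (hx : ¬ IsA x) : Z x ≠ ⊥ := by
  obtain ⟨a, ha⟩ := exists_adj x
  rw [h.Z_B ha.symm (isA_of_adj ha.symm hx)]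
  exact (h.edge ha.symm (isA_of_adj ha.symm hx)).1.Zt_ne_bot

theorem card_Z_B {x : Vtx M₁ M₂} (hx : ¬ IsA x) : Nat.card ↥(Z x) = Nat.card ↥(Zt T) := by
  obtain ⟨a, ha⟩ := exists_adj x
  rw [h.Z_B ha.symm (isA_of_adj ha.symm hx)]
  exact (h.edge ha.symm (isA_of_adj ha.symm hx)).2.2

/-- `Z_a` is the product of the centres of two of its neighbours. -/
theorem Z_third {a x x' w : Vtx M₁ M₂} (hax : Adj a x) (hax' : Adj a x') (haw : Adj a w) (ha : IsA a)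
    (hne : x ≠ x') : Z w ≤ Z x ⊔ Z x' := by
  by_cases e : w = x
  · rw [e]; exact le_sup_left
  by_cases e' : w = x'
  · rw [e']; exact le_sup_right
  obtain ⟨g, hg, hgQ⟩ := (h.edge3 hax).1.exists_out_Q
  obtain ⟨hga, hgx⟩ := mem_Ed.mp hg
  have hs : g • x' = w := h.swap hax hax' haw hne.symm e (Ne.symm e') hga hgx hgQ
  intro v hv
  rw [← hs, h.Z_smul, mem_conj] at hv
  have hva := h.Z_le_Z hax' ha hv
  have h1 := h.comm_mem_Z hax ha hga hgx hva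
  rw [show g * (g⁻¹ * v * g) * g⁻¹ = v by group] at h1
  have e1 : v = (g⁻¹ * v * g)⁻¹ * ((g⁻¹ * v * g) * v) := by group
  rw [e1]
  exact mul_mem (mem_sup_right (inv_mem hv)) (mem_sup_left h1)

theorem Z_eq_sup {a x x' : Vtx M₁ M₂} (hax : Adj a x) (hax' : Adj a x') (ha : IsA a) (hne : x ≠ x') :
    Z a = Z x ⊔ Z x' := by
  refine le_antisymm ?_ (sup_le (h.Z_le_Z hax ha) (h.Z_le_Z hax' ha))
  obtain ⟨E, -, -⟩ := h.edge hax ha
  refine E.h₁.ZP_le ?_ ?_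
  · have key : ∀ g : G, g • a = a → (Z x ⊔ Z x').map (MulAut.conj g).toMonoidHom ≤ Z x ⊔ Z x' := by
      intro g hg
      rw [Subgroup.map_sup, ← h.Z_smul, ← h.Z_smul]
      exact sup_le (h.Z_third hax hax' (adj_of_fix hg hax) ha hne)
        (h.Z_third hax hax' (adj_of_fix hg hax') ha hne)
    intro g hg
    have hga := mem_St.mp hg
    rw [mem_normalizer_conj_iff]
    refine le_antisymm (key g hga) ?_
    have h2 := map_mono (f := (MulAut.conj g).toMonoidHom) (key g⁻¹ (by rw [inv_smul_eq_iff, hga]))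
    rwa [conj_conj, mul_inv_cancel, conj_one] at h2
  · rw [← h.Z_B hax ha]
    exact le_sup_left

theorem exists_mul {a x x' : Vtx M₁ M₂} (hax : Adj a x) (hax' : Adj a x') (ha : IsA a) (hne : x ≠ x') {z : G}
    (hz : z ∈ Z a) : ∃ c ∈ Z x, ∃ c' ∈ Z x', z = c * c' := by
  rw [h.Z_eq_sup hax hax' ha hne] at hz
  refine (CfsgLib.Core.mem_sup_iff_mul ?_).mp hz
  intro g hg
  refine Subgroup.centralizer_le_normalizer _ (mem_centralizer_iff.mpr fun y hy => ?_)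
  exact h.Z_comm ha (h.Z_le_Z hax' ha hy) (h.Z_le_Z hax ha hg)

theorem card_Z_A {a : Vtx M₁ M₂} (ha : IsA a) :
    Nat.card ↥(Z a) = Nat.card ↥(Zt T) * Nat.card ↥(Zt T) := by
  obtain ⟨x, hax⟩ := exists_adj a
  obtain ⟨x', hax', hne⟩ := h.exists_ne_nbr hax
  haveI := h.finQQ a
  haveI := finite_of_le ((h.Z_le_Z hax ha).trans (h.Z_le_QQ ha))
  haveI := finite_of_le ((h.Z_le_Z hax' ha).trans (h.Z_le_QQ ha))
  rw [h.Z_eq_sup hax hax' ha hne.symm]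
  conv_rhs => lhs; rw [← h.card_Z_B (notA_of_adj hax ha)]
  conv_rhs => rhs; rw [← h.card_Z_B (notA_of_adj hax' ha)]
  refine CfsgLib.Core.card_sup_of_disjoint _ _ ?_ ?_
  · intro g hg
    refine Subgroup.centralizer_le_normalizer _ (mem_centralizer_iff.mpr fun y hy => ?_)
    exact h.Z_comm ha (h.Z_le_Z hax' ha hy) (h.Z_le_Z hax ha hg)
  · exact eq_bot_iff.mpr fun v hv => mem_bot.mpr
      (h.Z_inf_eq_one hax hax' ha hne.symm (Subgroup.mem_inf.mp hv).1 (Subgroup.mem_inf.mp hv).2)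

theorem connected : (Cfsg.cosetGraph M₁ M₂).Connected := cosetGraph_connected h.gen

/-- Nothing fixes every vertex. -/
theorem eq_one_of_fix {g : G} (hg : ∀ v : Vtx M₁ M₂, g • v = v) : g = 1 :=
  eq_one_of_fixes (M₁ := M₁) (M₂ := M₂) (fun N hN hn => h.core N hn (hN.trans h.inf.le)) hg

end GAmal

end CfsgLib.Goldschmidt
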