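import Cfsg.Agent.Lib.LocalEven.Goldschmidt.Common

/-! Odd critical distance: critical pairs at both ends, and `|Ω₁(Z(T))| = 2`. -/

set_option autoImplicit false
set_option linter.all false

namespace CfsgLib.Goldschmidt

open Subgroup CfsgLib.LocalEven CfsgLib.SThree
open scoped commutatorElement

universe u

variable {G : Type u} [Group G] {M₁ M₂ T : Subgroup G}

/-- A walk that is critical in both directions. -/
structure IsPair (p : ℕ → Vtx M₁ M₂) (b : ℕ) : Prop where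
  nb : NB p (b + 1)
  isA : IsA (p 0)
  fw : ¬ Z (p 0) ≤ QQ (p b)
  bw : ¬ Z (p (b + 1)) ≤ QQ (p 1)

theorem IsPair.crit {p : ℕ → Vtx M₁ M₂} {b : ℕ} (hp : IsPair p b) : Crit p b :=
  ⟨hp.nb.mono (Nat.le_succ b), hp.isA, hp.fw⟩

theorem isLeft_of_notA {v : Vtx M₁ M₂} (h : ¬ IsA v) : Sum.isLeft v = false := by simpa [IsA] using h

theorem two_mul_card_le {H K : Subgroup G} [Finite K] (h : H ≤ K) (hne : ¬ K ≤ H) :
    2 * Nat.card H ≤ Nat.card K := by
  haveI := finite_of_le h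
  obtain ⟨a, ha⟩ := card_dvd_of_le h
  have hpos : 0 < Nat.card K := Nat.card_pos
  have h1 : a ≠ 1 := fun e => hne (eq_of_card_le h (by rw [ha, e, mul_one])).ge
  have h0 : a ≠ 0 := fun e => by rw [e, mul_zero] at ha; omega
  rw [ha, mul_comm 2]
  exact Nat.mul_le_mul_left _ (by omega)

namespace GAmal

variable (h : GAmal M₁ M₂ T)
include h

/-- Different neighbours of a vertex of the second kind have different centres. -/
theorem Z_not_le {x a a' : Vtx M₁ M₂} (ha : Adj x a) (ha' : Adj x a') (hne : a ≠ a') (hx : ¬ IsA x) :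
    ¬ Z a ≤ Z a' := by
  intro hle
  have hA := isA_of_adj ha.symm hx
  have hA' := isA_of_adj ha'.symm hx
  haveI := h.finZ hA'
  have heq : Z a = Z a' := eq_of_card_le hle (by rw [h.card_Z_A hA, h.card_Z_A hA'])
  obtain ⟨E, -, -⟩ := h.edge ha.symm hA
  obtain ⟨k, hk, hkQ⟩ := (h.edge3 ha').1.exists_out_Q
  obtain ⟨hkx, hka'⟩ := mem_Ed.mp hk
  have hkE : k ∉ Ed a x := fun hm => h.moves ha' ha hne hkx hka' hkQ (mem_Ed.mp hm).1
  have hb := E.eq_bot_of ((h.Z_le_QQ hA).trans (h.QQ_le_Ed ha.symm)) (h.Z_normal a)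
    (E.h₂.le_normalizer_of (inf_le_left.trans (h.Z_normal a)) (mem_St.mpr hkx) hkE
      (heq ▸ h.Z_normal a' (mem_St.mpr hka')))
  exact h.Z_B_ne_bot hx (le_bot_iff.mp (hb ▸ h.Z_le_Z ha.symm hA))

end GAmal

namespace GB

variable {b : ℕ} (g : GB M₁ M₂ T b)
include g

theorem isB_end {p : ℕ → Vtx M₁ M₂} (hc : Crit p b) (ho : b % 2 = 1) : ¬ IsA (p b) :=
  hc.nb.walk.isB_odd hc.isA le_rfl ho

theorem mov_false (ho : b % 2 = 1) : Mov M₁ M₂ false b := by
  obtain ⟨p, hp⟩ := g.exists_crit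
  have := g.crit_mov' hp
  rwa [isLeft_of_notA (g.isB_end hp ho)] at this

theorem trA_four (ho : b % 2 = 1) {m : ℕ} (hm : m ≤ 4) : Tr M₁ M₂ true m := by
  have := g.two_le
  rcases Nat.lt_or_ge m 4 with h4 | h4
  · exact g.h.tr_three (by omega) true
  · obtain rfl : m = 3 + 1 := by omega
    exact g.h.tr_succ (g.h.tr_three le_rfl true) ((g.mov_false ho).le (by omega))

theorem uniform_of_mov (ho : b % 2 = 1) (hm : Mov M₁ M₂ true b) {q : ℕ → Vtx M₁ M₂} (hq : NB q b)
    (hA : IsA (q 0)) : Crit q b :=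
  g.crit_of_tr (g.h.tr_of_mov hm (g.mov_false ho) (Nat.le_succ b) true) hq hA

/-- Whatever follows a critical walk looks back critically. -/
theorem rule (ho : b % 2 = 1) {p : ℕ → Vtx M₁ M₂} (hp : Crit p b) {w : Vtx M₁ M₂} (hw : Adj (p b) w)
    (hne : w ≠ p (b - 1)) : ¬ Z w ≤ QQ (p 1) := by
  intro hle
  have := g.two_le
  have hbB := g.isB_end hp ho
  have hwA := isA_of_adj hw.symm hbB
  have hprev : Adj (p b) (p (b - 1)) := by
    have := (hp.nb.walk (b - 1) (by omega)).symm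
    rwa [show b - 1 + 1 = b by omega] at this
  obtain ⟨z, hz, hzQ⟩ := SetLike.not_le_iff_exists.mp hp.ne
  have hfix : ∀ i, i ≤ b → z • p i = p i := fun i hi =>
    g.fix_walk hp.nb.walk (Nat.zero_le b) hi hp.isA (by omega) (by omega) hz
  have hzw : z • w ≠ w := g.h.moves hprev hw hne (hfix b le_rfl) (hfix _ (by omega)) hzQ
  have hzw' : z • w ≠ p (b - 1) := fun e => hne (smul_left_cancel z (e.trans (hfix _ (by omega)).symm))
  have hall : ∀ μ, Adj (p b) μ → Z μ ≤ QQ (p 1) := by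
    intro μ hμ
    rcases g.h.nbr_cases hprev hw (adj_of_fix (hfix b le_rfl) hw) hμ hne.symm hzw'.symm hzw.symm
      with rfl | rfl | rfl
    · exact g.lt_walk hp.nb.walk (show b - 1 ≤ b by omega) (by omega)
        (hp.nb.walk.isA_even hp.isA (by omega) (by omega)) (by omega) (by omega)
    · exact hle
    · intro v hv
      rw [g.h.Z_smul, mem_conj] at hv
      have h1 := (g.h.conj_QQ (hfix 1 (by omega))).mp (hle hv)
      rwa [show z * (z⁻¹ * v * z) * z⁻¹ = v by group] at h1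
  by_cases hex : ∃ μ, Adj (p b) μ ∧ ¬ Z μ ≤ QQ (p 0)
  · obtain ⟨μ, hμ, hμQ⟩ := hex
    obtain ⟨f, hf, hfQ⟩ := SetLike.not_le_iff_exists.mp hμQ
    have hμA := isA_of_adj hμ.symm hbB
    have hm : Mov M₁ M₂ true b := by
      refine ⟨fun i => p (b - i), hp.nb.rev, ?_, f, fun i hi => ?_, ?_⟩
      · show Sum.isLeft (p (b - b)) = true
        rw [Nat.sub_self]; exact hp.isA
      · show f • p (b - i) = p (b - i)
        rcases Nat.lt_or_ge i b with hib | hib
        · refine g.fixes hμA ?_ hf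
          have h1 := g.h.connected.dist_triangle (u := μ) (v := p b) (w := p (b - i))
          have h2 : dst μ (p b) = 1 := SimpleGraph.dist_eq_one_iff_adj.mpr hμ.symm
          have h3 := hp.nb.walk.dst_le' g.h.connected (show b - i ≤ b by omega) le_rfl
          unfold dst at *
          omega
        · rw [show b - i = 0 by omega]
          exact (g.h.QQ_fix (hall μ hμ hf)).2 _ (hp.nb.walk 0 (by omega)).symm
      · show f ∉ QQ (p (b - b))
        rw [Nat.sub_self]; exact hfQ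
    have hq := (hp.nb.snoc hw (fun _ => hne)).rev.mono (Nat.le_succ b)
    refine (g.uniform_of_mov ho hm hq ?_).ne ?_
    · show IsA (vsnoc p b w (b + 1 - 0))
      rw [Nat.sub_zero, vsnoc_last]; exact hwA
    · show Z (vsnoc p b w (b + 1 - 0)) ≤ QQ (vsnoc p b w (b + 1 - b))
      rw [Nat.sub_zero, vsnoc_last, show b + 1 - b = 1 by omega, vsnoc_le (by omega)]
      exact hle
  · push Not at hex
    obtain ⟨E, -, -⟩ := g.h.edge hw.symm hwA
    have hzE : z ∉ Ed w (p b) := fun hm => hzw (mem_Ed.mp hm).1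
    have hzc : z ∈ centralizer (Z w : Set G) :=
      mem_centralizer_iff.mpr fun v hv => g.h.QQ_comm_Z hp.isA (hex w hw hv) hz
    have hb := E.eq_bot_of ((g.h.Z_le_QQ hwA).trans (g.h.QQ_le_Ed hw.symm)) (g.h.Z_normal w)
      (E.h₂.le_normalizer_of (inf_le_left.trans (g.h.Z_normal w)) (mem_St.mpr (hfix b le_rfl)) hzE
        (normalizer_of_centralizer hzc))
    exact g.h.Z_B_ne_bot hbB (le_bot_iff.mp (hb ▸ g.h.Z_le_Z hw.symm hwA))

theorem pair_of (ho : b % 2 = 1) {p : ℕ → Vtx M₁ M₂} (hp : NB p (b + 1)) (hA : IsA (p 0))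
    (hfw : ¬ Z (p 0) ≤ QQ (p b)) : IsPair p b := by
  have := g.two_le
  refine ⟨hp, hA, hfw, g.rule ho ⟨hp.mono (Nat.le_succ b), hA, hfw⟩ (hp.walk b (by omega)) fun e => ?_⟩
  exact hp.turn (b - 1) (by omega) (by rw [show b - 1 + 2 = b + 1 by omega]; exact e.symm)

theorem pair_rev (ho : b % 2 = 1) {p : ℕ → Vtx M₁ M₂} (hp : IsPair p b) : IsPair (fun i => p (b + 1 - i)) b := by
  have hend : IsA (p (b + 1)) := hp.nb.walk.isA_even hp.isA le_rfl (by omega)
  refine ⟨hp.nb.rev, by simpa using hend, ?_, ?_⟩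
  · simpa using hp.bw
  · simpa using hp.fw

theorem exists_pair (ho : b % 2 = 1) : ∃ p : ℕ → Vtx M₁ M₂, IsPair p b := by
  have := g.two_le
  obtain ⟨p, hp⟩ := g.exists_crit
  have hprev : Adj (p b) (p (b - 1)) := by
    have := (hp.nb.walk (b - 1) (by omega)).symm
    rwa [show b - 1 + 1 = b by omega] at this
  obtain ⟨w, hw, hne⟩ := g.h.exists_ne_nbr hprev
  refine ⟨vsnoc p b w, g.pair_of ho (hp.nb.snoc hw fun _ => hne) ?_ ?_⟩
  · rw [vsnoc_le (Nat.zero_le b)]; exact hp.isA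
  · rw [vsnoc_le (Nat.zero_le b), vsnoc_le le_rfl]; exact hp.ne

/-- With transitivity, the centres of two neighbours meet in the centre between them. -/
theorem Z_inf_of_mov (hm : Mov M₁ M₂ true 3) {x a a' : Vtx M₁ M₂} (ha : Adj x a) (ha' : Adj x a')
    (hne : a ≠ a') (hx : ¬ IsA x) {v : G} (hv : v ∈ Z a) (hv' : v ∈ Z a') : v ∈ Z x := by
  have hA := isA_of_adj ha.symm hx
  have hA' := isA_of_adj ha'.symm hx
  obtain ⟨y, hy, hyne⟩ := g.h.exists_ne_nbr ha'.symm
  have hq : NB (vcons y (vcons a' (vcons x fun _ => a))) 3 :=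
    (((NB.const a).cons ha (by omega)).cons ha'.symm (fun _ => hne.symm)).cons hy.symm (fun _ => hyne)
  obtain ⟨r, hr, hr3, k, hk, hkQ⟩ := hm
  have hr0 : Sum.isLeft (r 0) = false := by
    have := hr.walk.isLeft_eq (le_refl 3)
    rw [hr3] at this
    revert this
    cases Sum.isLeft (r 0) <;> simp [endK]
  obtain ⟨m, hm'⟩ := g.h.tr_three le_rfl false r _ hr hq hr0 (isLeft_of_notA (notA_of_adj hy hA'))
  have hfix : ∀ i, i ≤ 3 → (m * k * m⁻¹) • vcons y (vcons a' (vcons x fun _ => a)) i =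
      vcons y (vcons a' (vcons x fun _ => a)) i := fun i hi => by
    rw [← hm' i hi, smul_smul, inv_mul_cancel_right, mul_smul, hk i hi]
  have h0 := hfix 0 (by omega)
  have h1 := hfix 1 (by omega)
  have h2 := hfix 2 (by omega)
  have h3 := hfix 3 (by omega)
  simp only [vcons_zero, vcons_succ] at h0 h1 h2 h3
  have hkQ' : m * k * m⁻¹ ∉ QQ a := by
    have e : m • r 3 = a := hm' 3 le_rfl
    rw [← e, ← g.h.mem_QQ_smul m]
    exact hkQ
  exact g.h.fixed ha.symm hA h3 h2 hkQ' hv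
    (g.h.QQ_comm_Z hA' (g.h.mem_QQ_of hy ha'.symm hyne h1 h0 h2) hv')

/-- `|Ω₁(Z(T))| = 2` at odd critical distance. -/
theorem card_two_odd (ho : b % 2 = 1) : Nat.card ↥(Zt T) = 2 := by
  have := g.two_le
  have hb3 : 3 ≤ b := by omega
  haveI := g.h.h₁.finT
  haveI := finite_of_le (Zt_le T)
  obtain ⟨p, hp⟩ := g.exists_pair ho
  have hW := hp.nb.walk
  have hA1 : IsA (p (b + 1)) := hW.isA_even hp.isA le_rfl (by omega)
  have hA2 : IsA (p 2) := hW.isA_even hp.isA (by omega) rfl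
  have hB1 : ¬ IsA (p 1) := hW.isB_odd hp.isA (by omega) rfl
  have hadj0 : Adj (p 0) (p 1) := hW 0 (by omega)
  have hadj2 : Adj (p 1) (p 2) := hW 1 (by omega)
  have hadjb : Adj (p b) (p (b - 1)) := by
    have := (hW (b - 1) (by omega)).symm
    rwa [show b - 1 + 1 = b by omega] at this
  have hadjb1 : Adj (p (b + 1)) (p b) := (hW b (by omega)).symm
  set K := Z (p 0) ⊓ QQ (p b) with hKdef
  have hKi : Nat.card ↥(Z (p 0)) ≤ 2 * Nat.card ↥K := g.h.card_le_inf_QQ hadjb fun z hz => mem_Ed.mpr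
    ⟨g.fix_walk hW (Nat.zero_le _) (Nat.le_succ b) hp.isA (by omega) (by omega) hz,
      g.fix_walk hW (Nat.zero_le _) (by omega) hp.isA (by omega) (by omega) hz⟩
  by_cases hK : K ≤ QQ (p (b + 1))
  · obtain ⟨e, he, heQ⟩ := SetLike.not_le_iff_exists.mp hp.bw
    have hef : ∀ i, 1 ≤ i → i ≤ b + 1 → e • p i = p i := fun i h1 hi =>
      g.fix_walk hW le_rfl hi hA1 (by omega) (by omega) he
    have hadje : Adj (p 1) (e • p 0) := adj_of_fix (hef 1 le_rfl (by omega)) hadj0.symm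
    have hne0 : e • p 0 ≠ p 0 :=
      g.h.moves hadj2 hadj0.symm (hp.nb.turn 0 (by omega)) (hef 1 le_rfl (by omega))
        (hef 2 (by omega) (by omega)) heQ
    have hconj : ∀ v : G, v ∈ Z (p 0) → e * v = v * e → v ∈ Z (e • p 0) := fun v hv hc => by
      have := (g.h.mem_Z_smul e).mp hv
      rwa [hc, mul_inv_cancel_right] at this
    have hKle : K ≤ Z (p 0) ⊓ Z (e • p 0) := fun v hv => Subgroup.mem_inf.mpr ⟨(Subgroup.mem_inf.mp hv).1,
      hconj v (Subgroup.mem_inf.mp hv).1 (g.h.QQ_comm_Z hA1 (hK hv) he).symm⟩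
    have h02 : Z (p 0) ⊓ Z (p 2) ≤ Z (p 0) ⊓ Z (e • p 0) := fun v hv => Subgroup.mem_inf.mpr
      ⟨(Subgroup.mem_inf.mp hv).1, hconj v (Subgroup.mem_inf.mp hv).1 (g.h.QQ_comm_Z hA2
        (g.lt_walk hW le_rfl (by omega) hA1 (by omega) (by omega) he) (Subgroup.mem_inf.mp hv).2)⟩
    haveI := g.h.finZ hp.isA
    haveI := finite_of_le (inf_le_left : K ≤ Z (p 0))
    have hindex : ∀ x a a' : Vtx M₁ M₂, Adj x a → Adj x a' → a ≠ a' → ¬ IsA x →
        Nat.card ↥(Z a) ≤ 2 * Nat.card ↥(Z a ⊓ Z a') ∧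
        ∀ a'', Adj x a'' → Z a ⊓ Z a' ≤ Z a'' := by
      intro x a a' ha ha' hne hx
      haveI := g.h.finZ hp.isA
      haveI : Finite ↥(Z (p 0) ⊓ Z (e • p 0)) := finite_of_le inf_le_left
      haveI : Finite ↥(Z (p 0) ⊓ Z (p 2)) := finite_of_le inf_le_left
      have hq0 : NB (vcons (p 0) (vcons (p 1) fun _ => e • p 0)) 2 :=
        ((NB.const _).cons hadje (by omega)).cons hadj0 (fun _ => hne0.symm)
      have hq : NB (vcons a (vcons x fun _ => a')) 2 :=
        ((NB.const _).cons ha' (by omega)).cons ha.symm (fun _ => hne)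
      obtain ⟨k, hk⟩ := g.h.tr_three (by omega : 2 ≤ 3) true _ _ hq0 hq hp.isA (isA_of_adj ha.symm hx)
      have k0 := hk 0 (by omega)
      have k1 := hk 1 (by omega)
      have k2 := hk 2 le_rfl
      simp only [vcons_zero, vcons_succ] at k0 k1 k2
      have hle1 : Nat.card ↥(Z (p 0)) ≤ 2 * Nat.card ↥(Z (p 0) ⊓ Z (e • p 0)) :=
        hKi.trans (Nat.mul_le_mul_left 2 (card_le_of_le hKle))
      have heq : Z (p 0) ⊓ Z (p 2) = Z (p 0) ⊓ Z (e • p 0) := by
        refine eq_of_card_le h02 ?_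
        have hlt := two_mul_card_le (H := Z (p 0) ⊓ Z (e • p 0)) (K := Z (p 0)) inf_le_left
          fun hc => g.h.Z_not_le hadj0.symm hadje hne0.symm hB1 (hc.trans inf_le_right)
        have h1 : Nat.card ↥(Z (p 0)) ≤ 2 * Nat.card ↥(Z (p 0) ⊓ Z (p 2)) := by
          -- the pairs `(p 0, p 2)` and `(p 0, e • p 0)` are conjugate
          have hq2 : NB (vcons (p 0) (vcons (p 1) fun _ => p 2)) 2 :=
            ((NB.const _).cons hadj2 (by omega)).cons hadj0 (fun _ => hp.nb.turn 0 (by omega))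
          obtain ⟨l, hl⟩ := g.h.tr_three (by omega : 2 ≤ 3) true _ _ hq0 hq2 hp.isA hp.isA
          have l0 := hl 0 (by omega)
          have l2 := hl 2 le_rfl
          simp only [vcons_zero, vcons_succ] at l0 l2
          have e1 : (Z (p 0) ⊓ Z (e • p 0)).map (MulAut.conj l).toMonoidHom = Z (p 0) ⊓ Z (p 2) := by
            rw [Subgroup.map_inf _ _ _ (MulAut.conj l).injective, ← g.h.Z_smul, ← g.h.Z_smul, l0, l2]
          rw [← e1, card_map_of_injective (MulAut.conj l).injective]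
          exact hle1
        omega
      have himg : (Z (p 0) ⊓ Z (e • p 0)).map (MulAut.conj k).toMonoidHom = Z a ⊓ Z a' := by
        rw [Subgroup.map_inf _ _ _ (MulAut.conj k).injective, ← g.h.Z_smul, ← g.h.Z_smul, k0, k2]
      refine ⟨?_, fun a'' ha'' => ?_⟩
      · rw [← himg, card_map_of_injective (MulAut.conj k).injective]
        rw [g.h.card_Z_A (isA_of_adj ha.symm hx), ← g.h.card_Z_A hp.isA]
        exact hle1
      · have kk : Adj (k • p 1) (k • p 2) := adj_smul k hadj2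
        rw [k1] at kk
        rcases g.h.nbr_cases ha ha' kk ha'' hne
          (fun e1 => hp.nb.turn 0 (by omega) (smul_left_cancel k (k0.trans e1)))
          (fun e1 => hp.nb.turn 0 (by omega) (smul_left_cancel e
            ((smul_left_cancel k (k2.trans e1)).trans (hef 2 (by omega) (by omega)).symm))) with rfl | rfl | rfl
        · exact inf_le_left
        · exact inf_le_right
        · rw [← himg, g.h.Z_smul k (p 2)]
          refine Subgroup.map_mono ?_
          exact heq.symm.le.trans inf_le_right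
    -- the common part around the neighbours of `p 0`
    set N : Subgroup G := ⨅ (x : Vtx M₁ M₂) (_ : Adj (p 0) x) (a : Vtx M₁ M₂) (_ : Adj x a), Z a with hN
    have hNle : ∀ x a, Adj (p 0) x → Adj x a → N ≤ Z a := fun x a hx ha =>
      (iInf₂_le x hx).trans (iInf₂_le a ha)
    have hN0 : N ≤ Z (p 0) := hNle _ _ hadj0 hadj0.symm
    have hNst : St (p 0) ≤ normalizer (N : Set G) := by
      refine le_normalizer_iff.mpr fun k hk v hv => ?_
      simp only [hN, Subgroup.mem_iInf] at hv ⊢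
      intro x hx a ha
      have hk' : k⁻¹ • p 0 = p 0 := by rw [inv_smul_eq_iff]; exact (mem_St.mp hk).symm
      have := (g.h.mem_Z_smul k).mp (hv (k⁻¹ • x) (adj_of_fix hk' hx) (k⁻¹ • a) (adj_smul _ ha))
      rwa [smul_inv_smul] at this
    obtain ⟨E, -, -⟩ := g.h.edge hadj0 hp.isA
    obtain ⟨k, hk, hkQ⟩ := g.h.exists_QQ_not hadj2.symm
    obtain ⟨hk2, hkn⟩ := g.h.QQ_fix hk
    have hk1 := hkn _ hadj2.symm
    have hkE : k ∉ Ed (p 0) (p 1) := fun hm =>
      g.h.moves hadj2 hadj0.symm (hp.nb.turn 0 (by omega)) hk1 hk2 hkQ (mem_Ed.mp hm).1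
    have hbot : N = ⊥ := E.eq_bot_of (hN0.trans ((g.h.Z_le_QQ hp.isA).trans (g.h.QQ_le_Ed hadj0))) hNst
      (E.h₂.le_normalizer_of (inf_le_left.trans hNst) (mem_St.mpr hk1) hkE
        (normalizer_of_centralizer (mem_centralizer_iff.mpr fun v hv =>
          (g.h.QQ_comm_Z hA2 hk (hNle _ _ hadj0 hadj2 hv)).symm)))
    obtain ⟨x', x'', hx', hx'', hn', hn'', hn3⟩ := g.h.exists_two hadj0
    have hpart : ∀ x, Adj (p 0) x → ∀ X : Subgroup G, X ≤ Z (p 0) →
        Nat.card X ≤ 2 * Nat.card ↥(X ⊓ ⨅ (a : Vtx M₁ M₂) (_ : Adj x a), Z a) := by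
      intro x hx X hX
      set P := ⨅ (a : Vtx M₁ M₂) (_ : Adj x a), Z a
      have hxB := notA_of_adj hx hp.isA
      obtain ⟨a', ha', hne'⟩ := g.h.exists_ne_nbr hx.symm
      have hPle : P ≤ Z (p 0) := iInf₂_le _ hx.symm
      have hPge : Z (p 0) ⊓ Z a' ≤ P := le_iInf₂ fun a ha => (hindex x _ _ hx.symm ha' hne'.symm hxB).2 a ha
      haveI := g.h.finZ hp.isA
      haveI := finite_of_le hPle
      haveI := finite_of_le hX
      haveI := finite_of_le (inf_le_left.trans hX : X ⊓ P ≤ Z (p 0))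
      have h2 := ((hindex x _ _ hx.symm ha' hne'.symm hxB).1).trans (Nat.mul_le_mul_left 2 (card_le_of_le hPge))
      have h3 := CfsgLib.Core.card_sup_mul_card_inf X P (fun v hv => Subgroup.centralizer_le_normalizer _
        (mem_centralizer_iff.mpr fun w hw => g.h.Z_comm hp.isA (hPle hw) (hX hv)))
      have h4 := card_le_of_le (sup_le hX hPle)
      have h5 : 0 < Nat.card ↥P := Nat.card_pos
      refine Nat.le_of_mul_le_mul_right ?_ h5
      rw [← h3]
      calc Nat.card ↥(X ⊔ P) * Nat.card ↥(X ⊓ P) ≤ 2 * Nat.card ↥P * Nat.card ↥(X ⊓ P) :=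
            Nat.mul_le_mul_right _ (h4.trans h2)
        _ = _ := by ring
    have s1 := hpart _ hadj0 _ le_rfl
    have s2 := hpart _ hx' _ (inf_le_left : Z (p 0) ⊓ ⨅ (a : Vtx M₁ M₂) (_ : Adj (p 1) a), Z a ≤ Z (p 0))
    have s3 := hpart _ hx'' _ (inf_le_left.trans inf_le_left :
      Z (p 0) ⊓ (⨅ (a : Vtx M₁ M₂) (_ : Adj (p 1) a), Z a) ⊓ (⨅ (a : Vtx M₁ M₂) (_ : Adj x' a), Z a) ≤ Z (p 0))
    have hle : Z (p 0) ⊓ (⨅ (a : Vtx M₁ M₂) (_ : Adj (p 1) a), Z a) ⊓ (⨅ (a : Vtx M₁ M₂) (_ : Adj x' a), Z a)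
        ⊓ (⨅ (a : Vtx M₁ M₂) (_ : Adj x'' a), Z a) ≤ N := by
      refine le_iInf₂ fun x hx => ?_
      rcases g.h.nbr_cases hadj0 hx' hx'' hx hn'.symm hn''.symm hn3 with rfl | rfl | rfl
      exacts [inf_le_left.trans (inf_le_left.trans inf_le_right), inf_le_left.trans inf_le_right, inf_le_right]
    rw [hbot] at hle
    rw [le_bot_iff.mp hle, Subgroup.card_bot] at s3
    rw [g.h.card_Z_A hp.isA] at s1
    have h8 : Nat.card ↥(Zt T) * Nat.card ↥(Zt T) ≤ 8 := by omega
    have h1 : Nat.card ↥(Zt T) ≠ 1 := fun e => g.h.Zt_ne_bot (Subgroup.card_eq_one.mp e)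
    have h0 : 0 < Nat.card ↥(Zt T) := Nat.card_pos
    have h2 : Nat.card ↥(Zt T) ≤ 2 := by
      by_contra hc
      nlinarith
    omega
  · obtain ⟨κ, hκ, hκQ⟩ := SetLike.not_le_iff_exists.mp hK
    obtain ⟨hκ0, hκb⟩ := Subgroup.mem_inf.mp hκ
    have hκf : ∀ i, i ≤ b + 1 → κ • p i = p i := by
      intro i hi
      rcases Nat.lt_or_ge i (b + 1) with h1 | h1
      · exact g.fix_walk hW (Nat.zero_le _) hi hp.isA (by omega) (by omega) hκ0
      · rw [show i = b + 1 by omega]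
        exact (g.h.QQ_fix hκb).2 _ hadjb1.symm
    have hmov : Mov M₁ M₂ true b := Mov.le (n := b + 1)
      (by have := g.mov_of_Z hp.nb hκf hκQ; rwa [show Sum.isLeft (p (b + 1)) = true from hA1] at this)
      (Nat.le_succ b)
    have hc1b : ∀ c, c ∈ Z (p 1) → c ∈ Z (p b) → c = 1 := by
      intro c hc hcb
      have hB3 : ¬ IsA (p 3) := hW.isB_odd hp.isA (by omega) rfl
      by_cases hb3' : b = 3
      · exact g.h.Z_inf_eq_one hadj2.symm (hW 2 (by omega)) hA2 (hp.nb.turn 1 (by omega)) hc (by rw [hb3'] at hcb; exact hcb)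
      obtain ⟨v, hv, hvne⟩ := g.h.exists_ne_nbr hadjb1
      obtain ⟨w, hw, hwne⟩ := g.h.exists_ne_nbr hv.symm
      set q := vsnoc (vsnoc p (b + 1) v) (b + 2) w with hq
      have hqlast : vsnoc p (b + 1) v (b + 1 + 1) = v := vsnoc_last
      have hqNB : NB q (b + 3) := (hp.nb.snoc hv (fun _ => hvne)).snoc (hqlast.symm ▸ hw)
        (fun _ => by rw [Nat.add_sub_cancel, vsnoc_le le_rfl]; exact hwne)
      have hqle : ∀ i, i ≤ b + 1 → q i = p i := fun i hi => by
        rw [hq, vsnoc_le (by omega), vsnoc_le hi]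
      have hr : NB (fun i => q (2 + i)) (b + 1) := hqNB.shift (by omega)
      have hrA : IsA (q 2) := by rw [hqle 2 (by omega)]; exact hA2
      have hpair := g.pair_of ho hr (by simpa using hrA)
        (g.uniform_of_mov ho hmov (hr.mono (Nat.le_succ b)) (by simpa using hrA)).ne
      obtain ⟨e, he, heQ⟩ := SetLike.not_le_iff_exists.mp hpair.bw
      have he' : e ∈ Z (q (b + 3)) := by
        have : 2 + (b + 1) = b + 3 := by omega
        simpa [this] using he
      have heQ' : e ∉ QQ (p 3) := by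
        rw [← hqle 3 (by omega)]
        simpa using heQ
      have hAe : IsA (q (b + 3)) := hqNB.walk.isA_even (by rw [hqle 0 (by omega)]; exact hp.isA) le_rfl (by omega)
      have he3 : e • p 3 = p 3 := by
        rw [← hqle 3 (by omega)]
        exact g.fix_walk hqNB.walk le_rfl (by omega) hAe (by omega) (by omega) he'
      have he4 : e • p 4 = p 4 := by
        rw [← hqle 4 (by omega)]
        exact g.fix_walk hqNB.walk le_rfl (by omega) hAe (by omega) (by omega) he'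
      have hec : e * c = c * e := by
        refine g.comm hAe hA1 ?_ he' (g.h.Z_le_Z hadjb1 hA1 hcb)
        rw [← hqle (b + 1) le_rfl]
        exact lt_of_le_of_lt (g.dst_walk hqNB.walk le_rfl (by omega) (k := 2) (by omega) (by omega)) (by omega)
      have hc2 : c ∈ Z (p 2) := g.h.Z_le_Z hadj2.symm hA2 hc
      have hcw : c ∈ Z (e • p 2) := by
        have := (g.h.mem_Z_smul e).mp hc2
        rwa [hec, mul_inv_cancel_right] at this
      have hne2 : e • p 2 ≠ p 2 :=
        g.h.moves (hW 3 (by omega)) (hW 2 (by omega)).symm (hp.nb.turn 2 (by omega)) he3 he4 heQ'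
      exact g.h.Z_inf_eq_one hadj2.symm (hW 2 (by omega)) hA2 (hp.nb.turn 1 (by omega)) hc
        (g.Z_inf_of_mov (hmov.le hb3) (adj_of_fix he3 (hW 2 (by omega)).symm) (hW 2 (by omega)).symm hne2
          hB3 hcw hc2)
    haveI := g.h.finZ hA1
    have hle : Z (p (b + 1)) ⊓ QQ (p 1) ≤ Z (p b) := by
      intro e he
      obtain ⟨he0, heQ⟩ := Subgroup.mem_inf.mp he
      obtain ⟨he1, hen⟩ := g.h.QQ_fix heQ
      have h1 := g.h.comm_mem_Z hadj0 hp.isA (hen _ hadj0.symm) he1 hκ0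
      have h2 := g.h.comm_mem_Z hadjb1 hA1 (hκf _ le_rfl) (hκf b (by omega)) he0
      have h3 : (κ * (e * κ * e⁻¹))⁻¹ = e * (κ * e * κ⁻¹) := by
        rw [mul_inv_rev, g.h.Z_inv hp.isA hκ0]
        simp [mul_assoc, g.h.Z_inv hp.isA hκ0, g.h.Z_inv hA1 he0]
      have h4 : κ * (e * κ * e⁻¹) = 1 := hc1b _ h1 (by rw [← inv_inv (κ * _), h3]; exact inv_mem h2)
      have h5 : e * κ * e⁻¹ = κ := (inv_eq_of_mul_eq_one_right h4).symm.trans (g.h.Z_inv hp.isA hκ0)
      exact g.h.fixed hadjb1 hA1 (hκf _ le_rfl) (hκf b (by omega)) hκQ he0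
        (mul_inv_eq_iff_eq_mul.mp h5).symm
    refine g.h.card_two_of_le ?_
    rw [← g.h.card_Z_A hA1]
    have h1 : Nat.card ↥(Z (p (b + 1))) ≤ 2 * Nat.card ↥(Z (p (b + 1)) ⊓ QQ (p 1)) := by
      refine g.h.card_le_inf_QQ hadj2 fun e he => mem_Ed.mpr ⟨?_, ?_⟩
      · exact g.fix_walk hW le_rfl (by omega) hA1 (by omega) (by omega) he
      · exact g.fix_walk hW le_rfl (by omega) hA1 (by omega) (by omega) he
    haveI := finite_of_le (g.h.Z_le_Z hadjb1 hA1)
    have h2 := card_le_of_le hle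
    rw [g.h.card_Z_B (notA_of_adj hadjb1 hA1)] at h2
    omega

end GB

end CfsgLib.Goldschmidt
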