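import Cfsg.Agent.Lib.LocalEven.Goldschmidt.Four

/-! Critical distance three: the vertices at distance two from a vertex of the second kind. -/

set_option autoImplicit false
set_option linter.all false

namespace CfsgLib.Goldschmidt

open Subgroup CfsgLib.LocalEven CfsgLib.SThree
open scoped commutatorElement

universe u

variable {G : Type u} [Group G] {M₁ M₂ T : Subgroup G}

/-- The elements of `nbE x` in the cores of all vertices at distance two from `x`. -/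
def farE (x : Vtx M₁ M₂) : Subgroup G :=
  nbE x ⊓ ⨅ (a : Vtx M₁ M₂) (_ : Adj x a) (y : Vtx M₁ M₂) (_ : Adj a y), QQ y

theorem mem_farE {x : Vtx M₁ M₂} {q : G} :
    q ∈ farE x ↔ q ∈ nbE x ∧ ∀ a, Adj x a → ∀ y, Adj a y → q ∈ QQ y := by
  simp [farE, Subgroup.mem_inf, Subgroup.mem_iInf]

theorem farE_le (x : Vtx M₁ M₂) : farE x ≤ nbE x := inf_le_left

namespace GAmal

variable (h : GAmal M₁ M₂ T)
include h

theorem conj_farE {g : G} {x : Vtx M₁ M₂} (hg : g • x = x) {q : G} (hq : q ∈ farE x) : g * q * g⁻¹ ∈ farE x := by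
  obtain ⟨h1, h2⟩ := mem_farE.mp hq
  refine mem_farE.mpr ⟨h.conj_nbE hg h1, fun a ha y hy => ?_⟩
  have hg' : g⁻¹ • x = x := by rw [inv_smul_eq_iff, hg]
  have h4 := (h.mem_QQ_smul g).mp (h2 _ (adj_of_fix hg' ha) _ (adj_smul g⁻¹ hy))
  rwa [smul_inv_smul] at h4

theorem finNbE (x : Vtx M₁ M₂) : Finite ↥(nbE x) := by
  haveI := h.finQQ x
  exact finite_of_le (nbE_le x)

end GAmal

namespace GO

variable (o : GO M₁ M₂ T 3)
include o

/-- At critical distance three the representatives around `x` multiply to the centre. -/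
theorem four_three : FourAll M₁ M₂ := by
  obtain ⟨p, hp⟩ := o.g.exists_pair o.odd
  obtain ⟨z, hz, hzQ⟩ := SetLike.not_le_iff_exists.mp hp.fw
  obtain ⟨e, he, heQ⟩ := SetLike.not_le_iff_exists.mp hp.bw
  have hW := hp.nb.walk
  have hA2 : IsA (p 2) := hW.isA_even hp.isA (by omega) rfl
  have hB1 : ¬ IsA (p 1) := hW.isB_odd hp.isA (by omega) rfl
  have hB3 : ¬ IsA (p 3) := hW.isB_odd hp.isA (by omega) rfl
  have h21 : Adj (p 2) (p 1) := (hW 1 (by omega)).symm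
  have h23 : Adj (p 2) (p 3) := hW 2 (by omega)
  obtain ⟨tri1, hj, hjsym, hj2⟩ := o.pair_j hp hz hzQ he heQ
  obtain ⟨tri3, hj3, -, -⟩ := o.pair_j (o.g.pair_rev o.odd hp) (z := e) (e := z) he heQ hz hzQ
  simp only [show 3 + 1 - 1 = 3 by rfl, show 3 + 1 - 2 = 2 by rfl, show 3 + 1 - 3 = 1 by rfl,
    show 3 + 1 - 0 = 4 by rfl] at tri3 hj3
  set j := z * (e * z * e⁻¹) with hjdef
  have hc : ∀ x, Adj (p 2) x → j * cel x = cel x * j := by
    intro x hx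
    have hm := o.cel_mem_Z hx hA2
    have c1 : Commute z (cel x) := o.Z_nbr_comm tri1.ha tri1.ha'' hB1 tri1.r.1 hm
    have c2 : Commute (e * z * e⁻¹) (cel x) := o.Z_nbr_comm tri1.ha' tri1.ha'' hB1 tri1.r'.1 hm
    exact (c1.mul_left c2).eq
  have hjQ : j ∈ QQ (p 2) := mul_mem
    (o.g.lt_walk hW (show 0 ≤ 3 + 1 by omega) (by omega) hp.isA (by omega) (by omega) hz)
    (o.g.lt_two tri1.ha' tri1.ha'' (isA_of_adj tri1.ha'.symm hB1) le_rfl tri1.r'.1)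
  have hcent : ∀ q ∈ QQ (p 2), q * j = j * q := by
    intro q hq
    obtain ⟨hq2, hqn⟩ := o.g.h.QQ_fix hq
    have k1 : Commute q (cel (p 1)) := o.cel_fix hB1 (hqn _ h21)
    have k3 : Commute q (cel (p 3)) := o.cel_fix hB3 (hqn _ h23)
    have step : ∀ c : G, Commute q c → j * c = c * j →
        (j * c)⁻¹ * (q * (j * c) * q⁻¹) = j⁻¹ * (q * j * q⁻¹) := by
      intro c hqc hjc
      have hX : Commute c (j⁻¹ * (q * j * q⁻¹)) :=
        ((show Commute c j from hjc.symm).inv_right).mul_right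
          ((hqc.symm.mul_right hjc.symm).mul_right hqc.symm.inv_right)
      calc (j * c)⁻¹ * (q * (j * c) * q⁻¹) = c⁻¹ * j⁻¹ * q * j * (c * q⁻¹) := by group
        _ = c⁻¹ * ((j⁻¹ * (q * j * q⁻¹)) * c) := by rw [hqc.symm.inv_right.eq]; group
        _ = _ := by rw [← hX.eq, inv_mul_cancel_left]
    have f1 := o.tri_conj hB1 tri1 (hqn _ h21)
    rw [step _ k3 (hc _ h23)] at f1
    have f3 := o.tri_conj hB3 tri3 (hqn _ h23)
    rw [hjsym, step _ k1 (hc _ h21)] at f3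
    have h1 : q * j * q⁻¹ = j := (inv_mul_eq_one.mp
      (o.g.h.Z_inf_eq_one h21 h23 hA2 (hp.nb.turn 1 (by omega)) f1 f3)).symm
    exact mul_inv_eq_iff_eq_mul.mp h1
  refine o.four_of hB1 (u'' := j) ⟨tri1.ha, tri1.ha', tri1.ha'', tri1.ne₁, tri1.ne₂, tri1.ne₃, tri1.r, tri1.r',
    o.omega_center hA2 hjQ hj2 hcent, hj⟩ ?_
  rw [← hjdef, hj2]
  exact one_mem _

theorem crit_three {t y a x : Vtx M₁ M₂} (hty : Adj t y) (hya : Adj y a) (hax : Adj a x) (hta : t ≠ a)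
    (hyx : y ≠ x) (ht : IsA t) : Crit (vcons t (vcons y (vcons a fun _ => x))) 3 :=
  o.g.crit_of_tr (o.g.h.tr_three le_rfl true)
    ((((NB.const x).cons hax (by omega)).cons hya (fun _ => hyx)).cons hty (fun _ => hta)) ht

theorem ker_three {t y a x : Vtx M₁ M₂} (hty : Adj t y) (hya : Adj y a) (hax : Adj a x) (hta : t ≠ a)
    (hyx : y ≠ x) (ht : IsA t) {v : G} (hv : v ∈ Z t) : v ∈ QQ x ↔ v ∈ Z y :=
  o.ker (o.crit_three hty hya hax hta hyx ht) hv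

/-- A representative two steps beyond a neighbour of `x`. -/
theorem swapper {x a y t : Vtx M₁ M₂} (hxa : Adj x a) (hay : Adj a y) (hyt : Adj y t) (hyx : y ≠ x) (hta : t ≠ a)
    (hx : ¬ IsA x) {z : G} (hz : Rep y t z) : z • x = x ∧ z • a = a ∧ z • y = y ∧ z ∉ QQ x := by
  have ha := isA_of_adj hxa.symm hx
  have ht : IsA t := isA_of_adj hyt.symm (notA_of_adj hay ha)
  have hc := o.crit_three hyt.symm hay.symm hxa.symm hta hyx ht
  refine ⟨?_, ?_, ?_, fun hQ => hz.2 ((o.ker_three hyt.symm hay.symm hxa.symm hta hyx ht hz.1).mp hQ)⟩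
  · exact o.g.fix_walk hc.nb.walk (Nat.zero_le 3) (le_refl 3) ht (by omega) (by omega) hz.1
  · exact o.g.fix_walk hc.nb.walk (Nat.zero_le 3) (show 2 ≤ 3 by omega) ht (by omega) (by omega) hz.1
  · exact o.g.fix_walk hc.nb.walk (Nat.zero_le 3) (show 1 ≤ 3 by omega) ht (by omega) (by omega) hz.1

theorem exists_swapper {x a y : Vtx M₁ M₂} (hxa : Adj x a) (hay : Adj a y) (hx : ¬ IsA x) :
    ∃ t z, Adj y t ∧ t ≠ a ∧ Rep y t z := by
  obtain ⟨t, ht, hne⟩ := o.g.h.exists_ne_nbr hay.symm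
  obtain ⟨z, hz⟩ := o.exists_rep ht (notA_of_adj hay (isA_of_adj hxa.symm hx))
  exact ⟨t, z, ht, hne, hz⟩

theorem mem_nbE_of_Z {x a : Vtx M₁ M₂} (hxa : Adj x a) (hx : ¬ IsA x) : Z a ≤ nbE x := fun v hv =>
  mem_nbE.mpr ⟨o.g.h.Z_le_QQ_adj hxa.symm (isA_of_adj hxa.symm hx) hv,
    fun _ ha' => o.g.lt_two hxa ha' (isA_of_adj hxa.symm hx) le_rfl hv⟩

theorem cel_mem_farE {x : Vtx M₁ M₂} (hx : ¬ IsA x) : cel x ∈ farE x := by
  obtain ⟨a, ha⟩ := exists_adj x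
  refine mem_farE.mpr ⟨o.mem_nbE_of_Z ha hx (o.cel_mem_Z ha.symm (isA_of_adj ha.symm hx)), fun c hc y hy => ?_⟩
  exact o.g.h.Z_le_QQ_adj hy (isA_of_adj hc.symm hx) (o.cel_mem_Z hc.symm (isA_of_adj hc.symm hx))

theorem cel_not_QQ {x a a' y w : Vtx M₁ M₂} (hxa : Adj x a) (hxa' : Adj x a') (hne : a ≠ a') (hay : Adj a y)
    (haw : Adj a' w) (hyx : y ≠ x) (hwx : w ≠ x) (hx : ¬ IsA x) : cel y ∉ QQ w := fun hQ => by
  have ha := isA_of_adj hxa.symm hx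
  exact o.cel_not_mem hxa.symm hay ha hyx
    ((o.ker_three hxa.symm hxa' haw hne hwx.symm ha (o.cel_mem_Z hay ha)).mp hQ)

theorem cel_not_farE {x a y : Vtx M₁ M₂} (hxa : Adj x a) (hay : Adj a y) (hyx : y ≠ x) (hx : ¬ IsA x) :
    cel y ∉ farE x := fun hm => by
  obtain ⟨a', ha', hne⟩ := o.g.h.exists_ne_nbr hxa
  obtain ⟨w, hw, hwx⟩ := o.g.h.exists_ne_nbr ha'.symm
  exact o.cel_not_QQ hxa ha' hne.symm hay hw hyx hwx hx ((mem_farE.mp hm).2 a' ha' w hw)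

/-- What `Q` does to a representative beyond a neighbour. -/
theorem phi_mem {a y t : Vtx M₁ M₂} (hay : Adj a y) (hyt : Adj y t) (hta : t ≠ a) (ha : IsA a) {k z : G}
    (hky : k • y = y) (hka : k • a = a) (hz : Rep y t z) : k * z * k⁻¹ * z ∈ Z a := by
  have hy := notA_of_adj hay ha
  by_cases hkt : k • t = t
  · exact o.g.h.Z_le_Z hay ha (o.g.h.comm_mem_Z' hyt.symm (isA_of_adj hyt.symm hy) hkt hky hz.1)
  · have hr : Rep y (k • t) (k * z * k⁻¹) := by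
      have := o.rep_smul k hz
      rwa [hky] at this
    exact (o.four_mul o.four_three (adj_of_fix hky hyt) hyt hay.symm hkt
      (fun e => hta (smul_left_cancel k (e.trans hka.symm))) hta hy hr hz).1

/-- The cores of two vertices behind one neighbour agree on an element if they do behind another. -/
theorem pair_eq {x a a' y y' w w' : Vtx M₁ M₂} (hxa : Adj x a) (hxa' : Adj x a') (hne : a ≠ a') (hy : Adj a y)
    (hy' : Adj a y') (hyx : y ≠ x) (hy'x : y' ≠ x) (hyy : y ≠ y') (hw : Adj a' w) (hw' : Adj a' w')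
    (hwx : w ≠ x) (hw'x : w' ≠ x) (hww : w ≠ w') (hx : ¬ IsA x) {q : G} (hq : q ∈ nbE x)
    (hd : q ∈ QQ y ↔ q ∈ QQ y') : q ∈ QQ w ↔ q ∈ QQ w' := by
  obtain ⟨a'', ha'', hn1, hn2⟩ := o.g.h.exists_third hxa hxa' hne
  have hA'' := isA_of_adj ha''.symm hx
  obtain ⟨v, hv, hvx⟩ := o.g.h.exists_ne_nbr ha''.symm
  obtain ⟨t, z, ht, hta, hz⟩ := o.exists_swapper ha'' hv hx
  obtain ⟨hzx, hza, hzv, hzQ⟩ := o.swapper ha'' hv ht hvx hta hx hz
  have hsw : z • a = a' := o.g.h.swap ha'' hxa hxa' hn1.symm hn2.symm hne hzx hza hzQ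
  set ζ := q⁻¹ * (z * q * z⁻¹) with hζ
  have hζA : ζ ∈ Z a'' := by
    obtain ⟨h1, h2⟩ := o.g.h.QQ_fix (inv_mem (nbE_le_nbr ha'' hq))
    have := o.phi_mem hv ht hta hA'' (h2 v hv) h1 hz
    rw [inv_inv] at this
    rw [hζ, o.g.h.Z_inv (isA_of_adj ht.symm (notA_of_adj hv hA'')) hz.1]
    simpa [mul_assoc] using this
  have hζw : ∀ u, Adj a' u → u ≠ x → (ζ ∈ QQ u ↔ ζ ∈ Z x) := fun u hu hux =>
    o.ker_three ha''.symm hxa' hu hn2 hux.symm hA'' hζA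
  have key : ∀ u, Adj a u → u ≠ x → (q ∈ QQ u ↔ (q ∈ QQ (z • u) ↔ ζ ∈ Z x)) := by
    intro u hu hux
    have hu' : Adj a' (z • u) := hsw ▸ adj_smul z hu
    have hux' : z • u ≠ x := fun e => hux (smul_left_cancel z (e.trans hzx.symm))
    rw [o.g.h.mem_QQ_smul z, ← hζw _ hu' hux', show z * q * z⁻¹ = q * ζ by rw [hζ, mul_inv_cancel_left]]
    exact o.g.h.mul_mem_QQ_iff hu'.symm (o.g.h.QQ_le_Ed' hu' (nbE_le_nbr hxa' hq))
      (o.g.h.QQ_le_Ed' hu' (o.g.lt_two ha'' hxa' hA'' le_rfl hζA))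
  have k1 := key y hy hyx
  have k2 := key y' hy' hy'x
  have h1 : Adj a' (z • y) := hsw ▸ adj_smul z hy
  have h2 : Adj a' (z • y') := hsw ▸ adj_smul z hy'
  have h1x : z • y ≠ x := fun e => hyx (smul_left_cancel z (e.trans hzx.symm))
  have h2x : z • y' ≠ x := fun e => hy'x (smul_left_cancel z (e.trans hzx.symm))
  have h12 : z • y ≠ z • y' := smul_ne_smul hyy
  have hres : q ∈ QQ (z • y) ↔ q ∈ QQ (z • y') := by
    by_cases hc : ζ ∈ Z x <;> simp only [hc, iff_true, iff_false] at k1 k2 <;> tauto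
  rcases o.g.h.nbr_cases hxa'.symm h1 h2 hw h1x.symm h2x.symm h12 with e | e | e
  · exact absurd e hwx
  all_goals
    rcases o.g.h.nbr_cases hxa'.symm h1 h2 hw' h1x.symm h2x.symm h12 with e' | e' | e'
  · exact absurd e' hw'x
  · exact absurd (e.trans e'.symm) hww
  · rw [e, e']; exact hres
  · exact absurd e' hw'x
  · rw [e, e']; exact hres.symm
  · exact absurd (e.trans e'.symm) hww

theorem mem_farE_of {x : Vtx M₁ M₂} (hx : ¬ IsA x) {a₁ a₂ a₃ y₁ y₁' y₂ y₃ : Vtx M₁ M₂} (h₁ : Adj x a₁)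
    (h₂ : Adj x a₂) (h₃ : Adj x a₃) (n12 : a₁ ≠ a₂) (n13 : a₁ ≠ a₃) (n23 : a₂ ≠ a₃) (hy₁ : Adj a₁ y₁)
    (hy₁' : Adj a₁ y₁') (hy₂ : Adj a₂ y₂) (hy₃ : Adj a₃ y₃) (x₁ : y₁ ≠ x) (x₁' : y₁' ≠ x) (x₂ : y₂ ≠ x)
    (x₃ : y₃ ≠ x) (m₁ : y₁ ≠ y₁') {q : G} (hq : q ∈ nbE x) (q₁ : q ∈ QQ y₁) (q₁' : q ∈ QQ y₁')
    (q₂ : q ∈ QQ y₂) (q₃ : q ∈ QQ y₃) : q ∈ farE x := by
  refine mem_farE.mpr ⟨hq, fun a ha y hy => ?_⟩
  by_cases hyx : y = x
  · rw [hyx]; exact nbE_le x hq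
  have other : ∀ a' y', Adj x a' → a₁ ≠ a' → Adj a' y' → y' ≠ x → q ∈ QQ y' → Adj a' y → q ∈ QQ y := by
    intro a' y' ha' hne hy' hy'x hqy' hy
    by_cases e : y = y'
    · rwa [e]
    exact (o.pair_eq h₁ ha' hne hy₁ hy₁' x₁ x₁' m₁ hy' hy hy'x hyx (Ne.symm e) hx hq
      (iff_of_true q₁ q₁')).mp hqy'
  rcases o.g.h.nbr_cases h₁ h₂ h₃ ha n12 n13 n23 with rfl | rfl | rfl
  · rcases o.g.h.nbr_cases h₁.symm hy₁ hy₁' hy x₁.symm x₁'.symm m₁ with e | e | e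
    · exact absurd e hyx
    · rwa [e]
    · rwa [e]
  · exact other a y₂ h₂ n12 hy₂ x₂ q₂ hy
  · exact other a y₃ h₃ n13 hy₃ x₃ q₃ hy

theorem farE_comm {x a y t : Vtx M₁ M₂} (hxa : Adj x a) (hay : Adj a y) (hyx : y ≠ x) (hyt : Adj y t) (hta : t ≠ a)
    (hx : ¬ IsA x) {q z : G} (hq : q ∈ farE x) (hz : z ∈ Z t) : q * z = z * q := by
  have hA := isA_of_adj hxa.symm hx
  have hB := notA_of_adj hay hA
  have htA := isA_of_adj hyt.symm hB
  obtain ⟨hqy, hqn⟩ := o.g.h.QQ_fix ((mem_farE.mp hq).2 a hxa y hay)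
  have h1 := o.g.h.comm_mem_Z' hyt.symm htA (hqn t hyt) hqy hz
  have hc := o.crit_three hyt.symm hay.symm hxa.symm hta hyx htA
  have hzx : z • x = x := o.g.fix_walk hc.nb.walk (Nat.zero_le 3) (le_refl 3) htA (by omega) (by omega) hz
  have h2 : q * z * q⁻¹ * z ∈ farE x := by
    rw [show q * z * q⁻¹ * z = q * (z * q⁻¹ * z⁻¹) by rw [o.g.h.Z_inv htA hz]; group]
    exact mul_mem hq (o.g.h.conj_farE hzx (inv_mem hq))
  rcases o.cel_cases hB h1 with e | e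
  · exact mul_inv_eq_iff_eq_mul.mp ((eq_inv_of_mul_eq_one_left e).trans (o.g.h.Z_inv htA hz))
  · exact absurd (e ▸ h2) (o.cel_not_farE hxa hay hyx hx)

/-- Elements centralizing `farE x` move a vertex at distance two to any other one. -/
theorem reach {x a y a' w : Vtx M₁ M₂} (hxa : Adj x a) (hy : Adj a y) (hyx : y ≠ x) (hxa' : Adj x a')
    (hw : Adj a' w) (hwx : w ≠ x) (hx : ¬ IsA x) :
    ∃ k : G, k • x = x ∧ k • y = w ∧ ∀ q ∈ farE x, k * q = q * k := by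
  have step : ∀ {c v c' w : Vtx M₁ M₂}, Adj x c → Adj c v → v ≠ x → Adj x c' → c ≠ c' → Adj c' w → w ≠ x →
      ∃ k : G, k • x = x ∧ k • v = w ∧ ∀ q ∈ farE x, k * q = q * k := by
    intro c v c' w hc hv hvx hc' hne hw hwx
    obtain ⟨c'', hc'', hn1, hn2⟩ := o.g.h.exists_third hc hc' hne
    obtain ⟨s, hs, hsx⟩ := o.g.h.exists_ne_nbr hc''.symm
    obtain ⟨t, z, ht, hta, hz⟩ := o.exists_swapper hc'' hs hx
    obtain ⟨hzx, hza, -, hzQ⟩ := o.swapper hc'' hs ht hsx hta hx hz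
    have hsw : z • c = c' := o.g.h.swap hc'' hc hc' hn1.symm hn2.symm hne hzx hza hzQ
    have hzc : ∀ q ∈ farE x, z * q = q * z := fun q hq => (o.farE_comm hc'' hs hsx ht hta hx hq hz.1).symm
    have hu : Adj c' (z • v) := hsw ▸ adj_smul z hv
    have hux : z • v ≠ x := fun e => hvx (smul_left_cancel z (e.trans hzx.symm))
    by_cases he : z • v = w
    · exact ⟨z, hzx, he, hzc⟩
    obtain ⟨r, hrx, hrc, hrc'⟩ := o.exists_bits o.four_three hc hc' hne hx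
    obtain ⟨hrX, hrn⟩ := o.g.h.QQ_fix hrx
    have hrv : r • v = v := (o.g.h.QQ_fix hrc).2 v hv
    have hrw : r • (z • v) = w :=
      o.g.h.swap hc'.symm hu hw hux hwx he (hrn c' hc') hrX hrc'
    refine ⟨r * z * r⁻¹, ?_, ?_, fun q hq => ?_⟩
    · rw [mul_smul, mul_smul, inv_smul_eq_iff.mpr hrX.symm, hzx, hrX]
    · rw [mul_smul, mul_smul, inv_smul_eq_iff.mpr hrv.symm, hrw]
    · have h1 : r⁻¹ * q * r ∈ farE x := by
        have := o.g.h.conj_farE (g := r⁻¹) (inv_smul_eq_iff.mpr hrX.symm) hq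
        rwa [inv_inv] at this
      calc r * z * r⁻¹ * q = r * (z * (r⁻¹ * q * r)) * r⁻¹ := by group
        _ = r * ((r⁻¹ * q * r) * z) * r⁻¹ := by rw [hzc _ h1]
        _ = _ := by group
  by_cases hne : a = a'
  · subst hne
    obtain ⟨c, hc, hcne⟩ := o.g.h.exists_ne_nbr hxa
    obtain ⟨v, hv, hvx⟩ := o.g.h.exists_ne_nbr hc.symm
    obtain ⟨k, kx, ky, kc⟩ := step hxa hy hyx hc hcne.symm hv hvx
    obtain ⟨l, lx, ly, lc⟩ := step hc hv hvx hxa hcne hw hwx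
    refine ⟨l * k, by rw [mul_smul, kx, lx], by rw [mul_smul, ky, ly], fun q hq => ?_⟩
    rw [mul_assoc, kc q hq, ← mul_assoc, lc q hq, mul_assoc]
  · exact step hxa hy hyx hxa' hne hw hwx

theorem farE_inter {x a y a' w : Vtx M₁ M₂} (hxa : Adj x a) (hy : Adj a y) (hyx : y ≠ x) (hxa' : Adj x a')
    (hw : Adj a' w) (hwx : w ≠ x) (hx : ¬ IsA x) : farE x ⊓ farE y ≤ farE w := by
  intro q hq
  obtain ⟨h1, h2⟩ := Subgroup.mem_inf.mp hq
  obtain ⟨k, -, ky, kc⟩ := o.reach hxa hy hyx hxa' hw hwx hx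
  have e : k * q * k⁻¹ = q := by rw [kc q h1, mul_inv_cancel_right]
  have hA := isA_of_adj hxa.symm hx
  have hyB : k • y = w := ky
  rw [← e, ← hyB]
  refine mem_farE.mpr ⟨?_, fun c hc v hv => ?_⟩
  · refine mem_nbE.mpr ⟨(o.g.h.mem_QQ_smul k).mp (nbE_le y (farE_le y h2)), fun c hc => ?_⟩
    have := (o.g.h.mem_QQ_smul k).mp ((mem_nbE.mp (farE_le y h2)).2 (k⁻¹ • c)
      (by have := adj_smul k⁻¹ hc; rwa [inv_smul_smul] at this))
    rwa [smul_inv_smul] at this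
  · have := (o.g.h.mem_QQ_smul k).mp ((mem_farE.mp h2).2 (k⁻¹ • c)
      (by have := adj_smul k⁻¹ hc; rwa [inv_smul_smul] at this) (k⁻¹ • v) (adj_smul k⁻¹ hv))
    rwa [smul_inv_smul] at this

/-- Half of the far kernel at one centre is in that at a second one. -/
theorem farE_half {x a y : Vtx M₁ M₂} (hxa : Adj x a) (hy : Adj a y) (hyx : y ≠ x) (hx : ¬ IsA x) {q : G}
    (hq : q ∈ farE x) : q ∈ farE y ∨ q * cel x ∈ farE y := by
  have hA := isA_of_adj hxa.symm hx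
  have hyB := notA_of_adj hy hA
  obtain ⟨u, hu, hux, huy⟩ := o.g.h.exists_third hxa.symm hy hyx.symm
  obtain ⟨hE, hfar⟩ := mem_farE.mp hq
  have hqy : q ∈ QQ y := hfar a hxa y hy
  obtain ⟨hqyy, hqyn⟩ := o.g.h.QQ_fix hqy
  have hqE : q ∈ nbE y := by
    refine mem_nbE.mpr ⟨hqy, fun c hc => ?_⟩
    by_cases e : c = a
    · rw [e]; exact nbE_le_nbr hxa hE
    exact o.g.h.mem_QQ_of_comm (isA_of_adj hc.symm hyB) (hqyn c hc)
      fun z hz => o.farE_comm hxa hy hyx hc e hx hq hz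
  obtain ⟨c₂, c₃, hc₂, hc₃, n2, n3, n23⟩ := o.g.h.exists_two hy.symm
  obtain ⟨w₂, w₂', hw₂, hw₂', m2, m2', m22⟩ := o.g.h.exists_two hc₂.symm
  obtain ⟨t, z, ht, hta, hz⟩ := o.exists_swapper hy.symm hu hyB
  obtain ⟨hzy, hza, -, hzQ⟩ := o.swapper hy.symm hu ht huy hta hyB hz
  have hzq : z * q * z⁻¹ = q := by
    rw [← o.farE_comm hxa hu hux ht hta hx hq hz.1, mul_inv_cancel_right]
  have hsw : z • c₂ = c₃ := o.g.h.swap hy.symm hc₂ hc₃ n2 n3 n23 hzy hza hzQ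
  have hw₃ : Adj c₃ (z • w₂) := hsw ▸ adj_smul z hw₂
  have m3 : z • w₂ ≠ y := fun e => m2 (smul_left_cancel z (e.trans hzy.symm))
  by_cases h2 : q ∈ QQ w₂
  · have h3 : q ∈ QQ (z • w₂) := by
      have := (o.g.h.mem_QQ_smul z).mp h2
      rwa [hzq] at this
    exact Or.inl (o.mem_farE_of hyB hy.symm hc₂ hc₃ n2.symm n3.symm n23 hxa.symm hu hw₂ hw₃ hyx.symm huy m2 m3
      hux.symm hqE (nbE_le x hE) (hfar a hxa u hu) h2 h3)
  · have h3 : q ∉ QQ (z • w₂) := fun hh => h2 ((o.g.h.mem_QQ_smul z).mpr (by rwa [hzq]))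
    have hcE : cel x ∈ nbE y := o.mem_nbE_of_Z hy.symm hyB (o.cel_mem_Z hxa.symm hA)
    refine Or.inr (o.mem_farE_of hyB hy.symm hc₂ hc₃ n2.symm n3.symm n23 hxa.symm hu hw₂ hw₃ hyx.symm huy m2 m3
      hux.symm (mul_mem hqE hcE) ?_ ?_ ?_ ?_)
    · exact mul_mem (nbE_le x hE) (o.g.h.Z_le_QQ_adj hxa.symm hA (o.cel_mem_Z hxa.symm hA))
    · exact mul_mem (hfar a hxa u hu) (o.g.h.Z_le_QQ_adj hu hA (o.cel_mem_Z hxa.symm hA))
    · rw [o.g.h.mul_mem_QQ_iff hw₂.symm (o.g.h.QQ_le_Ed' hw₂ (nbE_le_nbr hc₂ hqE))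
        (o.g.h.QQ_le_Ed' hw₂ (nbE_le_nbr hc₂ hcE))]
      exact iff_of_false h2 (o.cel_not_QQ hy.symm hc₂ n2.symm hxa.symm hw₂ hyx.symm m2 hyB)
    · rw [o.g.h.mul_mem_QQ_iff hw₃.symm (o.g.h.QQ_le_Ed' hw₃ (nbE_le_nbr hc₃ hqE))
        (o.g.h.QQ_le_Ed' hw₃ (nbE_le_nbr hc₃ hcE))]
      exact iff_of_false h3 (o.cel_not_QQ hy.symm hc₃ n3.symm hxa.symm hw₃ hyx.symm m3 hyB)

theorem farE_meet {x a y : Vtx M₁ M₂} (hxa : Adj x a) (hy : Adj a y) (hyx : y ≠ x) (hx : ¬ IsA x) :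
    farE x ⊓ farE y = ⊥ := by
  have hA := isA_of_adj hxa.symm hx
  have hyB := notA_of_adj hy hA
  have key : ∀ {x a y : Vtx M₁ M₂}, Adj x a → Adj a y → y ≠ x → ¬ IsA x → ∀ k ∈ St x,
      ∀ q ∈ farE x ⊓ farE y, k * q * k⁻¹ ∈ farE x ⊓ farE y := by
    intro x a y hxa hy hyx hx k hk q hq
    have hkx := mem_St.mp hk
    have h1 := o.g.h.conj_farE hkx (Subgroup.mem_inf.mp hq).1
    refine Subgroup.mem_inf.mpr ⟨h1, ?_⟩
    -- move the element back from the image of `y`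
    have hk' : k⁻¹ • x = x := inv_smul_eq_iff.mpr hkx.symm
    have hy' : Adj (k⁻¹ • a) (k⁻¹ • y) := adj_smul _ hy
    have hyx' : k⁻¹ • y ≠ x := fun e => hyx (smul_left_cancel k⁻¹ (e.trans hk'.symm))
    have h2 : q ∈ farE (k⁻¹ • y) := o.farE_inter hxa hy hyx (adj_of_fix hk' hxa) hy' hyx' hx hq
    refine mem_farE.mpr ⟨mem_nbE.mpr ⟨?_, fun c hc => ?_⟩, fun c hc v hv => ?_⟩
    · have := (o.g.h.mem_QQ_smul k).mp (nbE_le _ (farE_le _ h2))
      rwa [smul_inv_smul] at this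
    · have := (o.g.h.mem_QQ_smul k).mp ((mem_nbE.mp (farE_le _ h2)).2 (k⁻¹ • c) (adj_smul _ hc))
      rwa [smul_inv_smul] at this
    · have := (o.g.h.mem_QQ_smul k).mp ((mem_farE.mp h2).2 (k⁻¹ • c) (adj_smul _ hc) (k⁻¹ • v) (adj_smul _ hv))
      rwa [smul_inv_smul] at this
  have hNx : St x ≤ normalizer ((farE x ⊓ farE y : Subgroup G) : Set G) :=
    le_normalizer_iff.mpr fun k hk q hq => key hxa hy hyx hx k hk q hq
  have hNy : St y ≤ normalizer ((farE x ⊓ farE y : Subgroup G) : Set G) := by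
    rw [inf_comm]
    exact le_normalizer_iff.mpr fun k hk q hq => key hy.symm hxa.symm hyx.symm hyB k hk q hq
  obtain ⟨E, -, -⟩ := o.g.h.edge hxa.symm hA
  obtain ⟨k, hk, hkQ⟩ := (o.g.h.edge3 hy).1.exists_out_Q
  obtain ⟨hka, hky⟩ := mem_Ed.mp hk
  have hkE : k ∉ Ed a x := fun hm => o.g.h.moves hy hxa.symm hyx.symm hka hky hkQ (mem_Ed.mp hm).2
  exact E.eq_bot_of ((inf_le_left.trans (farE_le x)).trans ((nbE_le x).trans (o.g.h.QQ_le_Ed' hxa)))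
    (E.h₁.le_normalizer_of (inf_le_right.trans hNx) (mem_St.mpr hka) hkE (hNy (mem_St.mpr hky))) hNx

theorem card_farE {x : Vtx M₁ M₂} (hx : ¬ IsA x) : Nat.card ↥(farE x) ≤ 2 := by
  obtain ⟨a, ha⟩ := exists_adj x
  obtain ⟨y, hy, hyx⟩ := o.g.h.exists_ne_nbr ha.symm
  have hbot := o.farE_meet ha hy hyx hx
  have h1 : farE x ≤ Z x := by
    intro q hq
    rcases o.farE_half ha hy hyx hx hq with h | h
    · have : q ∈ farE x ⊓ farE y := ⟨hq, h⟩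
      rw [hbot] at this
      rw [mem_bot.mp this]
      exact one_mem _
    · have : q * cel x ∈ farE x ⊓ farE y := ⟨mul_mem hq (o.cel_mem_farE hx), h⟩
      rw [hbot] at this
      rw [eq_inv_of_mul_eq_one_left (mem_bot.mp this)]
      exact inv_mem (o.cel_mem hx)
  haveI : Finite ↥(Z x) := Nat.finite_of_card_ne_zero (by rw [o.card_cen hx]; omega)
  exact (card_le_of_le h1).trans (o.card_cen hx).le

end GO

end CfsgLib.Goldschmidt
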