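import Cfsg.Agent.Lib.LocalEven.Goldschmidt.Nbr

/-! Walks without backtracking, transitivity on them, and the critical distance. -/

set_option autoImplicit false
set_option linter.all false

namespace CfsgLib.Goldschmidt

open Subgroup CfsgLib.LocalEven CfsgLib.SThree
open scoped commutatorElement

universe u

variable {G : Type u} [Group G] {M₁ M₂ T : Subgroup G}

/-- The distance in the coset graph. -/
noncomputable abbrev dst (v u : Vtx M₁ M₂) : ℕ := (Cfsg.cosetGraph M₁ M₂).dist v u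

/-- Consecutive vertices are adjacent. -/
def IsWalk (p : ℕ → Vtx M₁ M₂) (n : ℕ) : Prop := ∀ i, i < n → Adj (p i) (p (i + 1))

/-- A walk that never turns back. -/
structure NB (p : ℕ → Vtx M₁ M₂) (n : ℕ) : Prop where
  walk : IsWalk p n
  turn : ∀ i, i + 2 ≤ n → p i ≠ p (i + 2)

/-- The kind of the `m`th vertex of a walk. -/
def endK : Bool → ℕ → Bool
  | s, 0 => s
  | s, m + 1 => !endK s m

/-- A vertex in front of a walk. -/
def vcons (v : Vtx M₁ M₂) (p : ℕ → Vtx M₁ M₂) : ℕ → Vtx M₁ M₂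
  | 0 => v
  | i + 1 => p i

/-- A walk continued by a vertex. -/
def vsnoc (p : ℕ → Vtx M₁ M₂) (n : ℕ) (v : Vtx M₁ M₂) : ℕ → Vtx M₁ M₂ :=
  fun i => if i ≤ n then p i else v

theorem vcons_zero (v : Vtx M₁ M₂) (p : ℕ → Vtx M₁ M₂) : vcons v p 0 = v := rfl

theorem vcons_succ (v : Vtx M₁ M₂) (p : ℕ → Vtx M₁ M₂) (i : ℕ) : vcons v p (i + 1) = p i := rfl

theorem vsnoc_le {p : ℕ → Vtx M₁ M₂} {n i : ℕ} {v : Vtx M₁ M₂} (hi : i ≤ n) : vsnoc p n v i = p i := if_pos hi

theorem vsnoc_last {p : ℕ → Vtx M₁ M₂} {n : ℕ} {v : Vtx M₁ M₂} : vsnoc p n v (n + 1) = v := if_neg (by omega)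

theorem isLeft_adj {v u : Vtx M₁ M₂} (h : Adj v u) : Sum.isLeft u = !Sum.isLeft v := by
  have := isLeft_ne h
  revert this
  cases Sum.isLeft v <;> cases Sum.isLeft u <;> simp

namespace IsWalk

variable {p : ℕ → Vtx M₁ M₂} {n : ℕ}

theorem isLeft_eq (h : IsWalk p n) {i : ℕ} (hi : i ≤ n) : Sum.isLeft (p i) = endK (Sum.isLeft (p 0)) i := by
  induction i with
  | zero => rfl
  | succ i ih => rw [isLeft_adj (h i (by omega)), ih (by omega), endK]

theorem isA_two (h : IsWalk p n) {i : ℕ} (hi : i + 2 ≤ n) : IsA (p (i + 2)) ↔ IsA (p i) := by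
  have h1 := adjA (h i (by omega))
  have h2 := adjA (h (i + 1) (by omega))
  tauto

theorem isA_even (h : IsWalk p n) (h0 : IsA (p 0)) {i : ℕ} (hi : i ≤ n) (he : i % 2 = 0) : IsA (p i) := by
  induction i using Nat.twoStepInduction with
  | zero => exact h0
  | one => omega
  | more i ih _ => exact (h.isA_two hi).mpr (ih (by omega) (by omega))

theorem isB_odd (h : IsWalk p n) (h0 : IsA (p 0)) {i : ℕ} (hi : i ≤ n) (he : i % 2 = 1) : ¬ IsA (p i) := by
  obtain ⟨j, rfl⟩ : ∃ j, i = j + 1 := ⟨i - 1, by omega⟩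
  exact notA_of_adj (h j (by omega)) (h.isA_even h0 (by omega) (by omega))

theorem dst_le (h : IsWalk p n) (hconn : (Cfsg.cosetGraph M₁ M₂).Connected) {i j : ℕ} (hij : i ≤ j) (hj : j ≤ n) :
    dst (p i) (p j) ≤ j - i := by
  induction j, hij using Nat.le_induction with
  | base => simp
  | succ k hk ih =>
    have h1 := hconn.dist_triangle (u := p i) (v := p k) (w := p (k + 1))
    have h2 : dst (p k) (p (k + 1)) = 1 := SimpleGraph.dist_eq_one_iff_adj.mpr (h k (by omega))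
    have h3 := ih (by omega)
    unfold dst at *
    omega

theorem dst_le' (h : IsWalk p n) (hconn : (Cfsg.cosetGraph M₁ M₂).Connected) {i j : ℕ} (hij : i ≤ j) (hj : j ≤ n) :
    dst (p j) (p i) ≤ j - i := by
  rw [dst, SimpleGraph.dist_comm]
  exact h.dst_le hconn hij hj

end IsWalk

namespace NB

variable {p : ℕ → Vtx M₁ M₂} {n : ℕ}

theorem mono (h : NB p n) {m : ℕ} (hm : m ≤ n) : NB p m :=
  ⟨fun i hi => h.walk i (by omega), fun i hi => h.turn i (by omega)⟩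

theorem shift (h : NB p n) {k m : ℕ} (hm : k + m ≤ n) : NB (fun i => p (k + i)) m :=
  ⟨fun i hi => h.walk (k + i) (by omega), fun i hi => h.turn (k + i) (by omega)⟩

theorem rev (h : NB p n) : NB (fun i => p (n - i)) n := by
  refine ⟨fun i hi => ?_, fun i hi => ?_⟩
  · have := (h.walk (n - (i + 1)) (by omega)).symm
    rwa [show n - (i + 1) + 1 = n - i by omega] at this
  · have := (h.turn (n - (i + 2)) (by omega)).symm
    rwa [show n - (i + 2) + 2 = n - i by omega] at this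

theorem smul (h : NB p n) (g : G) : NB (fun i => g • p i) n :=
  ⟨fun i hi => adj_smul g (h.walk i hi), fun i hi e => h.turn i hi (smul_left_cancel g e)⟩

theorem cons (h : NB p n) {v : Vtx M₁ M₂} (hv : Adj v (p 0)) (hne : 1 ≤ n → v ≠ p 1) :
    NB (vcons v p) (n + 1) := by
  refine ⟨fun i hi => ?_, fun i hi => ?_⟩
  · cases i with
    | zero => exact hv
    | succ i => exact h.walk i (by omega)
  · cases i with
    | zero => exact hne (by omega)
    | succ i => exact h.turn i (by omega)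

theorem snoc (h : NB p n) {v : Vtx M₁ M₂} (hv : Adj (p n) v) (hne : 1 ≤ n → v ≠ p (n - 1)) :
    NB (vsnoc p n v) (n + 1) := by
  refine ⟨fun i hi => ?_, fun i hi => ?_⟩
  · rw [vsnoc_le (by omega)]
    by_cases hin : i + 1 ≤ n
    · rw [vsnoc_le hin]; exact h.walk i (by omega)
    · obtain rfl : i = n := by omega
      rw [vsnoc_last]; exact hv
  · rw [vsnoc_le (by omega)]
    by_cases hin : i + 2 ≤ n
    · rw [vsnoc_le hin]; exact h.turn i hin
    · rw [show i + 2 = n + 1 by omega, vsnoc_last, show i = n - 1 by omega]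
      exact (hne (by omega)).symm

theorem const (v : Vtx M₁ M₂) : NB (fun _ => v) 0 := ⟨fun i hi => absurd hi (by omega), fun i hi => absurd hi (by omega)⟩

theorem next (h : NB p (n + 2)) : Adj (p (n + 1)) (p n) ∧ Adj (p (n + 1)) (p (n + 2)) ∧ p n ≠ p (n + 2) :=
  ⟨(h.walk n (by omega)).symm, h.walk (n + 1) (by omega), h.turn n (by omega)⟩

end NB

/-- Walks of length `m` without backtracking with a given kind of start are conjugate. -/
def Tr (M₁ M₂ : Subgroup G) (s : Bool) (m : ℕ) : Prop :=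
  ∀ p q : ℕ → Vtx M₁ M₂, NB p m → NB q m → Sum.isLeft (p 0) = s → Sum.isLeft (q 0) = s →
    ∃ g : G, ∀ i, i ≤ m → g • p i = q i

/-- Some element fixes a walk of length `n` ending with a given kind of vertex, and moves what lies beyond. -/
def Mov (M₁ M₂ : Subgroup G) (e : Bool) (n : ℕ) : Prop :=
  ∃ p : ℕ → Vtx M₁ M₂, NB p n ∧ Sum.isLeft (p n) = e ∧ ∃ g : G, (∀ i, i ≤ n → g • p i = p i) ∧ g ∉ QQ (p n)

theorem Mov.le {e : Bool} {n k : ℕ} (h : Mov M₁ M₂ e n) (hk : k ≤ n) : Mov M₁ M₂ e k := by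
  obtain ⟨p, hp, he, g, hg, hgQ⟩ := h
  refine ⟨fun i => p (n - k + i), hp.shift (by omega), ?_, g, fun i hi => hg _ (by omega), ?_⟩
  · show Sum.isLeft (p (n - k + k)) = e
    rwa [show n - k + k = n by omega]
  · show g ∉ QQ (p (n - k + k))
    rwa [show n - k + k = n by omega]

namespace GAmal

variable (h : GAmal M₁ M₂ T)
include h

theorem tr_zero (s : Bool) : Tr M₁ M₂ s 0 := by
  intro p q _ _ hp hq
  have key : ∀ v w : Vtx M₁ M₂, Sum.isLeft v = Sum.isLeft w → ∃ g : G, g • v = w := by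
    rintro (v | v) (w | w) e <;> simp at e
    all_goals
      obtain ⟨x, rfl⟩ := QuotientGroup.mk_surjective v
      obtain ⟨y, rfl⟩ := QuotientGroup.mk_surjective w
      refine ⟨y * x⁻¹, ?_⟩
    · show (Sum.inl (((y * x⁻¹ * x : G)) : G ⧸ M₁) : Vtx M₁ M₂) = _
      rw [inv_mul_cancel_right]
    · show (Sum.inr (((y * x⁻¹ * x : G)) : G ⧸ M₂) : Vtx M₁ M₂) = _
      rw [inv_mul_cancel_right]
  obtain ⟨g, hg⟩ := key (p 0) (q 0) (hp.trans hq.symm)
  exact ⟨g, fun i hi => by rw [Nat.le_zero.mp hi]; exact hg⟩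

theorem tr_one (s : Bool) : Tr M₁ M₂ s 1 := by
  intro p q hp hq hp0 hq0
  obtain ⟨g, hg⟩ := h.tr_zero s p q (hp.mono (by omega)) (hq.mono (by omega)) hp0 hq0
  have h0 := hg 0 le_rfl
  obtain ⟨k, hk, e⟩ := exists_stabilizer_smul (h0 ▸ adj_smul g (hp.walk 0 (by omega))) (hq.walk 0 (by omega))
  refine ⟨k * g, fun i hi => ?_⟩
  rw [mul_smul]
  interval_cases i
  · rw [h0]; exact mem_St.mp hk
  · exact e

theorem tr_succ {s : Bool} {m : ℕ} (ht : Tr M₁ M₂ s m) (hm : Mov M₁ M₂ (endK s m) m) :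
    Tr M₁ M₂ s (m + 1) := by
  rcases Nat.eq_zero_or_pos m with rfl | hpos
  · exact h.tr_one s
  intro p q hp hq hp0 hq0
  obtain ⟨g, hg⟩ := ht p q (hp.mono (by omega)) (hq.mono (by omega)) hp0 hq0
  obtain ⟨r, hr, hre, t, ht', htQ⟩ := hm
  have hr0 : Sum.isLeft (r 0) = s := by
    have h1 := hr.walk.isLeft_eq le_rfl
    rw [hre] at h1
    clear * - h1
    induction m with
    | zero => exact h1.symm
    | succ m ih => exact ih (by simpa [endK] using h1)
  obtain ⟨k, hk⟩ := ht r q hr (hq.mono (by omega)) hr0 hq0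
  obtain ⟨n, rfl⟩ : ∃ n, m = n + 1 := ⟨m - 1, by omega⟩
  obtain ⟨a1, a2, a3⟩ := hq.next
  obtain ⟨b1, b2, b3⟩ := (hp.smul g).next
  simp only [hg (n + 1) le_rfl, hg n (by omega)] at b1 b2 b3
  by_cases he : g • p (n + 2) = q (n + 2)
  · exact ⟨g, fun i hi => if hi' : i ≤ n + 1 then hg i hi' else by rw [show i = n + 2 by omega]; exact he⟩
  have hfix : ∀ i, i ≤ n + 1 → (k * t * k⁻¹) • q i = q i := fun i hi => by
    rw [← hk i hi, smul_smul, inv_mul_cancel_right, mul_smul, ht' i hi]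
  have hQ : k * t * k⁻¹ ∉ QQ (q (n + 1)) := by
    rw [← hk (n + 1) le_rfl, ← h.mem_QQ_smul k]
    exact htQ
  refine ⟨k * t * k⁻¹ * g, fun i hi => ?_⟩
  rw [mul_smul]
  by_cases hi' : i ≤ n + 1
  · rw [hg i hi', hfix i hi']
  · rw [show i = n + 2 by omega]
    exact h.swap a1 b2 a2 b3.symm a3.symm he (hfix _ le_rfl) (hfix n (by omega)) hQ

/-- Movers of both kinds give transitivity one step further. -/
theorem tr_of_mov {n : ℕ} (h1 : Mov M₁ M₂ true n) (h0 : Mov M₁ M₂ false n) {m : ℕ} (hm : m ≤ n + 1) (s : Bool) :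
    Tr M₁ M₂ s m := by
  induction m with
  | zero => exact h.tr_zero s
  | succ m ih =>
    refine h.tr_succ (ih (by omega)) ?_
    cases endK s m
    exacts [h0.le (by omega), h1.le (by omega)]

theorem mov_two (e : Bool) : Mov M₁ M₂ e 2 := by
  obtain ⟨w, hw⟩ : ∃ w : Vtx M₁ M₂, Sum.isLeft w = e := by
    cases e
    exacts [⟨Sum.inr ((1 : G) : G ⧸ M₂), rfl⟩, ⟨Sum.inl ((1 : G) : G ⧸ M₁), rfl⟩]
  obtain ⟨v, hv⟩ := exists_adj w
  obtain ⟨u, hu, hne⟩ := h.exists_ne_nbr hv.symm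
  obtain ⟨g, hg, hgw⟩ := h.exists_QQ_not hv.symm
  obtain ⟨hgv, hgn⟩ := h.QQ_fix hg
  refine ⟨vcons u (vcons v fun _ => w), ((NB.const w).cons hv.symm (by omega)).cons hu.symm (fun _ => hne), hw,
    g, fun i hi => ?_, hgw⟩
  interval_cases i
  exacts [hgn u hu, hgv, hgn w hv.symm]

/-- Any two walks of length three with the same kind of start are conjugate. -/
theorem tr_three {m : ℕ} (hm : m ≤ 3) (s : Bool) : Tr M₁ M₂ s m :=
  h.tr_of_mov (h.mov_two true) (h.mov_two false) hm s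

theorem exists_path {v u : Vtx M₁ M₂} {n : ℕ} (hd : dst v u = n) :
    ∃ p : ℕ → Vtx M₁ M₂, IsWalk p n ∧ p 0 = v ∧ p n = u := by
  induction n generalizing v with
  | zero => exact ⟨fun _ => v, fun i hi => absurd hi (by omega), rfl, h.connected.dist_eq_zero_iff.mp hd⟩
  | succ n ih =>
    obtain ⟨w, hw, hwd⟩ := exists_adj_dist h.connected hd
    obtain ⟨p, hp, hp0, hpn⟩ := ih hwd
    refine ⟨vcons v p, fun i hi => ?_, rfl, hpn⟩
    cases i with
    | zero =>
      show Adj v (p 0)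
      rw [hp0]
      exact hw
    | succ i => exact hp i (by omega)

end GAmal

/-- The critical distance. -/
structure GB (M₁ M₂ T : Subgroup G) (b : ℕ) : Prop where
  h : GAmal M₁ M₂ T
  lt : ∀ a v : Vtx M₁ M₂, IsA a → dst a v < b → Z a ≤ QQ v
  ex : ∃ a v : Vtx M₁ M₂, IsA a ∧ dst a v = b ∧ ¬ Z a ≤ QQ v

/-- A critical walk. -/
structure Crit (p : ℕ → Vtx M₁ M₂) (b : ℕ) : Prop where
  nb : NB p b
  isA : IsA (p 0)
  ne : ¬ Z (p 0) ≤ QQ (p b)

theorem GAmal.exists_GB (h : GAmal M₁ M₂ T) : ∃ b, GB M₁ M₂ T b := by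
  classical
  have hexc : ∃ a v : Vtx M₁ M₂, IsA a ∧ ¬ Z a ≤ QQ v := by
    by_contra hc
    push Not at hc
    set a : Vtx M₁ M₂ := Sum.inl ((1 : G) : G ⧸ M₁)
    obtain ⟨x, hx⟩ := exists_adj a
    refine h.Z_B_ne_bot (notA_of_adj hx rfl) (eq_bot_iff.mpr fun z hz => mem_bot.mpr ?_)
    exact h.eq_one_of_fix fun v => (h.QQ_fix (hc a v rfl (h.Z_le_Z hx rfl hz))).1
  have hex : ∃ n, ∃ a v : Vtx M₁ M₂, IsA a ∧ dst a v = n ∧ ¬ Z a ≤ QQ v := by
    obtain ⟨a, v, ha, hne⟩ := hexc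
    exact ⟨_, a, v, ha, rfl, hne⟩
  refine ⟨Nat.find hex, h, fun a v ha hlt => ?_, Nat.find_spec hex⟩
  by_contra hne
  exact Nat.find_min hex hlt ⟨a, v, ha, rfl, hne⟩

namespace GB

variable {b : ℕ} (g : GB M₁ M₂ T b)
include g

theorem two_le : 2 ≤ b := by
  obtain ⟨a, v, ha, hd, hne⟩ := g.ex
  by_contra hb
  rcases Nat.lt_or_ge b 1 with h0 | h0
  · exact hne (g.h.connected.dist_eq_zero_iff.mp (hd.trans (by omega)) ▸ g.h.Z_le_QQ ha)
  · exact hne (g.h.Z_le_QQ_adj (SimpleGraph.dist_eq_one_iff_adj.mp (hd.trans (by omega))) ha)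

theorem fixes {a v : Vtx M₁ M₂} (ha : IsA a) (hd : dst a v ≤ b) {z : G} (hz : z ∈ Z a) : z • v = v := by
  rcases Nat.lt_or_ge (dst a v) b with hlt | hge
  · exact (g.h.QQ_fix (g.lt a v ha hlt hz)).1
  · have := g.two_le
    obtain ⟨w, hw, hwd⟩ := exists_adj_dist (a := v) (b := a) (n := b - 1) g.h.connected
      (by rw [SimpleGraph.dist_comm]; unfold dst at *; omega)
    exact (g.h.QQ_fix (g.lt a w ha (by rw [dst, SimpleGraph.dist_comm]; omega) hz)).2 v hw.symm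

theorem dst_walk {p : ℕ → Vtx M₁ M₂} {n : ℕ} (hp : IsWalk p n) {i j : ℕ} (hi : i ≤ n) (hj : j ≤ n) {k : ℕ}
    (h1 : i ≤ j + k) (h2 : j ≤ i + k) : dst (p i) (p j) ≤ k := by
  rcases Nat.le_total i j with hij | hij
  · exact (hp.dst_le g.h.connected hij hj).trans (by omega)
  · exact (hp.dst_le' g.h.connected hij hi).trans (by omega)

/-- Along a walk the centres lie in the cores of the vertices at smaller distance than the critical one. -/
theorem lt_walk {p : ℕ → Vtx M₁ M₂} {n : ℕ} (hp : IsWalk p n) {i j : ℕ} (hi : i ≤ n) (hj : j ≤ n)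
    (hA : IsA (p i)) (h1 : i < j + b) (h2 : j < i + b) : Z (p i) ≤ QQ (p j) := by
  refine g.lt _ _ hA (Nat.lt_of_le_of_lt (g.dst_walk hp hi hj (k := b - 1) (by omega) (by omega)) ?_)
  omega

theorem fix_walk {p : ℕ → Vtx M₁ M₂} {n : ℕ} (hp : IsWalk p n) {i j : ℕ} (hi : i ≤ n) (hj : j ≤ n)
    (hA : IsA (p i)) (h1 : i ≤ j + b) (h2 : j ≤ i + b) {z : G} (hz : z ∈ Z (p i)) : z • p j = p j :=
  g.fixes hA (g.dst_walk hp hi hj h1 h2) hz

theorem comm {a a' : Vtx M₁ M₂} (ha : IsA a) (ha' : IsA a') (hd : dst a a' < b) {z z' : G} (hz : z ∈ Z a)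
    (hz' : z' ∈ Z a') : z * z' = z' * z :=
  g.h.QQ_comm_Z ha' (g.lt a a' ha hd hz) hz'

theorem lt_two {a x a' : Vtx M₁ M₂} (hxa : Adj x a) (hxa' : Adj x a') (ha : IsA a) (hb : 3 ≤ b) :
    Z a ≤ QQ a' := by
  refine g.lt a a' ha ?_
  have h1 := g.h.connected.dist_triangle (u := a) (v := x) (w := a')
  have h2 : dst a x = 1 := SimpleGraph.dist_eq_one_iff_adj.mpr hxa.symm
  have h3 : dst x a' = 1 := SimpleGraph.dist_eq_one_iff_adj.mpr hxa'
  unfold dst at *
  omega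

theorem exists_crit : ∃ p : ℕ → Vtx M₁ M₂, Crit p b := by
  obtain ⟨a, v, ha, hd, hne⟩ := g.ex
  obtain ⟨p, hp, rfl, rfl⟩ := g.h.exists_path hd
  refine ⟨p, ⟨hp, fun i hi he => ?_⟩, ha, hne⟩
  have h1 := g.h.connected.dist_triangle (u := p 0) (v := p (i + 2)) (w := p b)
  have h2 : dst (p 0) (p (i + 2)) ≤ i := he ▸ (hp.dst_le g.h.connected (Nat.zero_le i) (by omega)).trans (by omega)
  have h3 := hp.dst_le g.h.connected hi le_rfl
  unfold dst at *
  omega

theorem crit_mov {p : ℕ → Vtx M₁ M₂} (hc : Crit p b) : Mov M₁ M₂ (endK true b) b := by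
  obtain ⟨z, hz, hzQ⟩ := SetLike.not_le_iff_exists.mp hc.ne
  refine ⟨p, hc.nb, ?_, z, fun i hi => g.fix_walk hc.nb.walk (Nat.zero_le b) hi hc.isA (by omega) (by omega) hz,
    hzQ⟩
  rw [hc.nb.walk.isLeft_eq le_rfl, show Sum.isLeft (p 0) = true from hc.isA]

theorem crit_smul {p : ℕ → Vtx M₁ M₂} (hc : Crit p b) {q : ℕ → Vtx M₁ M₂} (hq : NB q b) (k : G)
    (hk : ∀ i, i ≤ b → k • p i = q i) : Crit q b := by
  refine ⟨hq, ?_, fun hle => hc.ne fun z hz => ?_⟩
  · rw [← hk 0 (Nat.zero_le b), isA_smul]; exact hc.isA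
  · rw [g.h.mem_QQ_smul k, hk b le_rfl]
    refine hle ?_
    rw [← hk 0 (Nat.zero_le b)]
    exact (g.h.mem_Z_smul k).mp hz

/-- If walks of length `b` are conjugate then all of them are critical. -/
theorem crit_of_tr (ht : Tr M₁ M₂ true b) {q : ℕ → Vtx M₁ M₂} (hq : NB q b) (hA : IsA (q 0)) : Crit q b := by
  obtain ⟨p, hp⟩ := g.exists_crit
  obtain ⟨k, hk⟩ := ht p q hp.nb hq hp.isA hA
  exact g.crit_smul hp hq k hk

end GB

end CfsgLib.Goldschmidt
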